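import Cfsg.Agent.CpAut.RgdNoComp
import Cfsg.Agent.S0028
import Cfsg.Agent.ChevalleyStructure.D4Twisted
import Cfsg.Agent.ChevalleyStructure.NPerm
import Cfsg.Agent.S1100
import Cfsg.Agent.ChevalleyStructure.D4H1
import Cfsg.Agent.ChevalleyStructure.Elts
import Cfsg.Prelude.Def_ChevG2
import Cfsg.Agent.ChevalleyStructure.TwistedFix
import Mathlib
import Cfsg.Agent.S0144
import Cfsg.Agent.S1039
import Cfsg.Agent.S1092
import Cfsg.Agent.TitsThree.KExcGen
import Cfsg.Agent.CpAut.RgdSub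
import Cfsg.Agent.S1055
import Cfsg.Agent.CpAut.RgdConj
import Cfsg.Agent.S1071
import Cfsg.Agent.CpAut.RgdD4
import Cfsg.Agent.CpAut.RgdTwD4
import Cfsg.Agent.Lib.ListFast
import Cfsg.Agent.FastGrp
import Cfsg.Agent.Prune
set_option linter.all false
prune_inst 0x7ffcbdfbaff8addfffff7e7dfed7dffdfdfdffffffdefbcbbfe8a5ef8fdf4b027dc56b8d1fe850ff1fc360b430f87b03fbffeabfea6bdc7ffffd5df41ffbff8fedf7b508519d8cb40fbc0ff603f067ce7f3fffffffffffffffffffffffffffbeffffffffffff
open scoped Cfsg.Agent.FastGrp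

-- merged: Cfsg.Agent.CpAutTri.Dich
section

/-!
# Fixed points of an automorphism of order `p` with a nontrivial normal `p`-subgroup (S1814)

`charP_fixed` : `C_C(O_p(C)) ≤ O_p(C)` for `C = C_Y(x)`, `Y` with a filtered root group datum of characteristic `p`,
`x` an automorphism of order `p`, if `C` has a nontrivial normal `p`-subgroup.
-/

set_option autoImplicit false

namespace Cfsg.Agent.CpAutTri.Dich

open Subgroup Cfsg
open Cfsg.Agent.LThree (Comps)

universe u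

variable {Y : Type u} [Group Y] [Finite Y] {p : ℕ} [Fact p.Prime]

/-- the fixed subgroup of a `p`-automorphism of a group of characteristic `p` -/
theorem charP_sub (M : Subgroup Y) (hM : centralizer (pCore p ↥M : Set ↥M) ≤ pCore p ↥M) (x : MulAut Y)
    (hx : IsPGroup p (zpowers x)) (hxM : ∀ m, m ∈ M ↔ x m ∈ M) (hCM : fixedSubgroup x ≤ M) :
    centralizer (pCore p ↥(fixedSubgroup x) : Set ↥(fixedSubgroup x)) ≤ pCore p ↥(fixedSubgroup x) := by
  have hp : p.Prime := Fact.out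
  obtain ⟨Q, hQdef⟩ : ∃ Q : Subgroup Y, Q = (pCore p ↥M).map M.subtype := ⟨_, rfl⟩
  have hQM : Q ≤ M := by rw [hQdef]; exact map_subtype_le _
  have hQp : IsPGroup p ↥Q := by rw [hQdef]; exact (Lib.Cores.pCore_isPGroup p).map _
  have hMn : (pCore p ↥M).Normal := Lib.Cores.pCore_normal p
  have hQn : ∀ m ∈ M, ∀ q ∈ Q, m * q * m⁻¹ ∈ Q := by
    intro m hm q hq
    rw [hQdef] at hq ⊢
    obtain ⟨q', hq', rfl⟩ := hq
    exact ⟨⟨m, hm⟩ * q' * ⟨m, hm⟩⁻¹, hMn.conj_mem q' hq' ⟨m, hm⟩, rfl⟩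
  -- `x` normalises `Q`
  have hxM' : ∀ m ∈ M, x.symm m ∈ M := by
    intro m hm
    rw [hxM, MulEquiv.apply_symm_apply]
    exact hm
  let e : ↥M ≃* ↥M :=
    { toFun := fun m => ⟨x m, (hxM m).1 m.2⟩
      invFun := fun m => ⟨x.symm m, hxM' m m.2⟩
      left_inv := fun m => Subtype.ext (x.symm_apply_apply _)
      right_inv := fun m => Subtype.ext (x.apply_symm_apply _)
      map_mul' := fun a b => Subtype.ext (map_mul x _ _) }
  have hxQ : ∀ q ∈ Q, x q ∈ Q := by
    intro q hq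
    rw [hQdef] at hq ⊢
    obtain ⟨q', hq', rfl⟩ := hq
    have h1 := Lib.Cores.map_equiv_pCore e p
    refine ⟨e q', ?_, rfl⟩
    rw [← h1]
    exact ⟨q', hq', rfl⟩
  have hcent : ∀ y ∈ M, (∀ q ∈ Q, q * y = y * q) → y ∈ Q := by
    intro y hy h
    have h1 : (⟨y, hy⟩ : ↥M) ∈ centralizer (pCore p ↥M : Set ↥M) := by
      rw [mem_centralizer_iff]
      intro q hq
      apply Subtype.ext
      exact h q (by rw [hQdef]; exact ⟨q, hq, rfl⟩)
    rw [hQdef]
    exact ⟨_, hM h1, rfl⟩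
  -- `Q ∩ C ≤ O_p(C)`
  have hQC : Q.subgroupOf (fixedSubgroup x) ≤ pCore p ↥(fixedSubgroup x) := by
    apply Lib.Cores.le_pCore
    · refine ⟨fun q hq g => ?_⟩
      rw [mem_subgroupOf] at hq ⊢
      exact hQn g (hCM g.2) q hq
    · exact hQp.comap_subtype
  -- the `p'`-elements of `C(O_p(C))` are trivial
  have key : ∀ y : ↥(fixedSubgroup x), y ∈ centralizer (pCore p ↥(fixedSubgroup x) : Set ↥(fixedSubgroup x)) →
      (orderOf y).Coprime p → y = 1 := by
    intro y hy ho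
    let G := Y ⋊[MonoidHom.id (MulAut Y)] MulAut Y
    have hfin : Finite G := Finite.of_equiv _ SemidirectProduct.equivProd.symm
    let iY : Y →* G := SemidirectProduct.inl
    let iA : MulAut Y →* G := SemidirectProduct.inr
    have hconj : ∀ u : Y, iA x * iY u * (iA x)⁻¹ = iY (x u) := by
      intro u
      rw [← map_inv]
      have := SemidirectProduct.inl_aut (φ := MonoidHom.id (MulAut Y)) x u
      exact this.symm
    have hyx : x (y : Y) = y := y.2
    have hS := Cfsg.Agent.S0028.result (G := G) p (zpowers (iA x)) (zpowers (iY y)) (Q.map iY)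
      (by
        have h1 : zpowers (iA x) = (zpowers x).map iA := (MonoidHom.map_zpowers iA x).symm
        rw [h1]
        exact hx.map iA)
      (by
        rw [Nat.card_zpowers]
        have h1 : orderOf (iY y) ∣ orderOf y := by
          apply orderOf_dvd_of_pow_eq_one
          rw [← map_pow, ← Subgroup.coe_pow, pow_orderOf_eq_one, Subgroup.coe_one, map_one]
        exact Nat.Coprime.coprime_dvd_left h1 ho)
      (hQp.map iY)
      (by
        rw [zpowers_le, mem_centralizer_iff]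
        intro g hg
        obtain ⟨k, rfl⟩ := mem_zpowers_iff.1 hg
        have h1 : Commute (iA x) (iY (y : Y)) := by
          have h2 := hconj y
          rw [hyx, mul_inv_eq_iff_eq_mul] at h2
          exact h2
        exact (h1.zpow_right k).symm)
      (by
        have h0 : ∀ a ∈ Q.map iY, iA x * a * (iA x)⁻¹ ∈ Q.map iY := by
          rintro _ ⟨q, hq, rfl⟩
          rw [hconj]
          exact ⟨x q, hxQ q hq, rfl⟩
        rw [zpowers_le]
        exact Subgroup.mem_normalizer_fintype h0)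
      (by
        have h0 : ∀ a ∈ Q.map iY, iY y * a * (iY y)⁻¹ ∈ Q.map iY := by
          rintro _ ⟨q, hq, rfl⟩
          exact ⟨y * q * (y : Y)⁻¹, hQn y (hCM y.2) q hq, by rw [map_mul, map_mul, map_inv]⟩
        rw [zpowers_le]
        exact Subgroup.mem_normalizer_fintype h0)
      (by
        rintro _ ⟨⟨q, hq, rfl⟩, hc⟩
        have h1 := (mem_centralizer_iff.1 (show iY q ∈ centralizer (zpowers (iA x) : Set G) from hc)) (iA x)
          (mem_zpowers _)
        have h2 : iY (x q) = iY q := by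
          rw [← hconj, h1, mul_inv_cancel_right]
        have h3 : x q = q := SemidirectProduct.inl_injective h2
        have h4 : (⟨q, h3⟩ : ↥(fixedSubgroup x)) ∈ pCore p ↥(fixedSubgroup x) := hQC hq
        rw [mem_centralizer_iff]
        intro g hg
        obtain ⟨k, rfl⟩ := mem_zpowers_iff.1 hg
        have h5 := (mem_centralizer_iff.1 hy) _ h4
        have h6 : Commute (iY (y : Y)) (iY q) := by
          have h7 : q * (y : Y) = y * q := congrArg Subtype.val h5
          show iY y * iY q = iY q * iY y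
          rw [← map_mul, ← map_mul, h7]
        exact (h6.zpow_left k).eq)
    have h1 : ∀ q ∈ Q, q * (y : Y) = y * q := by
      intro q hq
      have h2 := (mem_centralizer_iff.1 (hS (mem_zpowers (iY (y : Y))))) (iY q) ⟨q, hq, rfl⟩
      rw [← map_mul, ← map_mul] at h2
      exact SemidirectProduct.inl_injective h2
    have h2 : (y : Y) ∈ Q := hcent y (hCM y.2) h1
    obtain ⟨k, hk⟩ := hQp ⟨_, h2⟩
    have hk' : (y : Y) ^ p ^ k = 1 := congrArg Subtype.val hk
    have h3 : y ^ p ^ k = 1 := Subtype.ext (by rw [Subgroup.coe_pow, hk']; rfl)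
    have h4 : orderOf y ∣ p ^ k := orderOf_dvd_of_pow_eq_one h3
    have h5 : (orderOf y).Coprime (p ^ k) := ho.pow_right k
    have h6 : orderOf y = 1 := Nat.Coprime.eq_one_of_dvd h5 h4
    exact orderOf_eq_one_iff.1 h6
  -- `C(O_p(C))` is a normal `p`-subgroup
  have hn : (pCore p ↥(fixedSubgroup x)).Normal := Lib.Cores.pCore_normal p
  apply Lib.Cores.le_pCore
  · infer_instance
  · intro y
    obtain ⟨m, hm⟩ : ∃ m, m = orderOf y := ⟨_, rfl⟩
    have hm0 : m ≠ 0 := by rw [hm]; exact (orderOf_pos y).ne'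
    obtain ⟨k, m', hm', hmk⟩ := Nat.exists_eq_pow_mul_and_not_dvd hm0 p hp.ne_one
    refine ⟨k, ?_⟩
    have hmem : (y : ↥(fixedSubgroup x)) ^ p ^ k ∈
        centralizer (pCore p ↥(fixedSubgroup x) : Set ↥(fixedSubgroup x)) := pow_mem y.2 _
    have h1 := key _ hmem (by
      have h2 : ((y : ↥(fixedSubgroup x)) ^ p ^ k) ^ m' = 1 := by
        rw [← pow_mul, ← hmk, hm, ← Subgroup.coe_pow, pow_orderOf_eq_one, Subgroup.coe_one]
      have h3 : orderOf ((y : ↥(fixedSubgroup x)) ^ p ^ k) ∣ m' := orderOf_dvd_of_pow_eq_one h2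
      exact Nat.Coprime.coprime_dvd_left h3 ((Nat.Prime.coprime_iff_not_dvd hp).2 hm').symm)
    exact Subtype.ext h1

variable [IsSimpleGroup Y]

/-- **Fixed subgroups with a nontrivial normal `p`-subgroup have characteristic `p`.** -/
theorem charP_fixed (hG : KFacts.RgdFilt.HasFilt p Y) (hc : ∃ a b : Y, a * b ≠ b * a) {x : MulAut Y}
    (hx : orderOf x = p) {N : Subgroup Y} (hN : N ≤ fixedSubgroup x) (hNp : IsPGroup p N) (hN1 : N ≠ ⊥)
    (hn : ∀ g ∈ fixedSubgroup x, ∀ n ∈ N, g * n * g⁻¹ ∈ N) :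
    centralizer (pCore p ↥(fixedSubgroup x) : Set ↥(fixedSubgroup x)) ≤ pCore p ↥(fixedSubgroup x) := by
  have hK : IsPGroup p (zpowers x) := by
    rw [IsPGroup.iff_card]
    exact ⟨1, by rw [Nat.card_zpowers, hx, pow_one]⟩
  have hxN : ∀ n ∈ N, x n = n := fun n hn' => hN hn'
  refine charP_sub (normalizer (N : Set Y)) (hG.local_char hc hNp hN1) x hK ?_ ?_
  · intro m
    have h1 : ∀ m ∈ normalizer (N : Set Y), x m ∈ normalizer (N : Set Y) := by
      intro m hm
      apply Subgroup.mem_normalizer_fintype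
      intro a ha
      have h2 := (mem_normalizer_iff.1 hm a).1 ha
      have h3 : x m * a * (x m)⁻¹ = m * a * m⁻¹ := by
        conv_lhs => rw [← hxN a ha]
        rw [← map_mul, ← map_inv, ← map_mul]
        exact hxN _ h2
      rw [h3]
      exact h2
    refine ⟨h1 m, fun hm => ?_⟩
    have h2 : ∀ k : ℕ, ∀ m ∈ normalizer (N : Set Y), (x ^ k) m ∈ normalizer (N : Set Y) := by
      intro k
      induction k with
      | zero => intro m hm; exact hm
      | succ k ih => intro m hm; rw [pow_succ, MulAut.mul_apply]; exact ih _ (h1 m hm)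
    have h3 := h2 (p - 1) _ hm
    have hp : p.Prime := Fact.out
    have h4 : (x ^ (p - 1)) (x m) = m := by
      rw [← MulAut.mul_apply, ← pow_succ, Nat.sub_add_cancel hp.one_lt.le, ← hx, pow_orderOf_eq_one]
      rfl
    rwa [h4] at h3
  · intro g hg
    exact Subgroup.mem_normalizer_fintype (hn g hg)

end Cfsg.Agent.CpAutTri.Dich

end

-- merged: Cfsg.Agent.CpAutTri.Bru
section

/-!
# Bruhat decomposition of the elements fixed by triality (S1814, triality in characteristic 3)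

`exists_bru`, `bru_unique` : normal form `g = u₁ n u₂` in `D₄(K)`; `sig_bru` : `σ = sig φ` maps normal forms to normal forms.
-/

set_option autoImplicit false

namespace Cfsg.Agent.CpAutTri.Bru

open Cfsg.Lie Cfsg.Agent.ChevalleyStructure
open Cfsg.Agent.ChevalleyStructure.TwistedU Cfsg.Agent.ChevalleyStructure.D4Comm
open Cfsg.Agent.ChevalleyStructure.D4Pos (mem_ordA_iff ordA lprod_inj)
open Cfsg.Agent.ChevalleyStructure.D4NConj (nR hR torG nG)
open Cfsg.Agent.ChevalleyStructure.D4RGD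
open Cfsg.Agent.ChevalleyStructure.D4U
open Cfsg.Agent.ChevalleyStructure.GraphSymm
open Cfsg.Agent.ChevalleyStructure.D4Fixed (sig fix coe_sig)

theorem hD : Elts.InList chevD4 := by simp [Elts.InList]

/-- triality on the roots -/
def rho : Equiv.Perm (Fin 24) := symmD4a.σ

/-- the signs -/
def eps (r : Fin 24) : ℤ := symmD4a.ε r

theorem eps_cases : ∀ r, eps r = 1 ∨ eps r = -1 := by decide +kernel

theorem eps_neg : ∀ r, eps (negF r) = eps r := by decide +kernel

theorem rho_neg : ∀ r, (rho (negF r)).val = 23 - (rho r).val := by decide +kernel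

theorem rho_pos : ∀ r, 12 ≤ (rho r).val ↔ 12 ≤ r.val := by decide +kernel

theorem rho_inv_apply (r : Fin 24) : rho⁻¹ (rho r) = r := rho.symm_apply_apply r

section
variable {K : Type*} [Field K]

theorem sig_x (φ : K →+* K) (r : Fin 24) (t : K) :
    sig φ (xG r.val t) = xG (rho r).val ((eps r : K) * φ t) :=
  sig_xG φ r.2 rfl rfl t

theorem eps_ne (r : Fin 24) : ((eps r : ℤ) : K) ≠ 0 := by
  rcases eps_cases r with h | h <;> rw [h] <;> simp

theorem eps_inv (r : Fin 24) : ((eps r : ℤ) : K)⁻¹ = eps r := by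
  rcases eps_cases r with h | h <;> rw [h] <;> simp

theorem sig_nR (φ : K →+* K) (r : Fin 24) (t : K) :
    sig φ (nR r.val t) = nR (rho r).val ((eps r : K) * φ t) := by
  have h1 : (23 - r.val : ℕ) = (negF r).val := rfl
  rw [D4NConj.nR_def, D4NConj.nR_def, h1, map_mul, map_mul, sig_x, sig_x, eps_neg, rho_neg, mul_inv, eps_inv,
    map_neg, map_inv₀, mul_neg]

theorem x_ne_one {r : Fin 24} {t : K} (ht : t ≠ 0) : xG r.val t ≠ 1 := fun h => ht ((xG_eq_one_iff r.2 t).1 h)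

/-- different root groups meet trivially -/
theorem root_inj {r s : Fin 24} {t u : K} (h : xG r.val t = xG s.val u) (ht : t ≠ 0) : r = s := by
  by_contra hrs
  have h2 := congrArg (fun g : GL chevD4.Idx K => (g : Matrix chevD4.Idx chevD4.Idx K) (Sum.inr r)
    (Sum.inr ⟨chevD4.neg r, NPerm.neg_lt hD r.2⟩)) h
  simp only [coe_xG] at h2
  have e1 := NPerm.x_entry_self hD (r := r.val) r.2 t
  have e2 := NPerm.x_entry_ne hD (r := r.val) (s := s.val) r.2 s.2 (fun h => hrs (Fin.ext h.symm)) u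
  have h3 : -(t ^ 2) = 0 := by rw [← e1, ← e2]; exact h2
  rw [neg_eq_zero] at h3
  exact ht (pow_eq_zero_iff two_ne_zero |>.1 h3)

/-! ### the stable subgroups -/

theorem sig_U (φ : K →+* K) {u : GL chevD4.Idx K} (hu : u ∈ chevD4.posUnipotent K) :
    sig φ u ∈ chevD4.posUnipotent K := by
  have key : chevD4.posUnipotent K ≤ (chevD4.posUnipotent K).comap (sig φ) := by
    refine (Subgroup.closure_le _).2 ?_
    rintro g ⟨r, t, hr, hg⟩
    rw [D4Pos.isPosRoot_iff] at hr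
    rw [(eq_xG_iff g r t).1 hg]
    show sig φ (xG (⟨r, hr.2⟩ : Fin 24).val t) ∈ chevD4.posUnipotent K
    rw [sig_x]
    refine Subgroup.subset_closure ⟨_, _, (D4Pos.isPosRoot_iff _).2 ⟨(rho_pos _).2 hr.1, Fin.is_lt _⟩, coe_xG _ _⟩
  exact key hu

theorem nR_mem' {r : Fin 24} {t : K} (ht : t ≠ 0) : nR r.val t ∈ chevD4.monomialSubgroup K := nR_mem r.2 ht

theorem sig_N (φ : K →+* K) {n : GL chevD4.Idx K} (hn : n ∈ chevD4.monomialSubgroup K) :
    sig φ n ∈ chevD4.monomialSubgroup K := by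
  have h1 : ∀ (r : Fin 24) (t : K), t ≠ 0 → sig φ (nR r.val t) ∈ chevD4.monomialSubgroup K := by
    intro r t ht
    rw [sig_nR]
    exact nR_mem' (mul_ne_zero (eps_ne r) ((map_ne_zero φ).2 ht))
  have key : chevD4.monomialSubgroup K ≤ (chevD4.monomialSubgroup K).comap (sig φ) := by
    rw [monomial_le_iff]
    constructor
    · rw [diagonal_le_iff]
      intro r hr t ht
      show sig φ (hR r t) ∈ chevD4.monomialSubgroup K
      rw [D4NConj.hR_def, map_mul]
      exact mul_mem (h1 ⟨r, hr⟩ t ht) (h1 ⟨r, hr⟩ (-1) (neg_ne_zero.2 one_ne_zero))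
    · intro r hr
      exact h1 ⟨r, hr⟩ 1 one_ne_zero
  exact key hn

/-- `N` acts on the root groups through `w` -/
abbrev Act (n : GL chevD4.Idx K) (w : Equiv.Perm (Fin 24)) : Prop := (d4rgd K).Acts n w

theorem exists_act {n : GL chevD4.Idx K} (hn : n ∈ chevD4.monomialSubgroup K) : ∃ w, Act n w := by
  rw [← d4rgd_N] at hn
  obtain ⟨l, hl⟩ := (d4rgd K).acts_of_mem_N hn
  exact ⟨_, hl⟩

theorem Act.x {n : GL chevD4.Idx K} {w : Equiv.Perm (Fin 24)} (h : Act n w) (r : Fin 24) (t : K) :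
    ∃ u, n * xG r.val t * n⁻¹ = xG (w r).val u :=
  mem_rootSubgroup.1 ((h.1 r (xG r.val t)).1 (xG_mem_rootSubgroup r.val t))

theorem Act.x_ne {n : GL chevD4.Idx K} {w : Equiv.Perm (Fin 24)} (h : Act n w) (r : Fin 24) {t : K} (ht : t ≠ 0) :
    ∃ u, u ≠ 0 ∧ n * xG r.val t * n⁻¹ = xG (w r).val u := by
  obtain ⟨u, hu⟩ := h.x r t
  refine ⟨u, ?_, hu⟩
  rintro rfl
  rw [xG_zero, mul_inv_eq_one] at hu
  exact x_ne_one ht (mul_eq_left.1 hu)

theorem Act.unique {n : GL chevD4.Idx K} {w w' : Equiv.Perm (Fin 24)} (h : Act n w) (h' : Act n w') : w = w' := by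
  refine Equiv.ext fun r => ?_
  obtain ⟨u, hu, e⟩ := h.x_ne r (one_ne_zero (α := K))
  obtain ⟨u', e'⟩ := h'.x r (1 : K)
  exact root_inj (e.symm.trans e') hu

/-- the part of `U` made negative by `w` -/
def UM (K : Type*) [Field K] (w : Equiv.Perm (Fin 24)) : Subgroup (GL chevD4.Idx K) :=
  rspan xG {k | ∃ h : k < 24, 12 ≤ k ∧ (w ⟨k, h⟩).val < 12}

theorem UM_le (w : Equiv.Perm (Fin 24)) : UM K w ≤ chevD4.posUnipotent K := by
  refine rspan_le xG ?_
  rintro k ⟨h1, h2, -⟩ t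
  exact Subgroup.subset_closure ⟨k, t, (D4Pos.isPosRoot_iff _).2 ⟨h2, h1⟩, coe_xG _ _⟩

theorem U_inf_V {g : GL chevD4.Idx K} (h1 : g ∈ chevD4.borelSubgroup K) (h2 : g ∈ chevD4.negUnipotent K) : g = 1 := by
  have h3 : g ∈ chevD4.borelSubgroup K ⊓ chevD4.negUnipotent K := ⟨h1, h2⟩
  rwa [(Cfsg.Agent.S1037.result (F := K) chevD4 hD).1, Subgroup.mem_bot] at h3

theorem x_mem_U {r : Fin 24} (hr : 12 ≤ r.val) (t : K) : xG r.val t ∈ chevD4.posUnipotent K :=
  Subgroup.subset_closure ⟨_, _, (D4Pos.isPosRoot_iff _).2 ⟨hr, r.2⟩, coe_xG _ _⟩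

theorem x_mem_V {r : Fin 24} (hr : r.val < 12) (t : K) : xG r.val t ∈ chevD4.negUnipotent K :=
  Subgroup.subset_closure ⟨_, _, (isNegRoot_iff _).2 hr, coe_xG _ _⟩

theorem U_le_B : chevD4.posUnipotent K ≤ chevD4.borelSubgroup K := le_sup_left

theorem H_le_B : chevD4.diagonalSubgroup K ≤ chevD4.borelSubgroup K := le_sup_right

/-- the group of S1100 -/
def Um (n : GL chevD4.Idx K) : Subgroup (GL chevD4.Idx K) :=
  Subgroup.closure {x : GL chevD4.Idx K | ∃ (r : ℕ) (t : K), chevD4.IsPosRoot r ∧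
    (chevD4.rootSubgroup K r).map (MulAut.conj n).toMonoidHom ≤ chevD4.negUnipotent K ∧
      (x : Matrix chevD4.Idx chevD4.Idx K) = chevD4.x K r t}

theorem Um_eq {n : GL chevD4.Idx K} {w : Equiv.Perm (Fin 24)} (h : Act n w) : Um n = UM K w := by
  apply le_antisymm
  · refine (Subgroup.closure_le _).2 ?_
    rintro g ⟨r, t, hr, hm, hg⟩
    rw [D4Pos.isPosRoot_iff] at hr
    rw [(eq_xG_iff g r t).1 hg]
    refine mem_rspan xG (S := {k | ∃ h : k < 24, 12 ≤ k ∧ (w ⟨k, h⟩).val < 12}) ⟨hr.2, hr.1, ?_⟩ t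
    by_contra hw
    rw [not_lt] at hw
    obtain ⟨u, hu, e⟩ := h.x_ne ⟨r, hr.2⟩ (one_ne_zero (α := K))
    have h1 : xG (w ⟨r, hr.2⟩).val u ∈ chevD4.negUnipotent K :=
      hm ⟨xG r (1 : K), xG_mem_rootSubgroup r 1, e⟩
    exact x_ne_one hu (U_inf_V (U_le_B (x_mem_U hw u)) h1)
  · refine rspan_le xG ?_
    rintro k ⟨h1, h2, h3⟩ t
    refine Subgroup.subset_closure ⟨k, t, (D4Pos.isPosRoot_iff _).2 ⟨h2, h1⟩, ?_, coe_xG _ _⟩
    rintro _ ⟨y, hy, rfl⟩
    obtain ⟨a, rfl⟩ := mem_rootSubgroup.1 hy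
    obtain ⟨u, e⟩ := h.x ⟨k, h1⟩ a
    show n * xG k a * n⁻¹ ∈ _
    rw [show n * xG k a * n⁻¹ = xG (w ⟨k, h1⟩).val u from e]
    exact x_mem_V h3 u

/-- **Existence of the normal form.** -/
theorem exists_bru {g : GL chevD4.Idx K} (hg : g ∈ chevD4.group K) :
    ∃ u ∈ chevD4.posUnipotent K, ∃ n ∈ chevD4.monomialSubgroup K, ∃ w, Act n w ∧ ∃ v ∈ UM K w, g = u * n * v := by
  obtain ⟨b, hb, n, hn, v, hv, rfl⟩ := (Cfsg.Agent.S1100.result (F := K) chevD4 hD).1 g hg
  obtain ⟨u, hu, h, hh, rfl⟩ := Cfsg.Agent.S1100.exists_mul_of_mem_borel hD hb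
  obtain ⟨w, hw⟩ := exists_act hn
  have hw' : Act (h * n) w := by
    have := (RootData.RGD.acts_of_mem_H (R := d4rgd K) (h := h) hh).mul hw
    rwa [one_mul] at this
  refine ⟨u, hu, h * n, mul_mem (diagonal_le_monomial K hh) hn, w, hw', v, ?_, by simp only [mul_assoc]⟩
  rw [← Um_eq hw]
  exact hv

/-- **Uniqueness of the normal form.** -/
theorem bru_unique {u n v u' n' v' : GL chevD4.Idx K} {w w' : Equiv.Perm (Fin 24)} (hu : u ∈ chevD4.posUnipotent K)
    (hn : n ∈ chevD4.monomialSubgroup K) (hw : Act n w) (hv : v ∈ UM K w) (hu' : u' ∈ chevD4.posUnipotent K)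
    (hn' : n' ∈ chevD4.monomialSubgroup K) (hw' : Act n' w') (hv' : v' ∈ UM K w') (h : u * n * v = u' * n' * v') :
    u = u' ∧ n = n' ∧ v = v' := by
  have S := (Cfsg.Agent.S1100.result (F := K) chevD4 hD).2
  have hvU : v ∈ Um n := by rw [Um_eq hw]; exact hv
  have hvU' : v' ∈ Um n' := by rw [Um_eq hw']; exact hv'
  have h1 : n⁻¹ * n' ∈ chevD4.diagonalSubgroup K :=
    (S u u' n n' v v' (U_le_B hu) (U_le_B hu') hn hn' hvU hvU' h).1
  have h2 : Act (n * (n⁻¹ * n')) (w * 1) := hw.mul (RootData.RGD.acts_of_mem_H (R := d4rgd K) h1)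
  rw [mul_inv_cancel_left, mul_one] at h2
  have h3 := h2.unique hw'
  subst h3
  have hvn : v' ∈ Um n := by rw [Um_eq hw]; exact hv'
  have h4 : n * (n⁻¹ * n') * n⁻¹ ∈ chevD4.diagonalSubgroup K := ((hw.2 _).1 h1)
  have h5 : u * n * v = (u' * (n * (n⁻¹ * n') * n⁻¹)) * n * v' := by
    rw [h]
    group
  obtain ⟨h6, h7⟩ := (S u (u' * (n * (n⁻¹ * n') * n⁻¹)) n n v v' (U_le_B hu)
    (mul_mem (U_le_B hu') (H_le_B h4)) hn hn hvU hvn h5).2 rfl
  have h8 : n * (n⁻¹ * n') * n⁻¹ = u'⁻¹ * u := by rw [h6, inv_mul_cancel_left]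
  have h9 : n * (n⁻¹ * n') * n⁻¹ ∈ chevD4.posUnipotent K ⊓ chevD4.monomialSubgroup K :=
    ⟨by rw [h8]; exact Subgroup.mul_mem _ (Subgroup.inv_mem _ hu') hu, diagonal_le_monomial K h4⟩
  rw [(Cfsg.Agent.S1040.result (F := K) chevD4 hD).1, Subgroup.mem_bot] at h9
  have h10 : n = n' := by
    have h11 : n⁻¹ * n' = 1 := by
      have h12 : n⁻¹ * (n * (n⁻¹ * n') * n⁻¹) * n = n⁻¹ * n' := by group
      rw [← h12, h9]
      group
    exact inv_mul_eq_one.1 h11
  rw [h9, mul_one] at h6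
  exact ⟨h6, h10, h7⟩

/-! ### triality -/

/-- `σ` on the Weyl group -/
theorem sig_act (φ : K →+* K) {n : GL chevD4.Idx K} (hn : n ∈ chevD4.monomialSubgroup K) {w : Equiv.Perm (Fin 24)}
    (hw : Act n w) : Act (sig φ n) (rho * w * rho⁻¹) := by
  obtain ⟨w', hw'⟩ := exists_act (sig_N φ hn)
  have h1 : w' = rho * w * rho⁻¹ := by
    rw [eq_mul_inv_iff_mul_eq]
    refine Equiv.ext fun r => ?_
    obtain ⟨u, hu, e⟩ := hw.x_ne r (one_ne_zero (α := K))
    have e1 := congrArg (sig φ) e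
    rw [map_mul, map_mul, map_inv, sig_x, sig_x] at e1
    have h2 : ((eps r : ℤ) : K) * φ 1 ≠ 0 := by
      rw [map_one, mul_one]
      exact eps_ne r
    obtain ⟨u', hu', e2⟩ := hw'.x_ne (rho r) h2
    rw [Equiv.Perm.mul_apply, Equiv.Perm.mul_apply]
    exact root_inj (e2.symm.trans e1) hu'
  rw [← h1]
  exact hw'

theorem sig_UM (φ : K →+* K) {w : Equiv.Perm (Fin 24)} {v : GL chevD4.Idx K} (hv : v ∈ UM K w) :
    sig φ v ∈ UM K (rho * w * rho⁻¹) := by
  have key : UM K w ≤ (UM K (rho * w * rho⁻¹)).comap (sig φ) := by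
    refine rspan_le xG ?_
    rintro k ⟨h1, h2, h3⟩ t
    show sig φ (xG (⟨k, h1⟩ : Fin 24).val t) ∈ UM K (rho * w * rho⁻¹)
    rw [sig_x]
    refine mem_rspan xG (S := {k | ∃ h : k < 24, 12 ≤ k ∧ ((rho * w * rho⁻¹) ⟨k, h⟩).val < 12}) ⟨Fin.is_lt _, ?_, ?_⟩ _
    · exact (rho_pos _).2 h2
    · have h4 : (rho * w * rho⁻¹) (rho ⟨k, h1⟩) = rho (w ⟨k, h1⟩) := by
        rw [Equiv.Perm.mul_apply, Equiv.Perm.mul_apply, rho_inv_apply]
      show ((rho * w * rho⁻¹) (rho ⟨k, h1⟩)).val < 12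
      rw [h4]
      have := rho_pos (w ⟨k, h1⟩)
      omega
  exact key hv

/-- **The factors of a fixed element are fixed.** -/
theorem bru_fix {φ : K →+* K} {u n v : GL chevD4.Idx K} {w : Equiv.Perm (Fin 24)} (hu : u ∈ chevD4.posUnipotent K)
    (hn : n ∈ chevD4.monomialSubgroup K) (hw : Act n w) (hv : v ∈ UM K w) (h : sig φ (u * n * v) = u * n * v) :
    sig φ u = u ∧ sig φ n = n ∧ sig φ v = v := by
  rw [map_mul, map_mul] at h
  exact bru_unique (sig_U φ hu) (sig_N φ hn) (sig_act φ hn hw) (sig_UM φ hv) hu hn hw hv h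

/-- the permutation of a fixed element of `N` commutes with triality -/
theorem act_comm {φ : K →+* K} {n : GL chevD4.Idx K} (hn : n ∈ chevD4.monomialSubgroup K) {w : Equiv.Perm (Fin 24)}
    (hw : Act n w) (h : sig φ n = n) (r : Fin 24) : w (rho r) = rho (w r) := by
  have h1 := sig_act φ hn hw
  rw [h] at h1
  have h2 := h1.unique hw
  have h3 := congrArg (fun f : Equiv.Perm (Fin 24) => f (rho r)) h2
  simp only [Equiv.Perm.mul_apply, rho_inv_apply] at h3
  exact h3.symm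

end

end Cfsg.Agent.CpAutTri.Bru

end

-- merged: Cfsg.Agent.CpAutTri.Iota
section

/-!
# The fixed points of triality on the Lie algebra of type `D₄` (S1814, triality in characteristic 3)

`iota : L(G₂) → L(D₄)`, `e_r ↦` the sum over an orbit of triality (with signs); `iota` intertwines the root elements of
`G₂` with the products of the root elements of `D₄` over the orbits of triality.
-/

set_option autoImplicit false

namespace Cfsg.Agent.CpAutTri.Iota

open Cfsg.Lie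
open Cfsg.Agent.ChevalleyStructure.LaurentWord
open Cfsg.Agent.ChevalleyStructure.D4Cols
open Cfsg.Agent.ChevalleyStructure.D4Fixed
open Cfsg.Agent.ChevalleyStructure
open Cfsg.Agent.ChevalleyStructure.GraphSymm
open scoped Matrix

/-! ### linear maps on sparse vectors -/

/-- the linear map `e_j ↦ Σ c e_i`, `(i, c) ∈ π j`, on sparse vectors -/
def applyI (π : ℕ → List (ℕ × ℤ)) (v : List Term) : List Term :=
  v.flatMap fun τ => (π τ.1).map fun q => (q.1, τ.2.1 * q.2, τ.2.2.1, τ.2.2.2)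

/-- its matrix -/
def iMat (D D' : ChevalleyDatum) (π : ℕ → List (ℕ × ℤ)) (F : Type*) [Field F] : Matrix D.Idx D'.Idx F :=
  Matrix.of fun i j => ((π (code D' j)).map fun q => if q.1 = code D i then (q.2 : F) else 0).sum

section Eval
variable {F : Type*} [Field F] {D D' : ChevalleyDatum} {π : ℕ → List (ℕ × ℤ)}

theorem ev_append (t u : F) (l l' : List Term) (k : ℕ) : ev t u (l ++ l') k = ev t u l k + ev t u l' k := by
  simp only [ev, List.map_append, List.sum_append]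

theorem ev_map_smul (t u : F) (m : Mono) (l : List (ℕ × ℤ)) (k : ℕ) :
    ev t u (l.map fun q => (q.1, m.1 * q.2, m.2.1, m.2.2)) k =
      (l.map fun q => if q.1 = k then (q.2 : F) else 0).sum * evM t u m := by
  induction l with
  | nil => simp [ev_nil]
  | cons q l ih =>
    rw [List.map_cons, ev_cons, ih, List.map_cons, List.sum_cons, add_mul]
    congr 1
    simp only
    split_ifs
    · unfold evM
      push_cast
      ring
    · rw [zero_mul]

theorem vec_applyI (t u : F) (v : List Term) (hv : ∀ τ ∈ v, τ.1 < D'.rank + D'.nroots) :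
    vec D t u (applyI π v) = iMat D D' π F *ᵥ vec D' t u v := by
  funext i
  simp only [Matrix.mulVec, dotProduct]
  induction v with
  | nil =>
    show ev t u [] _ = _
    simp [vec, ev_nil]
  | cons τ v ih =>
    have hsplit : ∀ j : D'.Idx, vec D' t u (τ :: v) j = (if τ.1 = code D' j then evM t u τ.2 else 0) + vec D' t u v j :=
      fun j => ev_cons t u τ v _
    simp only [hsplit, mul_add, Finset.sum_add_distrib]
    rw [← ih (fun τ' hτ' => hv τ' (by simp [hτ']))]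
    have h1 : applyI π (τ :: v) = ((π τ.1).map fun q => (q.1, τ.2.1 * q.2, τ.2.2.1, τ.2.2.2)) ++ applyI π v :=
      List.flatMap_cons
    show ev t u (applyI π (τ :: v)) _ = _
    rw [h1, ev_append, ev_map_smul]
    congr 1
    obtain ⟨j, hj⟩ := exists_code D' (hv τ (by simp))
    rw [Finset.sum_eq_single j]
    · rw [if_pos hj.symm]
      congr 1
      show _ = ((π (code D' j)).map fun q => if q.1 = code D i then (q.2 : F) else 0).sum
      rw [hj]
    · intro j' _ hj'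
      rw [if_neg, mul_zero]
      intro h
      exact hj' (code_injective D' (hj.trans h).symm)
    · intro h
      exact absurd (Finset.mem_univ j) h

end Eval

/-- the check that `w₁ π = π w₂` -/
def checkInt (n nr n' nr' : ℕ) (cols cols' : ℕ → ℕ → List (ℕ × ℤ × ℕ)) (π : ℕ → List (ℕ × ℤ))
    (w₁ w₂ : List (ℕ × Mono)) : Bool :=
  w₁.all (fun l => decide (l.1 < nr)) && w₂.all (fun l => decide (l.1 < nr')) &&
  (List.range n').all fun j =>
    ((applyW n' cols' w₂ [(j, 1, 0, 0)]).all fun τ => decide (τ.1 < n')) &&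
    (subV (applyW n cols w₁ (applyI π [(j, 1, 0, 0)])) (applyI π (applyW n' cols' w₂ [(j, 1, 0, 0)]))).isEmpty

theorem int_of_check {F : Type*} [Field F] (D D' : ChevalleyDatum) {cols cols' : ℕ → ℕ → List (ℕ × ℤ × ℕ)}
    (hc : ColsOK D cols) (hc' : ColsOK D' cols') {t u : F} (ht : t ≠ 0) (hu : u ≠ 0) {π : ℕ → List (ℕ × ℤ)}
    {w₁ w₂ : List (ℕ × Mono)}
    (h : checkInt (D.rank + D.nroots) D.nroots (D'.rank + D'.nroots) D'.nroots cols cols' π w₁ w₂ = true) :
    D.wordMat F (evW t u w₁) * iMat D D' π F = iMat D D' π F * D'.wordMat F (evW t u w₂) := by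
  unfold checkInt at h
  rw [Bool.and_eq_true, Bool.and_eq_true] at h
  obtain ⟨⟨h1, h2⟩, h3⟩ := h
  have h1' : ∀ l ∈ w₁, l.1 < D.nroots := by simpa using h1
  have h2' : ∀ l ∈ w₂, l.1 < D'.nroots := by simpa using h2
  rw [List.all_eq_true] at h3
  have hext : ∀ j : D'.Idx, (D.wordMat F (evW t u w₁) * iMat D D' π F) *ᵥ Pi.single j 1 =
      (iMat D D' π F * D'.wordMat F (evW t u w₂)) *ᵥ Pi.single j 1 := by
    intro j
    rw [← Matrix.mulVec_mulVec, ← Matrix.mulVec_mulVec]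
    have h3j := h3 (code D' j) (List.mem_range.2 (code_lt D' j))
    rw [Bool.and_eq_true] at h3j
    obtain ⟨h4, h5⟩ := h3j
    have h4' : ∀ τ ∈ applyW (D'.rank + D'.nroots) cols' w₂ [(code D' j, 1, 0, 0)], τ.1 < D'.rank + D'.nroots := by
      simpa using h4
    rw [← vec_single D' t u j, ← vec_applyI (D := D) (π := π) t u _ (by
        intro τ hτ
        rw [List.mem_singleton] at hτ
        rw [hτ]
        exact code_lt D' j), ← vec_applyW D hc ht hu _ h1', ← vec_applyW D' hc' ht hu _ h2',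
      ← vec_applyI (D := D) (π := π) t u _ h4']
    rw [List.isEmpty_iff] at h5
    funext i
    have h6 := ev_subV t u (applyW (D.rank + D.nroots) cols w₁ (applyI π [(code D' j, 1, 0, 0)]))
      (applyI π (applyW (D'.rank + D'.nroots) cols' w₂ [(code D' j, 1, 0, 0)])) (code D i)
    rw [h5, ev_nil] at h6
    exact (sub_eq_zero.1 h6.symm)
  ext i j
  have := congrFun (hext j) i
  rwa [Matrix.mulVec_single_one, Matrix.mulVec_single_one] at this

/-! ### the map `L(G₂) → L(D₄)` -/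

/-- the images of the basis vectors of `L(G₂)` -/
def tab : List (List (ℕ × ℤ)) :=
  [[(0, 1), (2, 1), (3, 1)], [(1, 1)], [(4, -1)], [(5, -1)], [(6, -1), (7, -1), (10, 1)], [(8, 1), (11, -1), (12, -1)],
    [(9, 1), (14, 1), (15, 1)], [(13, 1)], [(18, 1)], [(22, 1), (17, 1), (16, 1)], [(23, 1), (20, -1), (19, -1)],
    [(25, -1), (24, -1), (21, 1)], [(26, -1)], [(27, -1)]]

/-- the images of the basis vectors of `L(G₂)` -/
def im (j : ℕ) : List (ℕ × ℤ) := tab.getD j []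

theorem colsG2 : ColsOK chevG2 (col chevG2) := fun _ _ _ _ => rfl

/-- the words over the simple root elements: `(G₂ root, D₄ orbit)` -/
def gens : List (ℕ × List ℕ) := [(6, [14]), (5, [9]), (7, [18, 13, 12]), (4, [5, 10, 11])]

private noncomputable def _root_.Cfsg.Agent.LsF.fbcaa43_0 : {f // @Cfsg.Agent.ChevalleyStructure.LaurentWord.addTerm = f} := ⟨_, by first | (delta Cfsg.Agent.ChevalleyStructure.LaurentWord.addTerm List.brecOn List.brecOn.go Cfsg.Agent.ChevalleyStructure.LaurentWord.addTerm._f; rewrite [Cfsg.Agent.LsF.iadd_pat, Cfsg.Agent.LsF.instDecEq_eq, Cfsg.Agent.LsF.instIDecEq_eq, Cfsg.Agent.LsF.dAnd_eq, Cfsg.Agent.LsF.ite_eq]; (try delta Cfsg.Agent.ChevalleyStructure.LaurentWord.addTerm.match_1); (try delta List.casesOn); first | dsimp -zeta only | exact rfl) | exact rfl⟩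
private noncomputable def _root_.Cfsg.Agent.LsF.fbcaa43_1 : {f // @Cfsg.Agent.ChevalleyStructure.LaurentWord.addCol = f} := ⟨_, by first | (delta Cfsg.Agent.ChevalleyStructure.LaurentWord.addCol List.brecOn List.brecOn.go Cfsg.Agent.ChevalleyStructure.LaurentWord.addCol._f; rewrite [Cfsg.Agent.LsF.fbcaa43_0.2, Cfsg.Agent.LsF.iadd_pat, Cfsg.Agent.LsF.imul_pat, Cfsg.Agent.LsF.icast_pat]; (try delta Cfsg.Agent.ChevalleyStructure.LaurentWord.addCol.match_1); (try delta List.casesOn); first | dsimp -zeta only | exact rfl) | exact rfl⟩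
private noncomputable def _root_.Cfsg.Agent.LsF.fbcaa43_2 : {f // @Cfsg.Agent.ChevalleyStructure.LaurentWord.applyX = f} := ⟨_, by first | (delta Cfsg.Agent.ChevalleyStructure.LaurentWord.applyX List.brecOn List.brecOn.go Cfsg.Agent.ChevalleyStructure.LaurentWord.applyX._f; rewrite [Cfsg.Agent.LsF.fbcaa43_1.2, Cfsg.Agent.LsF.decLt_eq, Cfsg.Agent.LsF.ite_eq]; (try delta Cfsg.Agent.ChevalleyStructure.LaurentWord.addTerm.match_1); (try delta List.casesOn); first | dsimp -zeta only | exact rfl) | exact rfl⟩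
private noncomputable def _root_.Cfsg.Agent.LsF.fbcaa43_3 : {f // @Cfsg.Agent.ChevalleyStructure.LaurentWord.applyW = f} := ⟨_, by first | (delta Cfsg.Agent.ChevalleyStructure.LaurentWord.applyW List.brecOn List.brecOn.go Cfsg.Agent.ChevalleyStructure.LaurentWord.applyW._f; rewrite [Cfsg.Agent.LsF.fbcaa43_2.2]; (try delta Cfsg.Agent.ChevalleyStructure.LaurentWord.applyW.match_1); (try delta List.casesOn); first | dsimp -zeta only | exact rfl) | exact rfl⟩
private noncomputable def _root_.Cfsg.Agent.LsF.fbcaa43_4 : {f // @Cfsg.Agent.ChevalleyStructure.LaurentWord.subV = f} := ⟨_, by first | (delta Cfsg.Agent.ChevalleyStructure.LaurentWord.subV List.brecOn List.brecOn.go Cfsg.Agent.ChevalleyStructure.LaurentWord.subV._f; rewrite [Cfsg.Agent.LsF.fbcaa43_0.2, Cfsg.Agent.LsF.ineg_pat]; (try delta Cfsg.Agent.ChevalleyStructure.LaurentWord.addTerm.match_1); (try delta List.casesOn); first | dsimp -zeta only | exact rfl) | exact rfl⟩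
private noncomputable def _root_.Cfsg.Agent.LsF.fbcaa43_5 : {f // @Cfsg.Agent.CpAutTri.Iota.applyI = f} := ⟨_, by first | (delta Cfsg.Agent.CpAutTri.Iota.applyI; rewrite [Cfsg.Agent.LsF.imul_pat, Cfsg.Agent.LsF.map_eq, Cfsg.Agent.LsF.flatMap_eq]; exact rfl) | exact rfl⟩
private noncomputable def _root_.Cfsg.Agent.LsF.fbcaa43_6 : {f // @Cfsg.Agent.CpAutTri.Iota.checkInt = f} := ⟨_, by first | (delta Cfsg.Agent.CpAutTri.Iota.checkInt; rewrite [Cfsg.Agent.LsF.fbcaa43_3.2, Cfsg.Agent.LsF.fbcaa43_4.2, Cfsg.Agent.LsF.fbcaa43_5.2, Cfsg.Agent.LsF.and_eq, Cfsg.Agent.LsF.decLt_eq, Cfsg.Agent.LsF.all_eq, Cfsg.Agent.LsF.range_eq, Cfsg.Agent.LsF.isEmpty_eq, Cfsg.Agent.LsF.decide_eq]; exact rfl) | exact rfl⟩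
private noncomputable def _root_.Cfsg.Agent.LsF.fbcaa43_7 : {f // @Cfsg.Agent.ChevalleyStructure.LaurentWord.col = f} := ⟨_, by first | (delta Cfsg.Agent.ChevalleyStructure.LaurentWord.col; rewrite [Cfsg.Agent.LsF.nadd_pat, Cfsg.Agent.LsF.nsub_pat, Cfsg.Agent.LsF.ineg_pat, Cfsg.Agent.LsF.instDecEq_eq, Cfsg.Agent.LsF.decLt_eq, Cfsg.Agent.LsF.map_eq, Cfsg.Agent.LsF.flatMap_eq, Cfsg.Agent.LsF.filter_eq, Cfsg.Agent.LsF.range_eq, Cfsg.Agent.LsF.agetD_eq, Cfsg.Agent.LsF.zipIdx_eq, Cfsg.Agent.LsF.ite_eq, Cfsg.Agent.LsF.decide_eq]; exact rfl) | exact rfl⟩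
private noncomputable def _root_.Cfsg.Agent.LsF.fbcaa43_8 : {f // @Cfsg.Agent.CpAutTri.Iota.im = f} := ⟨_, by first | (delta Cfsg.Agent.CpAutTri.Iota.im; rewrite [Cfsg.Agent.LsF.getD_eq]; exact rfl) | exact rfl⟩
theorem check_gens : (gens.all fun g => checkInt 28 24 14 12 (col chevD4) (col chevG2) im
    (g.2.map fun r => (r, 1, 1, 0)) [(g.1, 1, 1, 0)]) = true := by
  ((try (rewrite [Cfsg.Agent.LsF.fbcaa43_6.2, Cfsg.Agent.LsF.fbcaa43_7.2, Cfsg.Agent.LsF.fbcaa43_8.2, Cfsg.Agent.LsF.all_eq, Cfsg.Agent.LsF.map_eq])); decide +kernel)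

/-- The intertwining matrix. -/
def I (F : Type*) [Field F] : Matrix chevD4.Idx chevG2.Idx F := iMat chevD4 chevG2 im F

section Field

variable {F : Type*} [Field F]

theorem evW_map (t : F) (o : List ℕ) :
    evW t 1 (o.map fun r => (r, ((1, 1, 0) : Mono))) = o.map fun r => (r, t) := by
  unfold evW
  rw [List.map_map]
  apply List.map_congr_left
  intro r _
  simp [evM]

theorem int_gens {r : ℕ} {o : List ℕ} (h : (r, o) ∈ gens) (t : F) :
    chevD4.wordMat F (o.map fun s => (s, t)) * I F = I F * chevG2.x F r t := by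
  by_cases ht : t = 0
  · subst ht
    have h1 : chevD4.wordMat F (o.map fun s => (s, (0 : F))) = 1 := by
      unfold ChevalleyDatum.wordMat
      rw [List.map_map]
      apply List.prod_eq_one
      intro m hm
      rw [List.mem_map] at hm
      obtain ⟨s, -, rfl⟩ := hm
      exact Elts.x_zero (by simp) s
    rw [h1, Elts.x_zero (by simp), Matrix.one_mul, Matrix.mul_one]
  · have h1 := List.all_eq_true.1 check_gens (r, o) h
    have h2 := int_of_check (F := F) chevD4 chevG2 colsOK colsG2 ht one_ne_zero h1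
    rw [evW_map] at h2
    have h3 : chevG2.wordMat F (evW t 1 [(r, (1, 1, 0))]) = chevG2.x F r t := by
      simp [ChevalleyDatum.wordMat, evW, evM]
    rwa [h3] at h2

end Field

/-! ### the entries of `I` -/

/-- the entries of `I` -/
def ent (i j : ℕ) : ℤ := ((im j).map fun q => if q.1 = i then q.2 else 0).sum

def own (i : ℕ) : ℕ := [0, 1, 0, 0, 2, 3, 4, 4, 5, 6, 4, 5, 5, 7, 6, 6, 9, 9, 8, 10, 10, 11, 9, 10, 11, 11, 12, 13].getD i 0

def cf (i : ℕ) : ℤ :=
  [1, 1, 1, 1, -1, -1, -1, -1, 1, 1, 1, -1, -1, 1, 1, 1, 1, 1, 1, -1, -1, 1, 1, 1, -1, -1, -1, -1].getD i 0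

/-- representatives of the orbits -/
def rep (j : ℕ) : ℕ := [0, 1, 4, 5, 6, 8, 9, 13, 18, 22, 23, 25, 26, 27].getD j 0

def sg (j : ℕ) : ℤ := [1, 1, -1, -1, -1, 1, 1, 1, 1, 1, 1, -1, -1, -1].getD j 0

/-- the coordinate with a given code -/
def idx (k : ℕ) : chevD4.Idx :=
  if h : k < 4 then Sum.inl ⟨k, h⟩ else if h : k - 4 < 24 then Sum.inr ⟨k - 4, h⟩ else Sum.inl ⟨0, by decide⟩

theorem ent_own : ∀ i < 28, ∀ j < 14, ent i j = if j = own i then cf i else 0 := by decide +kernel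

theorem sg_ent : ∀ j < 14, ∀ k < 14, sg j * ent (rep j) k = if j = k then 1 else 0 := by decide +kernel

theorem rep_lt : ∀ j < 14, rep j < 28 := by decide +kernel

theorem own_lt : ∀ i < 28, own i < 14 := by decide +kernel

theorem code_idx {k : ℕ} (hk : k < 28) : code chevD4 (idx k) = k := by
  unfold idx
  by_cases h : k < 4
  · rw [dif_pos h]; rfl
  · rw [dif_neg h, dif_pos (by omega)]
    show 4 + (k - 4) = k
    omega

theorem code_lt28 (i : chevD4.Idx) : code chevD4 i < 28 := code_lt chevD4 i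

theorem code_lt14 (j : chevG2.Idx) : code chevG2 j < 14 := code_lt chevG2 j

/-- the representative of the orbit of a coordinate -/
def r0 (i : chevD4.Idx) : chevD4.Idx := idx (rep (own (code chevD4 i)))

def cs (i : chevD4.Idx) : ℤ := cf (code chevD4 i) * sg (own (code chevD4 i))

theorem orb : ∀ i : chevD4.Idx, (i = r0 i ∧ cs i = 1) ∨
    (i = symmD4a.perm (r0 i) ∧ cs i = symmD4a.sgn (r0 i)) ∨
    (i = symmD4a.perm (symmD4a.perm (r0 i)) ∧ cs i = symmD4a.sgn (symmD4a.perm (r0 i)) * symmD4a.sgn (r0 i)) := by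
  decide +kernel

theorem perm_ent : ∀ a : chevD4.Idx, ∀ j < 14,
    ent (code chevD4 (symmD4a.perm a)) j = symmD4a.sgn a * ent (code chevD4 a) j := by
  decide +kernel

theorem perm_cube : ∀ a : chevD4.Idx, symmD4a.perm (symmD4a.perm (symmD4a.perm a)) = a ∧
    symmD4a.sgn (symmD4a.perm (symmD4a.perm a)) * (symmD4a.sgn (symmD4a.perm a) * symmD4a.sgn a) = 1 := by
  decide +kernel

section Field

variable {F : Type*} [Field F]

theorem I_apply (i : chevD4.Idx) (j : chevG2.Idx) : I F i j = ((ent (code chevD4 i) (code chevG2 j) : ℤ) : F) := by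
  show ((im (code chevG2 j)).map fun q => if q.1 = code chevD4 i then (q.2 : F) else 0).sum = _
  unfold ent
  generalize im (code chevG2 j) = l
  induction l with
  | nil => simp
  | cons q l ih =>
    rw [List.map_cons, List.sum_cons, ih, List.map_cons, List.sum_cons, Int.cast_add]
    congr 1
    split_ifs <;> simp

/-- The coordinates on the fixed space. -/
def J (F : Type*) [Field F] : Matrix chevG2.Idx chevD4.Idx F :=
  Matrix.of fun j i => if code chevD4 i = rep (code chevG2 j) then ((sg (code chevG2 j) : ℤ) : F) else 0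

theorem J_mul {ι : Type*} (M : Matrix chevD4.Idx ι F) (j : chevG2.Idx) (k : ι) :
    (J F * M) j k = ((sg (code chevG2 j) : ℤ) : F) * M (idx (rep (code chevG2 j))) k := by
  rw [Matrix.mul_apply, Finset.sum_eq_single (idx (rep (code chevG2 j)))]
  · show (if _ then _ else _) * _ = _
    rw [if_pos (code_idx (rep_lt _ (code_lt14 j)))]
  · intro i _ hi
    show (if _ then _ else _) * _ = _
    rw [if_neg, zero_mul]
    intro h
    apply hi
    apply code_injective chevD4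
    rw [h, code_idx (rep_lt _ (code_lt14 j))]
  · intro h
    exact absurd (Finset.mem_univ _) h

theorem J_mul_I : J F * I F = 1 := by
  ext j k
  rw [J_mul, I_apply, code_idx (rep_lt _ (code_lt14 j)), ← Int.cast_mul, sg_ent _ (code_lt14 j) _ (code_lt14 k),
    Matrix.one_apply]
  by_cases h : j = k
  · subst h
    rw [if_pos rfl, if_pos rfl, Int.cast_one]
  · rw [if_neg h, if_neg (fun h' => h (code_injective chevG2 h')), Int.cast_zero]

theorem P_mul_I : symmD4a.mat F * I F = I F := by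
  ext i j
  obtain ⟨a, rfl⟩ := symmD4a.perm.surjective i
  rw [Matrix.mul_apply, Finset.sum_eq_single a]
  · rw [SignedSymm.Symm.mat_apply, if_pos rfl, I_apply, I_apply, ← Int.cast_mul, perm_ent a _ (code_lt14 j)]
  · intro c _ hc
    rw [SignedSymm.Symm.mat_apply, if_neg (fun h => hc (symmD4a.perm.injective h).symm), zero_mul]
  · intro h; exact absurd (Finset.mem_univ a) h

/-- The vectors fixed by triality. -/
theorem eq_of_fix {v : chevD4.Idx → F} (hv : ∀ a, v (symmD4a.perm a) = ((symmD4a.sgn a : ℤ) : F) * v a)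
    (i : chevD4.Idx) : v i = ((cs i : ℤ) : F) * v (r0 i) := by
  rcases orb i with ⟨h1, h2⟩ | ⟨h1, h2⟩ | ⟨h1, h2⟩
  · rw [h2, Int.cast_one, one_mul, ← h1]
  · rw [h2, ← hv, ← h1]
  · rw [h2, Int.cast_mul, mul_assoc, ← hv, ← hv, ← h1]

theorem I_mul {ι : Type*} (M : Matrix chevG2.Idx ι F) (i : chevD4.Idx) (j0 : chevG2.Idx)
    (hj : code chevG2 j0 = own (code chevD4 i)) (k : ι) :
    (I F * M) i k = ((cf (code chevD4 i) : ℤ) : F) * M j0 k := by
  rw [Matrix.mul_apply, Finset.sum_eq_single j0]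
  · rw [I_apply, ent_own _ (code_lt28 i) _ (code_lt14 j0), if_pos hj]
  · intro j _ hne
    rw [I_apply, ent_own _ (code_lt28 i) _ (code_lt14 j), if_neg, Int.cast_zero, zero_mul]
    intro h
    exact hne (code_injective chevG2 (h.trans hj.symm))
  · intro h; exact absurd (Finset.mem_univ _) h

/-- The columns fixed by triality are in the image of `I`. -/
theorem I_J_of_fix {ι : Type*} {M : Matrix chevD4.Idx ι F} (hM : symmD4a.mat F * M = M) : I F * (J F * M) = M := by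
  ext i k
  obtain ⟨j0, hj0⟩ := exists_code chevG2 (own_lt _ (code_lt28 i))
  rw [I_mul _ i j0 hj0, J_mul, hj0]
  have hv : ∀ a, M (symmD4a.perm a) k = ((symmD4a.sgn a : ℤ) : F) * M a k := by
    intro a
    have h1 := congrFun (congrFun hM (symmD4a.perm a)) k
    rw [← h1, Matrix.mul_apply, Finset.sum_eq_single a]
    · rw [SignedSymm.Symm.mat_apply, if_pos rfl]
    · intro c _ hc
      rw [SignedSymm.Symm.mat_apply, if_neg (fun h => hc (symmD4a.perm.injective h).symm), zero_mul]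
    · intro h; exact absurd (Finset.mem_univ a) h
  have h2 : M i k = ((cs i : ℤ) : F) * M (r0 i) k := eq_of_fix (v := fun i => M i k) hv i
  rw [h2, ← mul_assoc, ← Int.cast_mul]
  rfl

/-- `P³ = 1` -/
theorem P_cube : symmD4a.mat F * (symmD4a.mat F * symmD4a.mat F) = 1 := by
  ext i b
  obtain ⟨a, rfl⟩ := symmD4a.perm.surjective i
  rw [SignedSymm.Symm.mat_mul]
  obtain ⟨a, rfl⟩ := symmD4a.perm.surjective a
  rw [SignedSymm.Symm.mat_mul]
  obtain ⟨a, rfl⟩ := symmD4a.perm.surjective a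
  obtain ⟨h1, h2⟩ := perm_cube a
  rw [SignedSymm.Symm.mat_apply, h1, Matrix.one_apply]
  by_cases h : a = b
  · subst h
    rw [if_pos rfl, if_pos rfl, ← Int.cast_mul, ← Int.cast_mul, h2, Int.cast_one]
  · rw [if_neg (fun h' => h (symmD4a.perm.injective h')), if_neg h, mul_zero, mul_zero]

/-- **In characteristic 3 a matrix which commutes with `P` and is trivial on the fixed space of `P` is unipotent.** -/
theorem unip [CharP F 3] {g : Matrix chevD4.Idx chevD4.Idx F} (hg : g * symmD4a.mat F = symmD4a.mat F * g)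
    (hI : g * I F = I F) : g ^ 3 = 1 := by
  obtain ⟨P, hP⟩ : ∃ P, P = symmD4a.mat F := ⟨_, rfl⟩
  obtain ⟨N, hN⟩ : ∃ N, N = g - 1 := ⟨_, rfl⟩
  rw [← hP] at hg
  have hc : N * P = P * N := by rw [hN, sub_mul, mul_sub, hg, one_mul, mul_one]
  have hNI : N * I F = 0 := by rw [hN, Matrix.sub_mul, hI, Matrix.one_mul, sub_self]
  have h3 : (3 : Matrix chevD4.Idx chevD4.Idx F) = 0 := by
    have : Nonempty chevD4.Idx := ⟨idx 0⟩
    exact_mod_cast CharP.cast_eq_zero (Matrix chevD4.Idx chevD4.Idx F) 3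
  -- a matrix fixed by `P` is killed by `N`
  have hk : ∀ M : Matrix chevD4.Idx chevD4.Idx F, P * M = M → N * M = 0 := by
    intro M hM
    rw [hP] at hM
    rw [← I_J_of_fix hM, ← Matrix.mul_assoc, hNI, Matrix.zero_mul]
  have hP3 : P * (P * P) = 1 := by rw [hP]; exact P_cube
  have hP3' : (P - 1) * ((P - 1) * (P - 1)) = 0 := by
    have : (P - 1) * ((P - 1) * (P - 1)) = P * (P * P) - 1 - 3 * (P * P) + 3 * P := by noncomm_ring
    rw [this, hP3, h3]
    simp
  have hfix : ∀ M : Matrix chevD4.Idx chevD4.Idx F, (P - 1) * M = 0 → P * M = M := by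
    intro M hM
    rw [sub_mul, one_mul, sub_eq_zero] at hM
    exact hM
  have hc' : N * (P - 1) = (P - 1) * N := by rw [mul_sub, sub_mul, hc, mul_one, one_mul]
  have e1 : N * ((P - 1) * (P - 1)) = 0 := hk _ (hfix _ hP3')
  have e2 : N * ((P - 1) * N) = 0 := by
    apply hk
    apply hfix
    rw [← hc', ← mul_assoc, ← hc', mul_assoc, e1]
  have e3 : N * (N * N) = 0 := by
    apply hk
    apply hfix
    rw [← mul_assoc, ← hc', mul_assoc, e2]
  have hg' : g = N + 1 := by rw [hN, sub_add_cancel]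
  have : (N + 1) ^ 3 = N * (N * N) + 3 * (N * N) + 3 * N + 1 := by noncomm_ring
  rw [hg', this, e3, h3]
  simp

end Field

end Cfsg.Agent.CpAutTri.Iota

end

-- merged: Cfsg.Agent.CpAutTri.Fam
section

/-!
# Fixed points of families of triality automorphisms (S1814, triality in characteristic 3)

`FS S` : the elements fixed by `sig φ`, `φ ∈ S`; `sig φ` and `sig id` commute, `(sig id)³ = 1`; the factors of a fixed
element of `U` along the orbits of triality are fixed.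
-/

set_option autoImplicit false

namespace Cfsg.Agent.CpAutTri.Fam

open Cfsg.Lie Cfsg.Agent.ChevalleyStructure
open Cfsg.Agent.ChevalleyStructure.TwistedU Cfsg.Agent.ChevalleyStructure.TwistedFix
open Cfsg.Agent.ChevalleyStructure.D4Comm
open Cfsg.Agent.ChevalleyStructure.D4Pos (mem_ordA_iff ordA lprod_inj good_of_goodB goodB uniqB)
open Cfsg.Agent.ChevalleyStructure.D4NConj (nR hR torG nG)
open Cfsg.Agent.ChevalleyStructure.D4RGD
open Cfsg.Agent.ChevalleyStructure.D4U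
open Cfsg.Agent.ChevalleyStructure.GraphSymm
open Cfsg.Agent.ChevalleyStructure.D4Fixed (sig fix coe_sig mem_fix)
open Cfsg.Agent.CpAutTri.Bru

/-- the orbits of triality on the positive roots, in the order `A B X₁ X₂ X₃ R` -/
def LB : List (List ℕ) := [[18, 13, 12], [14], [19, 16, 15], [21, 17, 20], [22], [23]]

/-- triality on root indices -/
def rhoN (r : ℕ) : ℕ := if h : r < 24 then (rho ⟨r, h⟩).val else r

/-- the signs -/
def epsN (r : ℕ) : ℤ := if h : r < 24 then eps ⟨r, h⟩ else 1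

theorem perm_check : ∀ o ∈ LB, (o.map rhoN).Perm o := by decide +kernel

theorem comm_check : ∀ o ∈ LB, o.Pairwise fun r s => (decide (12 ≤ r) && decide (r < 24) && decide (12 ≤ s) &&
    decide (s < 24) && decide (s ≠ r) && (D4CommTab.cm r s).isNone) = true := by decide +kernel

theorem rho_check : ∀ r ∈ LB.flatten, rhoN (rhoN (rhoN r)) = r := by decide +kernel

theorem flatten_LB : LB.flatten = D4Pos.ordB := by decide +kernel

theorem lt_LB : ∀ r ∈ LB.flatten, r < 24 := by decide +kernel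

section
variable {K : Type*} [Field K]

theorem setup (φ : K →+* K) : Setup (xG : ℕ → K → GL chevD4.Idx K) LB (sig φ) rhoN (fun r => rhoN (rhoN r))
    (fun r t => ((epsN r : ℤ) : K) * φ t) where
  hadd := xG_add
  nodup := by decide +kernel
  good := by
    rw [flatten_LB]
    exact D4Pos.good_of_goodB D4Pos.ordB D4Pos.goodB_ordB
  inj := by
    rw [flatten_LB]
    intro t t' h
    exact lprod_inj D4Pos.ordB D4Pos.uniqB_ordB h
  hσ := by
    intro r hr t
    have h24 := lt_LB r hr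
    show sig φ (xG (⟨r, h24⟩ : Fin 24).val t) = _
    rw [sig_x, rhoN, dif_pos h24, epsN, dif_pos h24]
  perm := perm_check
  comm := by
    intro o ho
    refine (comm_check o ho).imp ?_
    intro r s h t u
    exact xG_commute h t u
  left_inv := rho_check

/-- the elements fixed by all `sig φ`, `φ ∈ S` -/
noncomputable def FS (S : Set (K →+* K)) : Subgroup (GL chevD4.Idx K) := ⨅ φ ∈ S, fix φ

theorem mem_FS {S : Set (K →+* K)} {g : GL chevD4.Idx K} : g ∈ FS S ↔ ∀ φ ∈ S, sig φ g = g := by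
  unfold FS
  simp only [Subgroup.mem_iInf]
  exact Iff.rfl

theorem FS_empty : FS (∅ : Set (K →+* K)) = ⊤ := by
  rw [eq_top_iff]
  intro g _
  rw [mem_FS]
  rintro φ ⟨⟩

theorem FS_singleton (φ : K →+* K) : FS {φ} = fix φ := by
  ext g
  rw [mem_FS, mem_fix]
  exact ⟨fun h => h φ rfl, fun h ψ hψ => by rw [Set.mem_singleton_iff.1 hψ]; exact h⟩

theorem U_eq : chevD4.posUnipotent K = rspan xG {k | k ∈ LB.flatten} := by
  rw [flatten_LB]
  exact D4Pos.posUnipotent_eq_rspan _ D4Pos.mem_ordB_iff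

theorem exists_crd {u : GL chevD4.Idx K} (hu : u ∈ chevD4.posUnipotent K) : ∃ t, u = lprod xG LB.flatten t := by
  rw [U_eq] at hu
  exact exists_lprod xG_add (setup (RingHom.id K)).nodup (setup (RingHom.id K)).good hu

/-- the coordinates of a fixed element -/
theorem crd_fix {φ : K →+* K} {t : ℕ → K} (h : sig φ (lprod xG LB.flatten t) = lprod xG LB.flatten t) :
    ∀ r ∈ LB.flatten, t (rhoN r) = ((epsN r : ℤ) : K) * φ (t r) := by
  have S := setup φ
  obtain ⟨t', ht', e⟩ := S.mem_fix_iff.1 ⟨lprod_mem_rspan xG (fun _ h => h) t, h⟩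
  have h1 := S.inj t t' e
  intro r hr
  rw [h1 _ (S.mem_ρ hr), ht' r hr, h1 r hr]

/-- the factors of a fixed element are fixed -/
theorem orbit_FS {S : Set (K →+* K)} {t : ℕ → K} (h : lprod xG LB.flatten t ∈ FS S) {o : List ℕ} (ho : o ∈ LB) :
    lprod xG o t ∈ FS S := by
  rw [mem_FS] at h ⊢
  intro φ hφ
  exact ((setup φ).orbit_mem_fix (crd_fix (h φ hφ)) ho).2

/-! ### `sig φ` and `sig id` commute, `(sig id)³ = 1` -/

theorem mat_map (φ : K →+* K) : (symmD4a.mat K).map φ = symmD4a.mat K := by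
  ext a b
  rw [Matrix.map_apply, SignedSymm.Symm.mat_apply]
  split_ifs
  · rw [map_intCast]
  · rw [map_zero]

theorem matInv_map (φ : K →+* K) : (symmD4a.matInv K).map φ = symmD4a.matInv K := by
  ext a b
  rw [Matrix.map_apply, SignedSymm.Symm.matInv_apply]
  split_ifs
  · rw [map_intCast]
  · rw [map_zero]

theorem sig_comp (φ ψ : K →+* K) (g : GL chevD4.Idx K) :
    (sig φ (sig ψ g) : GL chevD4.Idx K).val =
      symmD4a.mat K * (symmD4a.mat K * (g : Matrix chevD4.Idx chevD4.Idx K).map (φ.comp ψ) *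
        symmD4a.matInv K) * symmD4a.matInv K := by
  rw [coe_sig, coe_sig, Matrix.map_mul, Matrix.map_mul, mat_map, matInv_map, Matrix.map_map]
  rfl

theorem sig_comm (φ : K →+* K) (g : GL chevD4.Idx K) :
    sig φ (sig (RingHom.id K) g) = sig (RingHom.id K) (sig φ g) := by
  apply Units.ext
  rw [sig_comp, sig_comp, RingHom.comp_id, RingHom.id_comp]

theorem coe_sig_id (g : GL chevD4.Idx K) : (sig (RingHom.id K) g : GL chevD4.Idx K) =
    symmD4a.P K * g * (symmD4a.P K)⁻¹ := by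
  apply Units.ext
  rw [coe_sig]
  have : ((g : Matrix chevD4.Idx chevD4.Idx K).map (RingHom.id K)) = g := by ext; rfl
  rw [this]
  rfl

theorem P_cube : symmD4a.P K * (symmD4a.P K * symmD4a.P K) = 1 := Units.ext Iota.P_cube

theorem sig_cube (g : GL chevD4.Idx K) :
    sig (RingHom.id K) (sig (RingHom.id K) (sig (RingHom.id K) g)) = g := by
  rw [coe_sig_id, coe_sig_id, coe_sig_id]
  have e : symmD4a.P K * (symmD4a.P K * (symmD4a.P K * g * (symmD4a.P K)⁻¹) * (symmD4a.P K)⁻¹) * (symmD4a.P K)⁻¹ =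
      (symmD4a.P K * (symmD4a.P K * symmD4a.P K)) * g * (symmD4a.P K * (symmD4a.P K * symmD4a.P K))⁻¹ := by group
  rw [e, P_cube, one_mul, inv_one, mul_one]

/-- `(sig φ)³ = 1` if `φ³ = 1` -/
theorem sig_cube' {φ : K →+* K} (hφ : ∀ t, φ (φ (φ t)) = t) (g : GL chevD4.Idx K) :
    sig φ (sig φ (sig φ g)) = g := by
  have h0 : ∀ g : GL chevD4.Idx K, sig φ g = sig (RingHom.id K) (Units.map
      (RingHom.mapMatrix φ : Matrix chevD4.Idx chevD4.Idx K →+* Matrix chevD4.Idx chevD4.Idx K).toMonoidHom g) := by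
    intro g
    apply Units.ext
    rw [coe_sig, coe_sig]
    have : ((Units.map (RingHom.mapMatrix φ : Matrix chevD4.Idx chevD4.Idx K →+*
        Matrix chevD4.Idx chevD4.Idx K).toMonoidHom g : GL chevD4.Idx K) : Matrix chevD4.Idx chevD4.Idx K) =
        (g : Matrix chevD4.Idx chevD4.Idx K).map φ := rfl
    rw [this, Matrix.map_map]
    rfl
  have h1 : ∀ g : GL chevD4.Idx K, Units.map (RingHom.mapMatrix φ : Matrix chevD4.Idx chevD4.Idx K →+*
      Matrix chevD4.Idx chevD4.Idx K).toMonoidHom (sig (RingHom.id K) g) =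
      sig (RingHom.id K) (Units.map (RingHom.mapMatrix φ : Matrix chevD4.Idx chevD4.Idx K →+*
      Matrix chevD4.Idx chevD4.Idx K).toMonoidHom g) := by
    intro g
    apply Units.ext
    have e1 : ∀ g : GL chevD4.Idx K, ((Units.map (RingHom.mapMatrix φ : Matrix chevD4.Idx chevD4.Idx K →+*
        Matrix chevD4.Idx chevD4.Idx K).toMonoidHom g : GL chevD4.Idx K) : Matrix chevD4.Idx chevD4.Idx K) =
        (g : Matrix chevD4.Idx chevD4.Idx K).map φ := fun g => rfl
    rw [e1, coe_sig, coe_sig, e1, Matrix.map_mul, Matrix.map_mul, mat_map, matInv_map, Matrix.map_map, Matrix.map_map]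
    rfl
  rw [h0 (sig φ (sig φ g)), h0 (sig φ g), h0 g, h1, h1, h1]
  rw [sig_cube]
  apply Units.ext
  have e1 : ∀ g : GL chevD4.Idx K, ((Units.map (RingHom.mapMatrix φ : Matrix chevD4.Idx chevD4.Idx K →+*
      Matrix chevD4.Idx chevD4.Idx K).toMonoidHom g : GL chevD4.Idx K) : Matrix chevD4.Idx chevD4.Idx K) =
      (g : Matrix chevD4.Idx chevD4.Idx K).map φ := fun g => rfl
  rw [e1, e1, e1, Matrix.map_map, Matrix.map_map]
  ext i j
  exact hφ _

theorem sig_FS {S : Set (K →+* K)} {g : GL chevD4.Idx K} (hg : g ∈ FS S) : sig (RingHom.id K) g ∈ FS S := by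
  rw [mem_FS] at hg ⊢
  intro φ hφ
  rw [sig_comm, hg φ hφ]

end

end Cfsg.Agent.CpAutTri.Fam

end

-- merged: Cfsg.Agent.CpAutTri.Coc
section

/-!
# Cocycles of triality in characteristic 3 (S1814), abstract part

`σ` of order 3 on `U = A Q`, `Q = B X₁ X₂ X₃ R` (the positive root groups of type `G₂`: `A`, `X₁`, `X₂` short, `B`, `X₃`,
`R` long), `σ` centralises the long root groups, `H¹(⟨σ⟩, ·) = 1` for the short root groups:
`Tri.main` : every cocycle `u ∈ U` is equivalent to an element of `R`.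
-/

set_option autoImplicit false

namespace Cfsg.Agent.CpAutTri.Coc

open scoped commutatorElement

variable {Γ : Type*} [Group Γ]

/-- `H¹(⟨σ⟩, E) = 1`, `σ` of order 3 -/
def H1 (σ : Γ →* Γ) (E : Subgroup Γ) : Prop := ∀ e ∈ E, e * σ e * σ (σ e) = 1 → ∃ v ∈ E, e = v * (σ v)⁻¹

/-- the data -/
structure Tri (σ : Γ →* Γ) (G U Q A B X1 X2 X3 R : Subgroup Γ) : Prop where
  UG : U ≤ G
  AU : A ≤ U
  QU : Q ≤ U
  BQ : B ≤ Q
  X1Q : X1 ≤ Q
  X2Q : X2 ≤ Q
  X3Q : X3 ≤ Q
  RQ : R ≤ Q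
  sA : ∀ a ∈ A, σ a ∈ A
  sQ : ∀ a ∈ Q, σ a ∈ Q
  s1 : ∀ a ∈ X1, σ a ∈ X1
  s2 : ∀ a ∈ X2, σ a ∈ X2
  fB : ∀ a ∈ B, σ a = a
  f3 : ∀ a ∈ X3, σ a = a
  fR : ∀ a ∈ R, σ a = a
  cube : ∀ g ∈ G, σ (σ (σ g)) = g
  dec : ∀ u ∈ U, ∃ a ∈ A, ∃ q ∈ Q, u = a * q
  norm : ∀ a ∈ A, ∀ q ∈ Q, a⁻¹ * q * a ∈ Q
  inf : ∀ a ∈ A, a ∈ Q → a = 1
  decQ : ∀ q ∈ Q, ∃ b ∈ B, ∃ x1 ∈ X1, ∃ x2 ∈ X2, ∃ x3 ∈ X3, ∃ r ∈ R, q = b * x1 * x2 * x3 * r
  uniq : ∀ b ∈ B, ∀ x1 ∈ X1, ∀ x2 ∈ X2, ∀ x3 ∈ X3, ∀ r ∈ R, b * x1 * x2 * x3 * r = 1 → x1 = 1 ∧ x2 = 1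
  comm : ∀ g ∈ Q, ∀ h ∈ Q, ⁅g, h⁆ ∈ R
  cenR : ∀ r ∈ R, ∀ u ∈ U, u * r = r * u
  hA : H1 σ A
  h1 : H1 σ X1
  h2 : H1 σ X2
  cA3 : ∀ a ∈ A, ∀ x ∈ X3, a * x = x * a
  F5 : ∀ b ∈ B, b ≠ 1 → ∀ c ∈ X3, ∃ a ∈ A, σ a = a ∧ ∃ x1 ∈ X1, ∃ x2 ∈ X2, ∃ r ∈ R,
    a⁻¹ * b * a = b * x1 * x2 * c * r
  F6 : ∃ n ∈ G, σ n = n ∧ (∀ b ∈ B, n⁻¹ * b * n ∈ X3) ∧ ∀ r ∈ R, n⁻¹ * r * n ∈ R
  F6' : ∃ n ∈ G, σ n = n ∧ ∀ x ∈ X3, n⁻¹ * x * n ∈ R
  F7 : ∀ c ∈ X3, c ≠ 1 → ∀ r ∈ R, ∃ b ∈ B, b⁻¹ * c * b = c * r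

/-- equivalence of cocycles -/
def Eqv (σ : Γ →* Γ) (G : Subgroup Γ) (u u' : Γ) : Prop := ∃ g ∈ G, g⁻¹ * u * σ g = u'

theorem Eqv.trans {σ : Γ →* Γ} {G : Subgroup Γ} {u v w : Γ} (h : Eqv σ G u v) (h' : Eqv σ G v w) : Eqv σ G u w := by
  obtain ⟨g, hg, rfl⟩ := h
  obtain ⟨k, hk, rfl⟩ := h'
  exact ⟨g * k, mul_mem hg hk, by rw [map_mul, mul_inv_rev]; simp only [mul_assoc]⟩

theorem Eqv.refl {σ : Γ →* Γ} {G : Subgroup Γ} (u : Γ) : Eqv σ G u u := ⟨1, one_mem _, by rw [map_one]; simp⟩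

theorem Eqv.norm {σ : Γ →* Γ} {G : Subgroup Γ} (hσ : ∀ g ∈ G, σ (σ (σ g)) = g) {u v : Γ} (h : Eqv σ G u v)
    (hu : u * σ u * σ (σ u) = 1) : v * σ v * σ (σ v) = 1 := by
  obtain ⟨g, hg, rfl⟩ := h
  simp only [map_mul, map_inv]
  rw [hσ g hg]
  calc g⁻¹ * u * σ g * ((σ g)⁻¹ * σ u * σ (σ g)) * ((σ (σ g))⁻¹ * σ (σ u) * g) =
      g⁻¹ * (u * σ u * σ (σ u)) * g := by group
    _ = 1 := by rw [hu]; group

namespace Tri

variable {σ : Γ →* Γ} {G U Q A B X1 X2 X3 R : Subgroup Γ} (T : Tri σ G U Q A B X1 X2 X3 R)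

include T

/-- step 1 -/
theorem step1 {u : Γ} (hu : u ∈ U) (hN : u * σ u * σ (σ u) = 1) : ∃ q ∈ Q, Eqv σ G u q := by
  obtain ⟨a, ha, q, hq, rfl⟩ := T.dec u hu
  have hn : ∀ a ∈ A, ∀ q ∈ Q, ∃ q' ∈ Q, q * a = a * q' := fun a ha q hq =>
    ⟨a⁻¹ * q * a, T.norm a ha q hq, by group⟩
  have hsa := T.sA a ha
  have hssa := T.sA _ hsa
  have h1 : a * σ a * σ (σ a) = 1 := by
    apply T.inf _ (mul_mem (mul_mem ha hsa) hssa)
    obtain ⟨q1, hq1, e1⟩ := hn _ hsa q hq
    obtain ⟨q2, hq2, e2⟩ := hn _ hssa (q1 * σ q) (mul_mem hq1 (T.sQ q hq))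
    have e3 : a * q * σ (a * q) * σ (σ (a * q)) = a * σ a * σ (σ a) * (q2 * σ (σ q)) := by
      calc a * q * σ (a * q) * σ (σ (a * q)) = a * (q * σ a) * σ q * σ (σ a) * σ (σ q) := by
            simp only [map_mul, mul_assoc]
        _ = a * σ a * ((q1 * σ q) * σ (σ a)) * σ (σ q) := by rw [e1]; simp only [mul_assoc]
        _ = _ := by rw [e2]; simp only [mul_assoc]
    rw [e3] at hN
    rw [eq_inv_of_mul_eq_one_left hN]
    exact inv_mem (mul_mem hq2 (T.sQ _ (T.sQ q hq)))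
  obtain ⟨v, hv, e⟩ := T.hA a ha h1
  refine ⟨(σ v)⁻¹ * q * σ v, T.norm _ (T.sA v hv) q hq, v, T.UG (T.AU hv), ?_⟩
  rw [e]
  group

/-- step 2 -/
theorem step2 {b x1 x2 x3 r : Γ} (hb : b ∈ B) (hx1 : x1 ∈ X1) (hx2 : x2 ∈ X2) (hx3 : x3 ∈ X3) (hr : r ∈ R)
    (hN : (b * x1 * x2 * x3 * r) * σ (b * x1 * x2 * x3 * r) * σ (σ (b * x1 * x2 * x3 * r)) = 1) :
    ∃ r' ∈ R, Eqv σ G (b * x1 * x2 * x3 * r) (b * x3 * r') := by
  have hbQ := T.BQ hb
  have h1Q := T.X1Q hx1
  have h2Q := T.X2Q hx2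
  have h3Q := T.X3Q hx3
  have hrQ := T.RQ hr
  -- calculations in the abelianization of `Q`
  let of : ↥Q →* Abelianization ↥Q := Abelianization.of
  have hof : ∀ g h : ↥Q, of g = of h → (g : Γ)⁻¹ * h ∈ R := by
    intro g h hgh
    have h1 : g⁻¹ * h ∈ commutator ↥Q := QuotientGroup.eq.1 hgh
    have h2 : commutator ↥Q ≤ R.comap Q.subtype := by
      rw [commutator_def, Subgroup.commutator_le]
      intro g _ h _
      rw [Subgroup.mem_comap]
      exact T.comm g g.2 h h.2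
    exact h2 h1
  have hs : ∀ g : Γ, g ∈ Q → σ g ∈ Q := T.sQ
  let b' : ↥Q := ⟨b, hbQ⟩
  let y1 : ↥Q := ⟨x1, h1Q⟩
  let y2 : ↥Q := ⟨x2, h2Q⟩
  let y3 : ↥Q := ⟨x3, h3Q⟩
  let r' : ↥Q := ⟨r, hrQ⟩
  let τ : ↥Q →* ↥Q := (σ.comp Q.subtype).codRestrict Q fun g => hs g g.2
  have hτ : ∀ g : ↥Q, ((τ g : ↥Q) : Γ) = σ g := fun _ => rfl
  have hτb : τ b' = b' := Subtype.ext (T.fB b hb)
  have hτ3 : τ y3 = y3 := Subtype.ext (T.f3 x3 hx3)
  have hτr : τ r' = r' := Subtype.ext (T.fR r hr)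
  -- the norms of `x₁`, `x₂` are trivial
  have hN' : (b' * y1 * y2 * y3 * r') * τ (b' * y1 * y2 * y3 * r') * τ (τ (b' * y1 * y2 * y3 * r')) = 1 :=
    Subtype.ext hN
  have e1 : of (b' ^ 3 * (y1 * τ y1 * τ (τ y1)) * (y2 * τ y2 * τ (τ y2)) * y3 ^ 3 * r' ^ 3) = of 1 := by
    rw [← hN']
    simp only [map_mul, hτb, hτ3, hτr, map_pow]
    generalize of b' = β
    generalize of y1 = a1
    generalize of (τ y1) = a2
    generalize of (τ (τ y1)) = a3
    generalize of y2 = c1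
    generalize of (τ y2) = c2
    generalize of (τ (τ y2)) = c3
    generalize of y3 = d
    generalize of r' = ρ
    simp only [pow_succ, pow_zero, one_mul]
    simp only [mul_comm, mul_left_comm]
  have e2 := hof _ _ e1
  rw [OneMemClass.coe_one, mul_one] at e2
  have e3 : (b ^ 3 * (x1 * σ x1 * σ (σ x1)) * (x2 * σ x2 * σ (σ x2)) * x3 ^ 3 * r ^ 3)⁻¹ ∈ R := e2
  rw [inv_mem_iff] at e3
  have h1N := T.s1 _ hx1
  have h2N := T.s2 _ hx2
  obtain ⟨h1', h2'⟩ := T.uniq (b ^ 3) (pow_mem hb 3) _ (mul_mem (mul_mem hx1 h1N) (T.s1 _ h1N)) _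
    (mul_mem (mul_mem hx2 h2N) (T.s2 _ h2N)) (x3 ^ 3) (pow_mem hx3 3)
    (r ^ 3 * (b ^ 3 * (x1 * σ x1 * σ (σ x1)) * (x2 * σ x2 * σ (σ x2)) * x3 ^ 3 * r ^ 3)⁻¹)
    (mul_mem (pow_mem hr 3) (inv_mem e3)) (by
      rw [← mul_assoc, mul_inv_cancel])
  obtain ⟨v1, hv1, f1⟩ := T.h1 x1 hx1 h1'
  obtain ⟨v2, hv2, f2⟩ := T.h2 x2 hx2 h2'
  have hv1Q := T.X1Q hv1
  have hv2Q := T.X2Q hv2
  let w1 : ↥Q := ⟨v1, hv1Q⟩
  let w2 : ↥Q := ⟨v2, hv2Q⟩
  have g1 : y1 = w1 * (τ w1)⁻¹ := Subtype.ext f1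
  have g2 : y2 = w2 * (τ w2)⁻¹ := Subtype.ext f2
  have e4 : of (b' * y3 * r') = of ((w1 * w2)⁻¹ * (b' * y1 * y2 * y3 * r') * τ (w1 * w2)) := by
    rw [g1, g2]
    simp only [map_mul, map_inv]
    generalize of b' = β
    generalize of w1 = a1
    generalize of (τ w1) = a2
    generalize of w2 = c1
    generalize of (τ w2) = c2
    generalize of y3 = d
    generalize of r' = ρ
    have : (a1 * c1)⁻¹ * (β * (a1 * a2⁻¹) * (c1 * c2⁻¹) * d * ρ) * (a2 * c2) =
        β * d * ρ * ((a1 * c1)⁻¹ * (a1 * c1)) * ((a2 * c2)⁻¹ * (a2 * c2)) := by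
      rw [mul_inv_rev, mul_inv_rev]
      simp only [mul_comm, mul_left_comm, mul_assoc]
    rw [this]
    simp
  have e5 := hof _ _ e4
  refine ⟨r * ((b * x3 * r)⁻¹ * ((v1 * v2)⁻¹ * (b * x1 * x2 * x3 * r) * σ (v1 * v2))), mul_mem hr e5, v1 * v2,
    T.UG (T.QU (mul_mem hv1Q hv2Q)), ?_⟩
  group

/-- **Every cocycle is equivalent to an element of `R`.** -/
theorem main {u : Γ} (hu : u ∈ U) (hN : u * σ u * σ (σ u) = 1) : ∃ z ∈ R, Eqv σ G u z := by
  obtain ⟨q, hq, hq'⟩ := T.step1 hu hN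
  have hNq := hq'.norm T.cube hN
  obtain ⟨b, hb, x1, hx1, x2, hx2, x3, hx3, r, hr, rfl⟩ := T.decQ q hq
  obtain ⟨r', hr', h1⟩ := T.step2 hb hx1 hx2 hx3 hr hNq
  have h2 := hq'.trans h1
  -- the end: an element of `X₃ R`
  have hend : ∀ c ∈ X3, ∀ s ∈ R, Eqv σ G u (c * s) → ∃ z ∈ R, Eqv σ G u z := by
    intro c hc s hs h
    by_cases hc1 : c = 1
    · subst hc1
      rw [one_mul] at h
      exact ⟨s, hs, h⟩
    · obtain ⟨b, hb, e⟩ := T.F7 c hc hc1 s⁻¹ (inv_mem hs)
      have h3 : Eqv σ G (c * s) c := by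
        refine ⟨b, T.UG (T.QU (T.BQ hb)), ?_⟩
        rw [T.fB b hb]
        calc b⁻¹ * (c * s) * b = b⁻¹ * c * b * (b⁻¹ * s * b) := by group
          _ = c * s⁻¹ * (b⁻¹ * (s * b)) := by rw [e]; simp only [mul_assoc]
          _ = c := by rw [← T.cenR s hs b (T.QU (T.BQ hb))]; group
      obtain ⟨n, hn, hσn, hn'⟩ := T.F6'
      exact ⟨n⁻¹ * c * n, hn' c hc, (h.trans h3).trans ⟨n, hn, by rw [hσn]⟩⟩
  by_cases hb1 : b = 1
  · subst hb1
    rw [one_mul] at h2
    exact hend x3 hx3 r' hr' h2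
  · obtain ⟨a, ha, hσa, y1, hy1, y2, hy2, s, hs, e⟩ := T.F5 b hb hb1 x3⁻¹ (inv_mem hx3)
    have h3 : Eqv σ G (b * x3 * r') (b * y1 * y2 * 1 * (s * r')) := by
      refine ⟨a, T.UG (T.AU ha), ?_⟩
      rw [hσa]
      have haU := T.AU ha
      calc a⁻¹ * (b * x3 * r') * a = (a⁻¹ * b * a) * (a⁻¹ * (x3 * (r' * a))) := by group
        _ = (a⁻¹ * b * a) * (a⁻¹ * (x3 * a * r')) := by rw [← T.cenR r' hr' a haU]; simp only [mul_assoc]
        _ = (a⁻¹ * b * a) * (x3 * r') := by rw [← T.cA3 a ha x3 hx3]; group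
        _ = b * y1 * y2 * x3⁻¹ * (s * x3) * r' := by rw [e]; simp only [mul_assoc]
        _ = b * y1 * y2 * x3⁻¹ * (x3 * s) * r' := by rw [T.cenR s hs x3 (T.QU (T.X3Q hx3))]
        _ = _ := by group
    have h4 := h2.trans h3
    have hN4 := h4.norm T.cube hN
    obtain ⟨s', hs', h5⟩ := T.step2 hb hy1 hy2 (one_mem X3) (mul_mem hs hr') hN4
    have h6 := h4.trans h5
    rw [mul_one] at h6
    obtain ⟨n, hn, hσn, hn', hn''⟩ := T.F6
    refine hend (n⁻¹ * b * n) (hn' b hb) (n⁻¹ * s' * n) (hn'' s' hs') (h6.trans ⟨n, hn, ?_⟩)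
    rw [hσn]
    group

end Tri

end Cfsg.Agent.CpAutTri.Coc

end

-- merged: Cfsg.Agent.CpAutTri.Inst
section

/-!
# Cocycles of triality in `U` (S1814, triality in characteristic 3)

`tri` : the abstract data `Coc.Tri` for `U ∩ FS S`; `h1_free`, `h1_fix` : `H¹ = 1` on the free orbits.
-/

set_option autoImplicit false

namespace Cfsg.Agent.CpAutTri.Inst

open Cfsg.Lie Cfsg.Agent.ChevalleyStructure
open Cfsg.Agent.ChevalleyStructure.TwistedU Cfsg.Agent.ChevalleyStructure.TwistedFix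
open Cfsg.Agent.ChevalleyStructure.D4Comm Cfsg.Agent.ChevalleyStructure.WordCheck
open Cfsg.Agent.ChevalleyStructure.D4Pos (mem_ordA_iff ordA lprod_inj good_of_goodB goodB uniqB)
open Cfsg.Agent.ChevalleyStructure.D4NConj (nR hR torG nG)
open Cfsg.Agent.ChevalleyStructure.D4RGD
open Cfsg.Agent.ChevalleyStructure.D4U
open Cfsg.Agent.ChevalleyStructure.D4Twisted (RS_le_U na_inv_RS nb_inv_RS nR_commute)
open Cfsg.Agent.ChevalleyStructure.GraphSymm
open Cfsg.Agent.ChevalleyStructure.D4Fixed (sig fix coe_sig mem_fix)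
open Cfsg.Agent.CpAutTri.Bru Cfsg.Agent.CpAutTri.Fam Cfsg.Agent.CpAutTri.Coc
open scoped commutatorElement

/-! ### commutators of generated subgroups -/

theorem comm_closure {Γ : Type*} [Group Γ] {S : Set Γ} {R : Subgroup Γ} (hc : ∀ g ∈ S, ∀ r ∈ R, g * r = r * g)
    (hS : ∀ g ∈ S, ∀ h ∈ S, ⁅g, h⁆ ∈ R) {g h : Γ} (hg : g ∈ Subgroup.closure S) (hh : h ∈ Subgroup.closure S) :
    ⁅g, h⁆ ∈ R := by
  have hc' : ∀ g ∈ Subgroup.closure S, ∀ r ∈ R, g * r = r * g := by
    have h1 : Subgroup.closure S ≤ Subgroup.centralizer (R : Set Γ) := by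
      rw [Subgroup.closure_le]
      intro g hg
      rw [SetLike.mem_coe, Subgroup.mem_centralizer_iff]
      intro r hr
      exact (hc g hg r hr).symm
    intro g hg r hr
    exact ((Subgroup.mem_centralizer_iff.1 (h1 hg)) r hr).symm
  -- for fixed `h`, the `g` centralising `R` with `⁅g, h⁆ ∈ R` form a subgroup
  have key : ∀ h : Γ, (∀ r ∈ R, h * r = r * h) → (∀ g ∈ S, ⁅g, h⁆ ∈ R) → ∀ g ∈ Subgroup.closure S, ⁅g, h⁆ ∈ R := by
    intro h hh h1 g hg
    refine Subgroup.closure_induction (p := fun g _ => ⁅g, h⁆ ∈ R) h1 ?_ ?_ ?_ hg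
    · rw [commutatorElement_one_left]
      exact one_mem R
    · intro a b ha hb h2 h3
      have e : ⁅a * b, h⁆ = (a * ⁅b, h⁆) * a⁻¹ * ⁅a, h⁆ := by
        rw [commutatorElement_def, commutatorElement_def, commutatorElement_def]
        group
      rw [e, hc' a ha _ h3, mul_inv_cancel_right]
      exact mul_mem h3 h2
    · intro a ha h2
      have e : ⁅a⁻¹, h⁆ = a⁻¹ * (⁅a, h⁆)⁻¹ * a := by
        rw [commutatorElement_def, commutatorElement_def]
        group
      rw [e, hc' _ (inv_mem ha) _ (inv_mem h2), inv_mul_cancel_right]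
      exact inv_mem h2
  refine key h (hc' h hh) ?_ g hg
  intro g hg
  have h1 : ⁅h, g⁆ ∈ R := key g (hc g hg) (fun a ha => hS a ha g hg) h hh
  rw [← commutatorElement_inv]
  exact inv_mem h1

section
variable {K : Type*} [Field K]

/-- the list of the roots of `Q` -/
def lQ : List ℕ := [14, 19, 16, 15, 21, 17, 20, 22, 23]

theorem exists_RS {l : List ℕ} (hnd : l.Nodup) (hg : goodB l = true) {g : GL chevD4.Idx K} (h : g ∈ RS K l) :
    ∃ t, g = lprod xG l t := exists_lprod xG_add hnd (good_of_goodB l hg) h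

theorem mem_RS {l : List ℕ} {r : ℕ} (hr : r ∈ l) (t : K) : xG r t ∈ RS K l :=
  mem_rspan xG (S := {k | k ∈ l}) hr t

theorem RS_mono {l l' : List ℕ} (h : ∀ r ∈ l, r ∈ l') : RS K l ≤ RS K l' := rspan_mono xG h

/-- coordinates on separate lists -/
theorem indep {o l : List ℕ} (hu : uniqB (o ++ l) = true) (hd : ∀ r ∈ l, r ∉ o) {t t' : ℕ → K}
    (h : (lprod xG o t : GL chevD4.Idx K) = lprod xG l t') : (lprod xG o t : GL chevD4.Idx K) = 1 := by
  classical
  obtain ⟨a, ha⟩ : ∃ a : ℕ → K, a = fun r => if r ∈ o then t r else 0 := ⟨_, rfl⟩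
  obtain ⟨b, hb⟩ : ∃ b : ℕ → K, b = fun r => if r ∈ o then 0 else t' r := ⟨_, rfl⟩
  have h0 : ∀ l : List ℕ, ∀ c : ℕ → K, (∀ r ∈ l, c r = 0) → (lprod xG l c : GL chevD4.Idx K) = 1 := by
    intro l c hc
    rw [lprod_congr xG (t' := fun _ => (0 : K)) hc]
    unfold lprod
    apply List.prod_eq_one
    intro g hg
    obtain ⟨r, -, rfl⟩ := List.mem_map.1 hg
    exact xG_zero r
  have e1 : (lprod xG (o ++ l) a : GL chevD4.Idx K) = lprod xG o t := by
    rw [lprod_append, h0 l a (fun r hr => by rw [ha]; exact if_neg (hd r hr)), mul_one]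
    exact lprod_congr xG fun r hr => by rw [ha]; exact if_pos hr
  have e2 : (lprod xG (o ++ l) b : GL chevD4.Idx K) = lprod xG l t' := by
    rw [lprod_append, h0 o b (fun r hr => by rw [hb]; exact if_pos hr), one_mul]
    exact lprod_congr xG fun r hr => by rw [hb]; exact if_neg (hd r hr)
  have h1 := lprod_inj (o ++ l) hu (e1.trans (h.trans e2.symm))
  apply h0
  intro r hr
  have h2 := h1 r (List.mem_append_left l hr)
  rw [ha, hb] at h2
  simp only [if_pos hr] at h2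
  exact h2

/-! ### `H¹` of the free orbits -/

/-- three commuting root groups permuted by `σ` -/
structure Orb (φ : K →+* K) (r0 r1 r2 : ℕ) (e0 e1 e2 : K) : Prop where
  c01 : ∀ t u, Commute (xG r0 t : GL chevD4.Idx K) (xG r1 u)
  c02 : ∀ t u, Commute (xG r0 t : GL chevD4.Idx K) (xG r2 u)
  c12 : ∀ t u, Commute (xG r1 t : GL chevD4.Idx K) (xG r2 u)
  s0 : ∀ t, sig φ (xG r0 t) = xG r1 (e0 * φ t)
  s1 : ∀ t, sig φ (xG r1 t) = xG r2 (e1 * φ t)
  s2 : ∀ t, sig φ (xG r2 t) = xG r0 (e2 * φ t)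
  pe : e0 * e1 * e2 = 1
  p0 : φ e0 = e0
  p1 : φ e1 = e1
  p2 : φ e2 = e2
  ex : ∀ g ∈ RS K [r0, r1, r2], ∃ a b c, g = xG r0 a * xG r1 b * xG r2 c
  un : ∀ a b c, (xG r0 a * xG r1 b * xG r2 c : GL chevD4.Idx K) = 1 → a = 0 ∧ b = 0 ∧ c = 0

namespace Orb

variable {φ : K →+* K} {r0 r1 r2 : ℕ} {e0 e1 e2 : K} (O : Orb φ r0 r1 r2 e0 e1 e2)

include O

theorem mul (a b c a' b' c' : K) : (xG r0 a * xG r1 b * xG r2 c : GL chevD4.Idx K) * (xG r0 a' * xG r1 b' * xG r2 c') =
    xG r0 (a + a') * xG r1 (b + b') * xG r2 (c + c') := by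
  rw [xG_add, xG_add, xG_add]
  have h1 := (O.c02 a' c).eq
  have h2 := (O.c01 a' b).eq
  have h3 := (O.c12 b' c).eq
  calc (xG r0 a * xG r1 b * xG r2 c : GL chevD4.Idx K) * (xG r0 a' * xG r1 b' * xG r2 c') =
      xG r0 a * xG r1 b * (xG r2 c * xG r0 a') * xG r1 b' * xG r2 c' := by simp only [mul_assoc]
    _ = xG r0 a * (xG r1 b * xG r0 a') * (xG r2 c * xG r1 b') * xG r2 c' := by rw [← h1]; simp only [mul_assoc]
    _ = _ := by rw [← h2, ← h3]; simp only [mul_assoc]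

theorem inv (a b c : K) : (xG r0 a * xG r1 b * xG r2 c : GL chevD4.Idx K)⁻¹ =
    xG r0 (-a) * xG r1 (-b) * xG r2 (-c) := by
  rw [inv_eq_iff_mul_eq_one, O.mul, add_neg_cancel, add_neg_cancel, add_neg_cancel, xG_zero, xG_zero, xG_zero, mul_one,
    mul_one]

theorem sigma (a b c : K) : sig φ (xG r0 a * xG r1 b * xG r2 c) =
    xG r0 (e2 * φ c) * xG r1 (e0 * φ a) * xG r2 (e1 * φ b) := by
  rw [map_mul, map_mul, O.s0, O.s1, O.s2, mul_assoc, ← (O.c02 _ _).eq, ← mul_assoc, ← (O.c01 _ _).eq]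

theorem eq_of {a b c a' b' c' : K} (h : (xG r0 a * xG r1 b * xG r2 c : GL chevD4.Idx K) =
    xG r0 a' * xG r1 b' * xG r2 c') : a = a' ∧ b = b' ∧ c = c' := by
  rw [← mul_inv_eq_one, O.inv, O.mul] at h
  obtain ⟨h1, h2, h3⟩ := O.un _ _ _ h
  exact ⟨add_neg_eq_zero.1 h1, add_neg_eq_zero.1 h2, add_neg_eq_zero.1 h3⟩

omit O in
theorem mem (a b c : K) : xG r0 a * xG r1 b * xG r2 c ∈ RS K [r0, r1, r2] :=
  mul_mem (mul_mem (mem_RS (by simp) a) (mem_RS (by simp) b)) (mem_RS (by simp) c)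

/-- `H¹ = 1` on a free orbit -/
theorem h1_free : H1 (sig φ) (RS K [r0, r1, r2]) := by
  intro g hg hN
  obtain ⟨a, b, c, rfl⟩ := O.ex g hg
  rw [O.sigma, O.sigma, O.mul, O.mul] at hN
  obtain ⟨-, -, h3⟩ := O.un _ _ _ hN
  refine ⟨xG r0 a * xG r1 (b + e0 * φ a) * xG r2 0, mem _ _ _, ?_⟩
  rw [O.sigma, O.inv, O.mul]
  have f1 : a + -(e2 * φ 0) = a := by rw [map_zero, mul_zero, neg_zero, add_zero]
  have f2 : b + e0 * φ a + -(e0 * φ a) = b := by rw [add_neg_cancel_right]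
  have f3 : 0 + -(e1 * φ (b + e0 * φ a)) = c := by
    rw [map_mul, O.p0] at h3
    rw [map_add, map_mul, O.p0]
    linear_combination -h3
  rw [f1, f2, f3]

/-- `H¹ = 1` on the fixed points of `sig ψ` in a free orbit -/
theorem h1_fix (hid : φ = RingHom.id K) {ψ : K →+* K} (O' : Orb ψ r0 r1 r2 e0 e1 e2)
    (hψ : ∀ t, ψ (ψ (ψ t)) = t) (h90 : ∀ a, a + ψ a + ψ (ψ a) = 0 → ∃ s, a = s - ψ (ψ s)) :
    H1 (sig φ) (RS K [r0, r1, r2] ⊓ fix ψ) := by
  rintro g ⟨hg, hf⟩ hN
  obtain ⟨a, b, c, rfl⟩ := O.ex g hg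
  have hf' : sig ψ (xG r0 a * xG r1 b * xG r2 c) = xG r0 a * xG r1 b * xG r2 c := hf
  rw [O'.sigma] at hf'
  obtain ⟨g0, g1, g2⟩ := O.eq_of hf'
  rw [O.sigma, O.sigma, O.mul, O.mul] at hN
  obtain ⟨h1, -, -⟩ := O.un _ _ _ hN
  subst hid
  simp only [RingHom.id_apply] at h1
  have ha : a + ψ a + ψ (ψ a) = 0 := by
    have h2 : c = e1 * e0 * ψ (ψ a) := by
      rw [← g2, ← g1, map_mul, O'.p0]
      ring
    have h3 : a + e2 * c + e2 * (e1 * b) = 0 := h1
    rw [h2, ← g1] at h3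
    have h4 := O.pe
    linear_combination h3 - (ψ a + ψ (ψ a)) * h4
  obtain ⟨s, hs⟩ := h90 a ha
  have hv : xG r0 s * xG r1 (e0 * ψ s) * xG r2 (e1 * e0 * ψ (ψ s)) ∈ fix ψ := by
    rw [mem_fix, O'.sigma]
    have f1 : e2 * ψ (e1 * e0 * ψ (ψ s)) = s := by
      rw [map_mul, map_mul, O'.p0, O'.p1, hψ]
      linear_combination s * O.pe
    have f2 : e1 * ψ (e0 * ψ s) = e1 * e0 * ψ (ψ s) := by
      rw [map_mul, O'.p0]; ring
    rw [f1, f2]
  refine ⟨_, ⟨mem _ _ _, hv⟩, ?_⟩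
  rw [O.sigma, O.inv, O.mul]
  simp only [RingHom.id_apply]
  have f1 : s + -(e2 * (e1 * e0 * ψ (ψ s))) = a := by
    rw [hs]
    linear_combination -(ψ (ψ s)) * O.pe
  have f2 : e0 * ψ s + -(e0 * s) = b := by
    rw [← g1, hs, map_sub, hψ]
    ring
  have f3 : e1 * e0 * ψ (ψ s) + -(e1 * (e0 * ψ s)) = c := by
    rw [← g2, ← g1, hs, map_mul, map_sub, map_sub, hψ, O'.p0]
    ring
  rw [f1, f2, f3]

end Orb

/-- construction of `Orb` -/
theorem orb_of {φ : K →+* K} {r0 r1 r2 : ℕ} {z0 z1 z2 : ℤ}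
    (h01 : (decide (12 ≤ r0) && decide (r0 < 24) && decide (12 ≤ r1) && decide (r1 < 24) &&
      decide (r1 ≠ r0) && (D4CommTab.cm r0 r1).isNone) = true)
    (h02 : (decide (12 ≤ r0) && decide (r0 < 24) && decide (12 ≤ r2) && decide (r2 < 24) &&
      decide (r2 ≠ r0) && (D4CommTab.cm r0 r2).isNone) = true)
    (h12 : (decide (12 ≤ r1) && decide (r1 < 24) && decide (12 ≤ r2) && decide (r2 < 24) &&
      decide (r2 ≠ r1) && (D4CommTab.cm r1 r2).isNone) = true)
    (s0 : ∀ t, sig φ (xG r0 t) = xG r1 ((z0 : K) * φ t))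
    (s1 : ∀ t, sig φ (xG r1 t) = xG r2 ((z1 : K) * φ t))
    (s2 : ∀ t, sig φ (xG r2 t) = xG r0 ((z2 : K) * φ t)) (hz : z0 * z1 * z2 = 1)
    (hg : goodB [r0, r1, r2] = true) (hu : uniqB [r0, r1, r2] = true) (hnd : [r0, r1, r2].Nodup) :
    Orb φ r0 r1 r2 (z0 : K) (z1 : K) (z2 : K) where
  c01 := xG_commute h01
  c02 := xG_commute h02
  c12 := xG_commute h12
  s0 := s0
  s1 := s1
  s2 := s2
  pe := by exact_mod_cast congrArg (Int.cast : ℤ → K) hz
  p0 := map_intCast _ _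
  p1 := map_intCast _ _
  p2 := map_intCast _ _
  ex g hg' := by
    obtain ⟨t, rfl⟩ := exists_RS hnd hg hg'
    exact ⟨t r0, t r1, t r2, by rw [lprod_cons, lprod_cons, lprod_cons, lprod_nil, mul_one, ← mul_assoc]⟩
  un a b c h := by
    classical
    obtain ⟨t, ht⟩ : ∃ t : ℕ → K, t = fun r => if r = r0 then a else if r = r1 then b else c := ⟨_, rfl⟩
    have n1 : r1 ≠ r0 := by rintro rfl; simp at hnd
    have n2 : r2 ≠ r0 := by rintro rfl; simp at hnd
    have n3 : r2 ≠ r1 := by rintro rfl; simp at hnd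
    have t0 : t r0 = a := by rw [ht]; exact if_pos rfl
    have t1 : t r1 = b := by rw [ht]; simp only [if_neg n1, if_pos]
    have t2 : t r2 = c := by rw [ht]; simp only [if_neg n2, if_neg n3]
    have h1 := lprod_inj [r0, r1, r2] hu (t := t) (t' := fun _ => 0) (by
      simp only [lprod_cons, lprod_nil, xG_zero, mul_one]
      rw [t0, t1, t2, ← mul_assoc]
      exact h)
    refine ⟨?_, ?_, ?_⟩
    · rw [← t0]; exact h1 r0 (by simp)
    · rw [← t1]; exact h1 r1 (by simp)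
    · rw [← t2]; exact h1 r2 (by simp)

theorem orbA (φ : K →+* K) : Orb φ 18 13 12 ((1 : ℤ) : K) ((1 : ℤ) : K) ((1 : ℤ) : K) :=
  orb_of (by decide +kernel) (by decide +kernel) (by decide +kernel)
    (fun t => by rw [sig_18, Int.cast_one, one_mul]) (fun t => by rw [sig_13, Int.cast_one, one_mul])
    (fun t => by rw [sig_12, Int.cast_one, one_mul]) (by decide) (by decide +kernel) (by decide +kernel) (by decide)

theorem orb1 (φ : K →+* K) : Orb φ 19 16 15 ((-1 : ℤ) : K) ((1 : ℤ) : K) ((-1 : ℤ) : K) :=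
  orb_of (by decide +kernel) (by decide +kernel) (by decide +kernel)
    (fun t => by rw [sig_19, Int.cast_neg, Int.cast_one, neg_one_mul])
    (fun t => by rw [sig_16, Int.cast_one, one_mul])
    (fun t => by rw [sig_15, Int.cast_neg, Int.cast_one, neg_one_mul]) (by decide) (by decide +kernel)
    (by decide +kernel) (by decide)

theorem orb2 (φ : K →+* K) : Orb φ 21 17 20 ((-1 : ℤ) : K) ((-1 : ℤ) : K) ((1 : ℤ) : K) :=
  orb_of (by decide +kernel) (by decide +kernel) (by decide +kernel)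
    (fun t => by rw [sig_21, Int.cast_neg, Int.cast_one, neg_one_mul])
    (fun t => by rw [sig_17, Int.cast_neg, Int.cast_one, neg_one_mul])
    (fun t => by rw [sig_20, Int.cast_one, one_mul]) (by decide) (by decide +kernel)
    (by decide +kernel) (by decide)

/-! ### the elements `n_a`, `n_b` -/

theorem sig_na (φ : K →+* K) : sig φ (na K) = na K := by
  have h := sig_nR φ (14 : Fin 24) (1 : K)
  have e1 : rho 14 = 14 := by decide +kernel
  have e2 : eps 14 = 1 := by decide +kernel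
  rw [e1, e2, map_one, mul_one, Int.cast_one] at h
  exact h

theorem sig_nb (φ : K →+* K) : sig φ (nb K) = nb K := by
  have h0 := sig_nR φ (18 : Fin 24) (1 : K)
  have h2 := sig_nR φ (13 : Fin 24) (1 : K)
  have h3 := sig_nR φ (12 : Fin 24) (1 : K)
  have e1 : rho 18 = 13 ∧ rho 13 = 12 ∧ rho 12 = 18 := by decide +kernel
  have e2 : eps 18 = 1 ∧ eps 13 = 1 ∧ eps 12 = 1 := by decide +kernel
  rw [e1.1, e2.1, map_one, mul_one, Int.cast_one] at h0
  rw [e1.2.1, e2.2.1, map_one, mul_one, Int.cast_one] at h2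
  rw [e1.2.2, e2.2.2, map_one, mul_one, Int.cast_one] at h3
  have hn : nb K = nR (18 : Fin 24).val 1 * nR (13 : Fin 24).val 1 * nR (12 : Fin 24).val 1 := rfl
  rw [hn, map_mul, map_mul, h0, h2, h3]
  have c1 : Commute (nR 18 (1 : K)) (nR 12 1) := nR_commute (by decide +kernel) (by decide +kernel) (by decide +kernel) (by decide +kernel) _ _
  have c2 : Commute (nR 18 (1 : K)) (nR 13 1) := nR_commute (by decide +kernel) (by decide +kernel) (by decide +kernel) (by decide +kernel) _ _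
  have c : Commute (nR 18 (1 : K)) (nR 13 1 * nR 12 1) := c2.mul_right c1
  show nR 13 (1 : K) * nR 12 1 * nR 18 1 = nR 18 1 * nR 13 1 * nR 12 1
  rw [mul_assoc (nR 18 (1 : K)), c.eq]

theorem na_FS (S : Set (K →+* K)) : na K ∈ FS S := mem_FS.2 fun φ _ => sig_na φ

theorem nb_FS (S : Set (K →+* K)) : nb K ∈ FS S := mem_FS.2 fun φ _ => sig_nb φ

end

end Cfsg.Agent.CpAutTri.Inst

end

-- merged: Cfsg.Agent.CpAutTri.TriD
section

/-!
# The abstract data for triality in `D₄(K)` and `³D₄(q)` (S1814, triality in characteristic 3)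

`tri` : `Coc.Tri` for `U ∩ FS S`, `K` of characteristic 3.
-/

set_option autoImplicit false

namespace Cfsg.Agent.CpAutTri.TriD

open Cfsg.Lie Cfsg.Agent.ChevalleyStructure
open Cfsg.Agent.ChevalleyStructure.TwistedU Cfsg.Agent.ChevalleyStructure.TwistedFix
open Cfsg.Agent.ChevalleyStructure.D4Comm Cfsg.Agent.ChevalleyStructure.WordCheck
open Cfsg.Agent.ChevalleyStructure.D4Pos (mem_ordA_iff ordA lprod_inj good_of_goodB goodB uniqB)
open Cfsg.Agent.ChevalleyStructure.D4NConj (nR hR torG nG)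
open Cfsg.Agent.ChevalleyStructure.D4RGD
open Cfsg.Agent.ChevalleyStructure.D4U
open Cfsg.Agent.ChevalleyStructure.D4Twisted (RS_le_U na_inv_RS nb_inv_RS nR_commute)
open Cfsg.Agent.ChevalleyStructure.GraphSymm
open Cfsg.Agent.ChevalleyStructure.D4Fixed (sig fix coe_sig mem_fix)
open Cfsg.Agent.CpAutTri.Bru Cfsg.Agent.CpAutTri.Fam Cfsg.Agent.CpAutTri.Coc Cfsg.Agent.CpAutTri.Inst
open scoped commutatorElement

/-- the left word -/
def w1 : List (ℕ × PExpr) := [(12, .neg (.var 1)), (13, .neg (.var 1)), (18, .neg (.var 1)), (14, .var 0),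
  (18, .var 1), (13, .var 1), (12, .var 1)]

/-- the right word -/
def w2 : List (ℕ × PExpr) := [(14, .var 0), (19, .mul (.var 0) (.var 1)), (16, .neg (.mul (.var 0) (.var 1))),
  (15, .neg (.mul (.var 0) (.var 1))), (21, .neg (.mul (.var 0) (.mul (.var 1) (.var 1)))),
  (17, .mul (.var 0) (.mul (.var 1) (.var 1))), (20, .neg (.mul (.var 0) (.mul (.var 1) (.var 1)))),
  (22, .mul (.var 0) (.mul (.var 1) (.mul (.var 1) (.var 1)))),
  (23, .mul (.mul (.var 0) (.var 0)) (.mul (.var 1) (.mul (.var 1) (.var 1))))]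

private noncomputable def _root_.Cfsg.Agent.LsF.fbcaa43_9 : {f // @Cfsg.Agent.ChevalleyStructure.WordCheck.meq = f} := ⟨_, by first | (delta Cfsg.Agent.ChevalleyStructure.WordCheck.meq List.brecOn List.brecOn.go Cfsg.Agent.ChevalleyStructure.WordCheck.meq._f; rewrite [Cfsg.Agent.LsF.and_eq]; (try delta Cfsg.Agent.ChevalleyStructure.WordCheck.meq.match_1); (try delta Cfsg.Agent.ChevalleyStructure.WordCheck.meq._sparseCasesOn_1); (try delta Cfsg.Agent.ChevalleyStructure.WordCheck.meq._sparseCasesOn_2); (try delta List.casesOn); first | dsimp -zeta only | exact rfl) | exact rfl⟩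
private noncomputable def _root_.Cfsg.Agent.LsF.fbcaa43_10 : {f // @Cfsg.Agent.ChevalleyStructure.WordCheck.eqZ = f} := ⟨_, by first | (delta Cfsg.Agent.ChevalleyStructure.WordCheck.eqZ; (try delta Cfsg.Agent.ChevalleyStructure.WordCheck.eqZ.match_1); (try delta Cfsg.Agent.ChevalleyStructure.WordCheck.eqZ._sparseCasesOn_1); (try delta Cfsg.Agent.ChevalleyStructure.WordCheck.eqZ._sparseCasesOn_2); (try delta Int.casesOn); exact rfl) | exact rfl⟩
private noncomputable def _root_.Cfsg.Agent.LsF.fbcaa43_11 : {f // @Cfsg.Agent.ChevalleyStructure.WordCheck.peq = f} := ⟨_, by first | (delta Cfsg.Agent.ChevalleyStructure.WordCheck.peq List.brecOn List.brecOn.go Cfsg.Agent.ChevalleyStructure.WordCheck.peq._f; rewrite [Cfsg.Agent.LsF.fbcaa43_9.2, Cfsg.Agent.LsF.fbcaa43_10.2, Cfsg.Agent.LsF.and_eq]; (try delta Cfsg.Agent.ChevalleyStructure.WordCheck.peq.match_1); (try delta Cfsg.Agent.ChevalleyStructure.WordCheck.meq._sparseCasesOn_1); (try delta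 Cfsg.Agent.ChevalleyStructure.WordCheck.meq._sparseCasesOn_2); (try delta List.casesOn); first | dsimp -zeta only | exact rfl) | exact rfl⟩
private noncomputable def _root_.Cfsg.Agent.LsF.fbcaa43_12 : {f // @Cfsg.Agent.ChevalleyStructure.WordCheck.veq = f} := ⟨_, by first | (delta Cfsg.Agent.ChevalleyStructure.WordCheck.veq List.brecOn Cfsg.Agent.ChevalleyStructure.WordCheck.veq._f List.brecOn.go; rewrite [Cfsg.Agent.LsF.fbcaa43_11.2, Cfsg.Agent.LsF.and_eq]; (try delta Cfsg.Agent.ChevalleyStructure.WordCheck.veq.match_1); (try delta Cfsg.Agent.ChevalleyStructure.WordCheck.meq._sparseCasesOn_1); (try delta Cfsg.Agent.ChevalleyStructure.WordCheck.meq._sparseCasesOn_2); (try delta List.casesOn); first | dsimp -zeta only | exact rfl) | exact rfl⟩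
private noncomputable def _root_.Cfsg.Agent.LsF.fbcaa43_13 : {f // @Cfsg.Agent.ChevalleyStructure.WordCheck.vcons = f} := ⟨_, by first | (delta Cfsg.Agent.ChevalleyStructure.WordCheck.vcons; (try delta Cfsg.Agent.ChevalleyStructure.WordCheck.vcons.match_1); (try delta List.casesOn); exact rfl) | exact rfl⟩
private noncomputable def _root_.Cfsg.Agent.LsF.fbcaa43_14 : {f // @Cfsg.Agent.ChevalleyStructure.WordCheck.monoCmp = f} := ⟨_, by first | (delta Cfsg.Agent.ChevalleyStructure.WordCheck.monoCmp List.brecOn List.brecOn.go Cfsg.Agent.ChevalleyStructure.WordCheck.monoCmp._f; rewrite [Cfsg.Agent.LsF.cond_eq]; (try delta Cfsg.Agent.ChevalleyStructure.WordCheck.monoCmp.match_1); (try delta List.casesOn); first | dsimp -zeta only | exact rfl) | exact rfl⟩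
private noncomputable def _root_.Cfsg.Agent.LsF.fbcaa43_15 : {f // @Cfsg.Agent.ChevalleyStructure.WordCheck.isZ = f} := ⟨_, by first | (delta Cfsg.Agent.ChevalleyStructure.WordCheck.isZ; (try delta Cfsg.Agent.ChevalleyStructure.WordCheck.isZ.match_1); (try delta Int.casesOn); exact rfl) | exact rfl⟩
private noncomputable def _root_.Cfsg.Agent.LsF.fbcaa43_16 : {f // @Cfsg.Agent.ChevalleyStructure.WordCheck.normC = f} := ⟨_, by first | (delta Cfsg.Agent.ChevalleyStructure.WordCheck.normC; rewrite [Cfsg.Agent.LsF.imod_pat, Cfsg.Agent.LsF.icast_pat, Cfsg.Agent.LsF.cond_eq]; exact rfl) | exact rfl⟩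
private noncomputable def _root_.Cfsg.Agent.LsF.fbcaa43_17 : {f // @Cfsg.Agent.ChevalleyStructure.WordCheck.insTerm = f} := ⟨_, by first | (delta Cfsg.Agent.ChevalleyStructure.WordCheck.insTerm List.brecOn List.brecOn.go Cfsg.Agent.ChevalleyStructure.WordCheck.insTerm._f; rewrite [Cfsg.Agent.LsF.fbcaa43_14.2, Cfsg.Agent.LsF.fbcaa43_15.2, Cfsg.Agent.LsF.fbcaa43_16.2, Cfsg.Agent.LsF.iadd_pat, Cfsg.Agent.LsF.cond_eq]; (try delta Cfsg.Agent.ChevalleyStructure.WordCheck.insTerm.match_3); (try delta Cfsg.Agent.ChevalleyStructure.WordCheck.insTerm.match_1); (try delta List.casesOn); (try rewrite [Cfsg.Agent.LsF.instDecEq_eq, Cfsg.Agent.LsF.dite_eq]); first | dsimp -zeta only | exact rfl) | exact rfl⟩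
private noncomputable def _root_.Cfsg.Agent.LsF.fbcaa43_18 : {f // @Cfsg.Agent.ChevalleyStructure.WordCheck.padd = f} := ⟨_, by first | (delta Cfsg.Agent.ChevalleyStructure.WordCheck.padd; rewrite [Cfsg.Agent.LsF.fbcaa43_17.2, Cfsg.Agent.LsF.foldr_eq]; exact rfl) | exact rfl⟩
private noncomputable def _root_.Cfsg.Agent.LsF.fbcaa43_19 : {f // @Cfsg.Agent.ChevalleyStructure.WordCheck.vadd = f} := ⟨_, by first | (delta Cfsg.Agent.ChevalleyStructure.WordCheck.vadd List.brecOn List.brecOn.go Cfsg.Agent.ChevalleyStructure.WordCheck.vadd._f; rewrite [Cfsg.Agent.LsF.fbcaa43_13.2, Cfsg.Agent.LsF.fbcaa43_18.2, Cfsg.Agent.LsF.cond_eq]; (try delta Cfsg.Agent.ChevalleyStructure.WordCheck.vadd.match_1); (try delta List.casesOn); first | dsimp -zeta only | exact rfl) | exact rfl⟩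
private noncomputable def _root_.Cfsg.Agent.LsF.fbcaa43_20 : {f // @Cfsg.Agent.ChevalleyStructure.WordCheck.monoRed = f} := ⟨_, by first | (delta Cfsg.Agent.ChevalleyStructure.WordCheck.monoRed Nat.brecOn.go Nat.brecOn Cfsg.Agent.ChevalleyStructure.WordCheck.monoRed._f; rewrite [Cfsg.Agent.LsF.nsub_pat]; (try delta Cfsg.Agent.ChevalleyStructure.WordCheck.monoRed.match_1); (try delta Nat.casesOn List.casesOn); first | dsimp -zeta only | exact rfl) | exact rfl⟩
private noncomputable def _root_.Cfsg.Agent.LsF.fbcaa43_21 : {f // @Cfsg.Agent.ChevalleyStructure.WordCheck.monoMul = f} := ⟨_, by first | (delta Cfsg.Agent.ChevalleyStructure.WordCheck.monoMul Cfsg.Agent.ChevalleyStructure.WordCheck.monoMul._f List.brecOn List.brecOn.go; rewrite [Cfsg.Agent.LsF.nadd_pat]; (try delta Cfsg.Agent.ChevalleyStructure.WordCheck.monoMul.match_1); (try delta List.casesOn); first | dsimp -zeta only | exact rfl) | exact rfl⟩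
private noncomputable def _root_.Cfsg.Agent.LsF.fbcaa43_22 : {f // @Cfsg.Agent.ChevalleyStructure.WordCheck.pmulTerm = f} := ⟨_, by first | (delta Cfsg.Agent.ChevalleyStructure.WordCheck.pmulTerm; rewrite [Cfsg.Agent.LsF.fbcaa43_15.2, Cfsg.Agent.LsF.fbcaa43_16.2, Cfsg.Agent.LsF.fbcaa43_17.2, Cfsg.Agent.LsF.fbcaa43_20.2, Cfsg.Agent.LsF.fbcaa43_21.2, Cfsg.Agent.LsF.imul_pat, Cfsg.Agent.LsF.cond_eq, Cfsg.Agent.LsF.foldr_eq]; exact rfl) | exact rfl⟩
private noncomputable def _root_.Cfsg.Agent.LsF.fbcaa43_23 : {f // @Cfsg.Agent.ChevalleyStructure.WordCheck.pmul = f} := ⟨_, by first | (delta Cfsg.Agent.ChevalleyStructure.WordCheck.pmul; rewrite [Cfsg.Agent.LsF.fbcaa43_22.2, Cfsg.Agent.LsF.foldr_eq]; exact rfl) | exact rfl⟩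
private noncomputable def _root_.Cfsg.Agent.LsF.fbcaa43_24 : {f // @Cfsg.Agent.ChevalleyStructure.WordCheck.psmul = f} := ⟨_, by first | (delta Cfsg.Agent.ChevalleyStructure.WordCheck.psmul; rewrite [Cfsg.Agent.LsF.fbcaa43_15.2, Cfsg.Agent.LsF.fbcaa43_16.2, Cfsg.Agent.LsF.imul_pat, Cfsg.Agent.LsF.cond_eq, Cfsg.Agent.LsF.foldr_eq]; exact rfl) | exact rfl⟩
private noncomputable def _root_.Cfsg.Agent.LsF.fbcaa43_25 : {f // @Cfsg.Agent.ChevalleyStructure.WordCheck.applyCol = f} := ⟨_, by first | (delta Cfsg.Agent.ChevalleyStructure.WordCheck.applyCol; rewrite [Cfsg.Agent.LsF.fbcaa43_19.2, Cfsg.Agent.LsF.fbcaa43_23.2, Cfsg.Agent.LsF.fbcaa43_24.2, Cfsg.Agent.LsF.foldr_eq]; exact rfl) | exact rfl⟩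
private noncomputable def _root_.Cfsg.Agent.LsF.fbcaa43_26 : {f // @Cfsg.Agent.ChevalleyStructure.WordCheck.ppow = f} := ⟨_, by first | (delta Cfsg.Agent.ChevalleyStructure.WordCheck.ppow Nat.brecOn.go Nat.brecOn Cfsg.Agent.ChevalleyStructure.WordCheck.ppow._f; rewrite [Cfsg.Agent.LsF.fbcaa43_23.2, Cfsg.Agent.LsF.replicate_eq]; (try delta Cfsg.Agent.ChevalleyStructure.WordCheck.ppow.match_1); (try delta Nat.casesOn); first | dsimp -zeta only | exact rfl) | exact rfl⟩
private noncomputable def _root_.Cfsg.Agent.LsF.fbcaa43_27 : {f // @Cfsg.Agent.ChevalleyStructure.WordCheck.colX = f} := ⟨_, by first | (delta Cfsg.Agent.ChevalleyStructure.WordCheck.colX; rewrite [Cfsg.Agent.LsF.nadd_pat, Cfsg.Agent.LsF.nsub_pat, Cfsg.Agent.LsF.ineg_pat, Cfsg.Agent.LsF.cond_eq, Cfsg.Agent.LsF.map_eq, Cfsg.Agent.LsF.flatMap_eq, Cfsg.Agent.LsF.filter_eq, Cfsg.Agent.LsF.range_eq, Cfsg.Agent.LsF.agetD_eq, Cfsg.Agent.LsF.zipIdx_eq]; exact rfl) | exact rfl⟩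
private noncomputable def _root_.Cfsg.Agent.LsF.fbcaa43_28 : {f // @Cfsg.Agent.ChevalleyStructure.WordCheck.applyX = f} := ⟨_, by first | (delta Cfsg.Agent.ChevalleyStructure.WordCheck.applyX; rewrite [Cfsg.Agent.LsF.fbcaa43_25.2, Cfsg.Agent.LsF.fbcaa43_26.2, Cfsg.Agent.LsF.fbcaa43_27.2, Cfsg.Agent.LsF.nadd_pat, Cfsg.Agent.LsF.cond_eq, Cfsg.Agent.LsF.foldr_eq]; exact rfl) | exact rfl⟩
private noncomputable def _root_.Cfsg.Agent.LsF.fbcaa43_29 : {f // @Cfsg.Agent.ChevalleyStructure.WordCheck.unitMono = f} := ⟨_, by first | (delta Cfsg.Agent.ChevalleyStructure.WordCheck.unitMono Nat.brecOn.go Nat.brecOn Cfsg.Agent.ChevalleyStructure.WordCheck.unitMono._f; rewrite [Cfsg.Agent.LsF.replicate_eq]; (try delta Cfsg.Agent.ChevalleyStructure.WordCheck.unitMono.match_1); (try delta Nat.casesOn); first | dsimp -zeta only | exact rfl) | exact rfl⟩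
private noncomputable def _root_.Cfsg.Agent.LsF.fbcaa43_30 : {f // @Cfsg.Agent.ChevalleyStructure.WordCheck.pconst = f} := ⟨_, by first | (delta Cfsg.Agent.ChevalleyStructure.WordCheck.pconst; rewrite [Cfsg.Agent.LsF.fbcaa43_15.2, Cfsg.Agent.LsF.fbcaa43_16.2, Cfsg.Agent.LsF.cond_eq, Cfsg.Agent.LsF.replicate_eq]; exact rfl) | exact rfl⟩
private noncomputable def _root_.Cfsg.Agent.LsF.fbcaa43_31 : {f // @Cfsg.Agent.ChevalleyStructure.WordCheck.toPoly = f} := ⟨_, by first | (delta Cfsg.Agent.ChevalleyStructure.WordCheck.toPoly Cfsg.Agent.ChevalleyStructure.WordCheck.PExpr.brecOn.go Cfsg.Agent.ChevalleyStructure.WordCheck.toPoly._f Cfsg.Agent.ChevalleyStructure.WordCheck.PExpr.brecOn; rewrite [Cfsg.Agent.LsF.fbcaa43_20.2, Cfsg.Agent.LsF.fbcaa43_29.2, Cfsg.Agent.LsF.fbcaa43_30.2, Cfsg.Agent.LsF.fbcaa43_18.2, Cfsg.Agent.LsF.fbcaa43_23.2, Cfsg.Agent.LsF.fbcaa43_24.2, Cfsg.Agent.LsF.fbcaa43_26.2, Cfsg.Agent.LsF.ineg_pat, Cfsg.Agent.LsF.lappend_pat,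 Cfsg.Agent.LsF.cond_eq, Cfsg.Agent.LsF.replicate_eq]; (try delta Cfsg.Agent.ChevalleyStructure.WordCheck.PExpr.denote.match_1); (try delta Cfsg.Agent.ChevalleyStructure.WordCheck.PExpr.casesOn); first | dsimp -zeta only | exact rfl) | exact rfl⟩
private noncomputable def _root_.Cfsg.Agent.LsF.fbcaa43_32 : {f // @Cfsg.Agent.ChevalleyStructure.WordCheck.applyColP = f} := ⟨_, by first | (delta Cfsg.Agent.ChevalleyStructure.WordCheck.applyColP; rewrite [Cfsg.Agent.LsF.fbcaa43_19.2, Cfsg.Agent.LsF.fbcaa43_23.2, Cfsg.Agent.LsF.fbcaa43_31.2, Cfsg.Agent.LsF.foldr_eq]; exact rfl) | exact rfl⟩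
private noncomputable def _root_.Cfsg.Agent.LsF.fbcaa43_33 : {f // @Cfsg.Agent.ChevalleyStructure.WordCheck.applyG = f} := ⟨_, by first | (delta Cfsg.Agent.ChevalleyStructure.WordCheck.applyG; rewrite [Cfsg.Agent.LsF.fbcaa43_32.2, Cfsg.Agent.LsF.nadd_pat, Cfsg.Agent.LsF.cond_eq, Cfsg.Agent.LsF.foldr_eq]; exact rfl) | exact rfl⟩
private noncomputable def _root_.Cfsg.Agent.LsF.fbcaa43_34 : {f // @Cfsg.Agent.ChevalleyStructure.WordCheck.applyL = f} := ⟨_, by first | (delta Cfsg.Agent.ChevalleyStructure.WordCheck.applyL; rewrite [Cfsg.Agent.LsF.fbcaa43_28.2, Cfsg.Agent.LsF.fbcaa43_31.2, Cfsg.Agent.LsF.fbcaa43_33.2]; (try delta Cfsg.Agent.ChevalleyStructure.WordCheck.applyL.match_1); (try delta Cfsg.Agent.ChevalleyStructure.WordCheck.Letter.casesOn); exact rfl) | exact rfl⟩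
private noncomputable def _root_.Cfsg.Agent.LsF.fbcaa43_35 : {f // @Cfsg.Agent.ChevalleyStructure.WordCheck.applyW = f} := ⟨_, by first | (delta Cfsg.Agent.ChevalleyStructure.WordCheck.applyW; rewrite [Cfsg.Agent.LsF.fbcaa43_34.2, Cfsg.Agent.LsF.foldr_eq]; exact rfl) | exact rfl⟩
private noncomputable def _root_.Cfsg.Agent.LsF.fbcaa43_36 : {f // @Cfsg.Agent.ChevalleyStructure.WordCheck.colW = f} := ⟨_, by first | (delta Cfsg.Agent.ChevalleyStructure.WordCheck.colW; rewrite [Cfsg.Agent.LsF.fbcaa43_35.2, Cfsg.Agent.LsF.replicate_eq]; exact rfl) | exact rfl⟩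
private noncomputable def _root_.Cfsg.Agent.LsF.fbcaa43_37 : {f // @Cfsg.Agent.ChevalleyStructure.WordCheck.check = f} := ⟨_, by first | (delta Cfsg.Agent.ChevalleyStructure.WordCheck.check; rewrite [Cfsg.Agent.LsF.fbcaa43_12.2, Cfsg.Agent.LsF.fbcaa43_36.2, Cfsg.Agent.LsF.nadd_pat, Cfsg.Agent.LsF.all_eq, Cfsg.Agent.LsF.range_eq]; exact rfl) | exact rfl⟩
private noncomputable def _root_.Cfsg.Agent.LsF.fbcaa43_38 : {f // @Cfsg.Agent.ChevalleyStructure.WordCheck.xw = f} := ⟨_, by first | (delta Cfsg.Agent.ChevalleyStructure.WordCheck.xw; rewrite [Cfsg.Agent.LsF.map_eq]; exact rfl) | exact rfl⟩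
theorem chk : check chevD4 0 0 2 (xw w1) (xw w2) = true := by ((try (rewrite [Cfsg.Agent.LsF.fbcaa43_37.2, Cfsg.Agent.LsF.fbcaa43_38.2])); decide +kernel)

section
variable {K : Type*} [Field K]

theorem wordX (w : List (ℕ × K)) :
    chevD4.wordMat K w = (((w.map fun p => xG p.1 p.2).prod : GL chevD4.Idx K) : Matrix chevD4.Idx chevD4.Idx K) := by
  induction w with
  | nil => rfl
  | cons p w ih =>
    rw [Elts.wordMat_cons, ih, List.map_cons, List.prod_cons]
    rfl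

theorem conj_word (s t : K) : (xG 12 (-t) * (xG 13 (-t) * (xG 18 (-t) * (xG 14 s * (xG 18 t * (xG 13 t * xG 12 t))))) :
    GL chevD4.Idx K) =
    xG 14 s * (xG 19 (s * t) * (xG 16 (-(s * t)) * (xG 15 (-(s * t)) * (xG 21 (-(s * (t * t))) *
      (xG 17 (s * (t * t)) * (xG 20 (-(s * (t * t))) * (xG 22 (s * (t * (t * t))) *
        xG 23 ((s * s) * (t * (t * t)))))))))) := by
  have h := wordMat_eq_of_check chevD4 (fun i => if i = 0 then s else t) 0 0 2 w1 w2 chk (by simp) (by simp)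
  rw [wordX, wordX] at h
  have h' := Units.ext h
  simpa [w1, w2, wval, PExpr.denote] using h'

/-- the roots of `A` normalise `Q` -/
theorem normQ {r : ℕ} (hg : goodB (r :: lQ) = true) (t : K) {q : GL chevD4.Idx K} (hq : q ∈ RS K lQ) :
    xG r t * q * (xG r t)⁻¹ ∈ RS K lQ :=
  conj_mem ((good_cons xG).1 (good_of_goodB (r :: lQ) hg)).1 t hq

theorem normA {a q : GL chevD4.Idx K} (ha : a ∈ RS K [18, 13, 12]) (hq : q ∈ RS K lQ) : a⁻¹ * q * a ∈ RS K lQ := by
  have key : RS K [18, 13, 12] ≤ Subgroup.normalizer (RS K lQ : Set (GL chevD4.Idx K)) := by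
    refine rspan_le xG ?_
    intro r hr t
    have hg : goodB (r :: lQ) = true := by
      have h : ∀ r ∈ [18, 13, 12], goodB (r :: lQ) = true := by decide +kernel
      exact h r hr
    rw [Subgroup.mem_normalizer_iff]
    intro g
    constructor
    · exact fun h => normQ hg t h
    · intro h
      have h1 := normQ hg (-t) h
      rw [xG_neg] at h1
      have e : (xG r t)⁻¹ * (xG r t * g * (xG r t)⁻¹) * ((xG r t)⁻¹)⁻¹ = g := by group
      rwa [e] at h1
  have h1 := key (inv_mem ha)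
  rw [Subgroup.mem_normalizer_iff] at h1
  have h2 := (h1 q).1 hq
  rwa [inv_inv] at h2

theorem comm_lQ : ∀ r ∈ lQ, ∀ s ∈ lQ, s ≠ r → (D4CommTab.cm r s).all (fun k => k.1 = 23) = true := by decide +kernel

theorem ge_lQ : ∀ r ∈ lQ, 12 ≤ r ∧ r < 24 := by decide +kernel

theorem ge_LB : ∀ r ∈ LB.flatten, 12 ≤ r ∧ r < 24 := by decide +kernel

theorem comm23 : ∀ r ∈ LB.flatten, 23 ≠ r → (D4CommTab.cm r 23).isNone = true := by decide +kernel

theorem central {u r : GL chevD4.Idx K} (hu : u ∈ chevD4.posUnipotent K) (hr : r ∈ RS K [23]) : u * r = r * u := by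
  have key : chevD4.posUnipotent K ≤ Subgroup.centralizer (RS K [23] : Set (GL chevD4.Idx K)) := by
    rw [U_eq]
    refine rspan_le xG ?_
    intro s hs t
    rw [Subgroup.mem_centralizer_iff]
    intro r hr
    obtain ⟨c, rfl⟩ := exists_RS (by decide) (by decide +kernel) hr
    rw [lprod_cons, lprod_nil, mul_one]
    by_cases h : 23 = s
    · subst h
      rw [← xG_add, ← xG_add, add_comm]
    · have h1 : ⁅(xG s t : GL chevD4.Idx K), xG 23 (c 23)⁆ = 1 := by
        rw [xG_comm (ge_LB s hs).1 (ge_LB s hs).2 (by norm_num) (by norm_num) h]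
        have h2 := comm23 s hs h
        rw [Option.isNone_iff_eq_none] at h2
        unfold cval
        rw [h2]
      rw [commutatorElement_eq_one_iff_mul_comm] at h1
      exact h1.symm
  exact ((Subgroup.mem_centralizer_iff.1 (key hu)) r hr).symm

theorem commQ {g h : GL chevD4.Idx K} (hg : g ∈ RS K lQ) (hh : h ∈ RS K lQ) : ⁅g, h⁆ ∈ RS K [23] := by
  refine comm_closure ?_ ?_ hg hh
  · rintro _ ⟨s, hs, t, rfl⟩ r hr
    exact central (by
      rw [U_eq]
      exact mem_rspan xG (S := {k | k ∈ LB.flatten}) (by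
        have h : ∀ s ∈ lQ, s ∈ LB.flatten := by decide +kernel
        exact h s hs) t) hr
  · rintro _ ⟨r, hr, t, rfl⟩ _ ⟨s, hs, u, rfl⟩
    by_cases h : s = r
    · subst h
      have : ⁅(xG s t : GL chevD4.Idx K), xG s u⁆ = 1 := by
        rw [commutatorElement_eq_one_iff_mul_comm, ← xG_add, ← xG_add, add_comm]
      rw [this]
      exact one_mem _
    · rw [xG_comm (ge_lQ r hr).1 (ge_lQ r hr).2 (ge_lQ s hs).1 (ge_lQ s hs).2 h]
      have h2 := comm_lQ r hr s hs h
      unfold cval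
      rcases hc : D4CommTab.cm r s with _ | kc
      · exact one_mem _
      · rw [hc] at h2
        have h3 : kc.1 = 23 := by simpa using h2
        show xG kc.1 _ ∈ _
        rw [h3]
        exact mem_RS (by simp) _

theorem lQ_eq : lQ = [14] ++ ([19, 16, 15] ++ ([21, 17, 20] ++ ([22] ++ [23]))) := rfl

theorem sig_RS (φ : K →+* K) {l : List ℕ} (hl : (l.all fun r => decide (r < 24) && l.contains (rhoN r)) = true)
    {g : GL chevD4.Idx K} (hg : g ∈ RS K l) : sig φ g ∈ RS K l := by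
  have key : RS K l ≤ (RS K l).comap (sig φ) := by
    refine rspan_le xG fun s hs t => ?_
    have h1 := List.all_eq_true.1 hl s hs
    rw [Bool.and_eq_true, decide_eq_true_eq, List.contains_iff_mem] at h1
    have h2 : rhoN s = (rho ⟨s, h1.1⟩).val := dif_pos h1.1
    show sig φ (xG (⟨s, h1.1⟩ : Fin 24).val t) ∈ RS K l
    rw [sig_x]
    exact mem_RS (by rw [← h2]; exact h1.2) _
  exact key hg

theorem inf_mem {H : Subgroup (GL chevD4.Idx K)} {S : Set (K →+* K)} {g : GL chevD4.Idx K} (h1 : g ∈ H)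
    (h2 : g ∈ FS S) : g ∈ H ⊓ FS S := ⟨h1, h2⟩

theorem lprod_one (r : ℕ) (t : ℕ → K) : (lprod xG [r] t : GL chevD4.Idx K) = xG r (t r) := by
  rw [lprod_cons, lprod_nil, mul_one]

theorem exists_RS1 {r : ℕ} (hg : goodB [r] = true) {g : GL chevD4.Idx K} (h : g ∈ RS K [r]) : ∃ t, g = xG r t := by
  obtain ⟨t, rfl⟩ := exists_RS (by simp) hg h
  exact ⟨_, lprod_one r t⟩

/-- **The data for triality.** -/
theorem tri [CharP K 3] (hcr : ∀ c : K, ∃ t, t ^ 3 = c) (S : Set (K →+* K)) {G : Subgroup (GL chevD4.Idx K)}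
    (hG : chevD4.posUnipotent K ⊓ FS S ≤ G) (hna : na K ∈ G) (hnb : nb K ∈ G)
    (hA : H1 (sig (RingHom.id K)) (RS K [18, 13, 12] ⊓ FS S)) (h1 : H1 (sig (RingHom.id K)) (RS K [19, 16, 15] ⊓ FS S))
    (h2 : H1 (sig (RingHom.id K)) (RS K [21, 17, 20] ⊓ FS S)) :
    Tri (sig (RingHom.id K)) G (chevD4.posUnipotent K ⊓ FS S) (RS K lQ ⊓ FS S) (RS K [18, 13, 12] ⊓ FS S)
      (RS K [14] ⊓ FS S) (RS K [19, 16, 15] ⊓ FS S) (RS K [21, 17, 20] ⊓ FS S) (RS K [22] ⊓ FS S)
      (RS K [23] ⊓ FS S) where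
  UG := hG
  AU := inf_le_inf_right _ (RS_le_U (by decide +kernel))
  QU := inf_le_inf_right _ (RS_le_U (by decide +kernel))
  BQ := inf_le_inf_right _ (RS_mono (by decide))
  X1Q := inf_le_inf_right _ (RS_mono (by decide))
  X2Q := inf_le_inf_right _ (RS_mono (by decide))
  X3Q := inf_le_inf_right _ (RS_mono (by decide))
  RQ := inf_le_inf_right _ (RS_mono (by decide))
  sA a ha := inf_mem (sig_RS _ (by decide +kernel) ha.1) (sig_FS ha.2)
  sQ a ha := inf_mem (sig_RS _ (by decide +kernel) ha.1) (sig_FS ha.2)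
  s1 a ha := inf_mem (sig_RS _ (by decide +kernel) ha.1) (sig_FS ha.2)
  s2 a ha := inf_mem (sig_RS _ (by decide +kernel) ha.1) (sig_FS ha.2)
  fB a ha := by
    obtain ⟨t, rfl⟩ := exists_RS1 (by decide +kernel) ha.1
    rw [sig_14]; rfl
  f3 a ha := by
    obtain ⟨t, rfl⟩ := exists_RS1 (by decide +kernel) ha.1
    rw [sig_22]; rfl
  fR a ha := by
    obtain ⟨t, rfl⟩ := exists_RS1 (by decide +kernel) ha.1
    rw [sig_23]; rfl
  cube g _ := sig_cube g
  dec u hu := by
    obtain ⟨t, rfl⟩ := exists_crd hu.1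
    have e : (lprod xG LB.flatten t : GL chevD4.Idx K) = lprod xG [18, 13, 12] t * lprod xG lQ t := by
      rw [← lprod_append]; rfl
    have h3 : lprod xG [18, 13, 12] t ∈ FS S := orbit_FS hu.2 (by decide)
    refine ⟨lprod xG [18, 13, 12] t, inf_mem (lprod_mem_rspan xG (fun _ h => h) t) h3, lprod xG lQ t,
      inf_mem (lprod_mem_rspan xG (fun _ h => h) t) ?_, e⟩
    have h4 : lprod xG lQ t = (lprod xG [18, 13, 12] t)⁻¹ * lprod xG LB.flatten t := by rw [e, inv_mul_cancel_left]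
    rw [h4]
    exact mul_mem (inv_mem h3) hu.2
  norm a ha q hq := inf_mem (normA ha.1 hq.1) (mul_mem (mul_mem (inv_mem ha.2) hq.2) ha.2)
  inf a ha hq := by
    obtain ⟨t, rfl⟩ := exists_RS (by decide) (by decide +kernel) ha.1
    obtain ⟨t', ht'⟩ := exists_RS (by decide) (by decide +kernel) hq.1
    exact indep (by decide +kernel) (by decide) ht'
  decQ q hq := by
    obtain ⟨t, rfl⟩ := exists_RS (by decide) (by decide +kernel) hq.1
    -- extend by zero to `U`
    classical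
    obtain ⟨t', ht'⟩ : ∃ t' : ℕ → K, t' = fun r => if r ∈ lQ then t r else 0 := ⟨_, rfl⟩
    have e0 : ∀ l : List ℕ, (∀ r ∈ l, r ∈ lQ) → (lprod xG l t : GL chevD4.Idx K) = lprod xG l t' := fun l hl =>
      lprod_congr xG fun r hr => by rw [ht']; exact (if_pos (hl r hr)).symm
    have e : (lprod xG LB.flatten t' : GL chevD4.Idx K) = lprod xG lQ t := by
      have e1 : (lprod xG LB.flatten t' : GL chevD4.Idx K) = lprod xG [18, 13, 12] t' * lprod xG lQ t' := by
        rw [← lprod_append]; rfl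
      have e2 : (lprod xG [18, 13, 12] t' : GL chevD4.Idx K) = 1 := by
        have e3 : t' 18 = 0 ∧ t' 13 = 0 ∧ t' 12 = 0 := by
          rw [ht']
          exact ⟨if_neg (by decide), if_neg (by decide), if_neg (by decide)⟩
        rw [lprod_cons, lprod_cons, lprod_cons, lprod_nil, e3.1, e3.2.1, e3.2.2, xG_zero, xG_zero, xG_zero]
        simp
      rw [e1, e2, one_mul, e0 lQ (fun _ h => h)]
    have hF : lprod xG LB.flatten t' ∈ FS S := by rw [e]; exact hq.2
    have hf : ∀ o ∈ LB, (∀ r ∈ o, r ∈ lQ) → lprod xG o t ∈ RS K o ⊓ FS S := by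
      intro o ho hoQ
      refine inf_mem (lprod_mem_rspan xG (fun _ h => h) t) ?_
      rw [e0 o hoQ]
      exact orbit_FS hF ho
    refine ⟨_, hf [14] (by decide) (by decide), _, hf [19, 16, 15] (by decide) (by decide), _,
      hf [21, 17, 20] (by decide) (by decide), _, hf [22] (by decide) (by decide), _,
      hf [23] (by decide) (by decide), ?_⟩
    rw [lQ_eq, lprod_append, lprod_append, lprod_append, lprod_append]
    simp only [mul_assoc]
  uniq b hb x1 hx1 x2 hx2 x3 hx3 r hr h := by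
    obtain ⟨b, rfl⟩ := exists_RS (by decide) (by decide +kernel) hb.1
    obtain ⟨t1, rfl⟩ := exists_RS (by decide) (by decide +kernel) hx1.1
    obtain ⟨t2, rfl⟩ := exists_RS (by decide) (by decide +kernel) hx2.1
    obtain ⟨t3, rfl⟩ := exists_RS (by decide) (by decide +kernel) hx3.1
    obtain ⟨t4, rfl⟩ := exists_RS (by decide) (by decide +kernel) hr.1
    obtain ⟨t, ht⟩ : ∃ t : ℕ → K, t = fun s => if s ∈ [14] then b s else if s ∈ [19, 16, 15] then t1 s else
      if s ∈ [21, 17, 20] then t2 s else if s ∈ [22] then t3 s else t4 s := ⟨_, rfl⟩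
    have c0 : (lprod xG [14] b : GL chevD4.Idx K) = lprod xG [14] t := lprod_congr xG fun s hs => by
      rw [ht]; simp only [if_pos hs]
    have c1 : (lprod xG [19, 16, 15] t1 : GL chevD4.Idx K) = lprod xG [19, 16, 15] t := lprod_congr xG fun s hs => by
      have n0 : s ∉ [14] := by revert s; decide
      rw [ht]; simp only [if_neg n0, if_pos hs]
    have c2 : (lprod xG [21, 17, 20] t2 : GL chevD4.Idx K) = lprod xG [21, 17, 20] t := lprod_congr xG fun s hs => by
      have n0 : s ∉ [14] := by revert s; decide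
      have n1 : s ∉ [19, 16, 15] := by revert s; decide
      rw [ht]; simp only [if_neg n0, if_neg n1, if_pos hs]
    have c3 : (lprod xG [22] t3 : GL chevD4.Idx K) = lprod xG [22] t := lprod_congr xG fun s hs => by
      have n0 : s ∉ [14] := by revert s; decide
      have n1 : s ∉ [19, 16, 15] := by revert s; decide
      have n2 : s ∉ [21, 17, 20] := by revert s; decide
      rw [ht]; simp only [if_neg n0, if_neg n1, if_neg n2, if_pos hs]
    have c4 : (lprod xG [23] t4 : GL chevD4.Idx K) = lprod xG [23] t := lprod_congr xG fun s hs => by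
      have n0 : s ∉ [14] := by revert s; decide
      have n1 : s ∉ [19, 16, 15] := by revert s; decide
      have n2 : s ∉ [21, 17, 20] := by revert s; decide
      have n3 : s ∉ [22] := by revert s; decide
      rw [ht]; simp only [if_neg n0, if_neg n1, if_neg n2, if_neg n3]
    have hl : (lprod xG lQ t : GL chevD4.Idx K) = lprod xG lQ fun _ => (0 : K) := by
      rw [lQ_eq, lprod_append, lprod_append, lprod_append, lprod_append, ← c0, ← c1, ← c2, ← c3, ← c4]
      rw [← mul_assoc, ← mul_assoc, ← mul_assoc, h]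
      simp only [lprod_append, lprod_cons, lprod_nil, xG_zero, mul_one]
    have h0 := lprod_inj lQ (by decide +kernel) hl
    have h1' : ∀ l : List ℕ, (∀ s ∈ l, s ∈ lQ) → (lprod xG l t : GL chevD4.Idx K) = 1 := by
      intro l hl
      rw [lprod_congr xG (t' := fun _ => (0 : K)) fun s hs => h0 s (hl s hs)]
      unfold lprod
      apply List.prod_eq_one
      intro g hg
      obtain ⟨r, -, rfl⟩ := List.mem_map.1 hg
      exact xG_zero r
    exact ⟨c1.trans (h1' _ (by decide)), c2.trans (h1' _ (by decide))⟩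
  comm g hg h hh := inf_mem (commQ hg.1 hh.1) (by
    rw [commutatorElement_def]
    exact mul_mem (mul_mem (mul_mem hg.2 hh.2) (inv_mem hg.2)) (inv_mem hh.2))
  cenR r hr u hu := central hu.1 hr.1
  hA := hA
  h1 := h1
  h2 := h2
  cA3 a ha x hx := by
    obtain ⟨t, rfl⟩ := exists_RS (by decide) (by decide +kernel) ha.1
    obtain ⟨c, rfl⟩ := exists_RS1 (by decide +kernel) hx.1
    rw [lprod_cons, lprod_cons, lprod_cons, lprod_nil, mul_one]
    have c1 : Commute (xG 18 (t 18) : GL chevD4.Idx K) (xG 22 c) := xG_commute (by decide +kernel) _ _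
    have c2 : Commute (xG 13 (t 13) : GL chevD4.Idx K) (xG 22 c) := xG_commute (by decide +kernel) _ _
    have c3 : Commute (xG 12 (t 12) : GL chevD4.Idx K) (xG 22 c) := xG_commute (by decide +kernel) _ _
    exact (c1.mul_left (c2.mul_left c3)).eq
  F5 b hb hb1 c hc := by
    obtain ⟨s, rfl⟩ := exists_RS1 (by decide +kernel) hb.1
    obtain ⟨d, rfl⟩ := exists_RS1 (by decide +kernel) hc.1
    have hs : s ≠ 0 := by
      rintro rfl
      exact hb1 (xG_zero _)
    obtain ⟨t, ht⟩ := hcr (d / s)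
    have hfs : ∀ φ ∈ S, φ s = s := by
      intro φ hφ
      have h3 := mem_FS.1 hb.2 φ hφ
      rw [sig_14] at h3
      have h4 := lprod_inj [14] (by decide +kernel) (t := fun _ => φ s) (t' := fun _ => s) (by
        rw [lprod_one, lprod_one]; exact h3)
      exact h4 14 (by simp)
    have hfd : ∀ φ ∈ S, φ d = d := by
      intro φ hφ
      have h3 := mem_FS.1 hc.2 φ hφ
      rw [sig_22] at h3
      have h4 := lprod_inj [22] (by decide +kernel) (t := fun _ => φ d) (t' := fun _ => d) (by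
        rw [lprod_one, lprod_one]; exact h3)
      exact h4 22 (by simp)
    have hft : ∀ φ ∈ S, φ t = t := by
      intro φ hφ
      have h3 : (φ t) ^ 3 = t ^ 3 := by rw [← map_pow, ht, map_div₀, hfs φ hφ, hfd φ hφ]
      have : ExpChar K 3 := ExpChar.prime Nat.prime_three
      have h4 : (φ t - t) ^ 3 = 0 := by rw [sub_pow_expChar, h3, sub_self]
      exact sub_eq_zero.1 (pow_eq_zero_iff (by norm_num) |>.1 h4)
    have hmem : ∀ φ : K →+* K, φ t = t → sig φ (xG 18 t * (xG 13 t * xG 12 t)) = xG 18 t * (xG 13 t * xG 12 t) := by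
      intro φ h
      rw [map_mul, map_mul, sig_18, sig_13, sig_12, h]
      have c1 : Commute (xG 18 t : GL chevD4.Idx K) (xG 13 t) := xG_commute (by decide +kernel) _ _
      have c2 : Commute (xG 18 t : GL chevD4.Idx K) (xG 12 t) := xG_commute (by decide +kernel) _ _
      rw [← mul_assoc, ← (c1.mul_right c2).eq]
    have hst : s * (t * (t * t)) = d := by
      have : s * (t * (t * t)) = s * t ^ 3 := by ring
      rw [this, ht, mul_div_cancel₀ _ hs]
    have hw := conj_word s t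
    rw [hst] at hw
    have hlhs : (xG 18 t * (xG 13 t * xG 12 t) : GL chevD4.Idx K)⁻¹ * xG 14 s * (xG 18 t * (xG 13 t * xG 12 t)) =
        xG 12 (-t) * (xG 13 (-t) * (xG 18 (-t) * (xG 14 s * (xG 18 t * (xG 13 t * xG 12 t))))) := by
      rw [xG_neg, xG_neg, xG_neg, mul_inv_rev, mul_inv_rev]
      simp only [mul_assoc]
    have i19 : ∀ φ : K →+* K, φ (s * t) = s * t →
        sig φ (xG 19 (s * t) * (xG 16 (-(s * t)) * xG 15 (-(s * t)))) =
          xG 19 (s * t) * (xG 16 (-(s * t)) * xG 15 (-(s * t))) := by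
      intro φ h
      rw [map_mul, map_mul, sig_19, sig_16, sig_15, map_neg, h, neg_neg]
      have c1 : Commute (xG 19 (s * t) : GL chevD4.Idx K) (xG 16 (-(s * t))) := xG_commute (by decide +kernel) _ _
      have c2 : Commute (xG 19 (s * t) : GL chevD4.Idx K) (xG 15 (-(s * t))) := xG_commute (by decide +kernel) _ _
      rw [← mul_assoc, ← (c1.mul_right c2).eq]
    have i21 : ∀ φ : K →+* K, φ (s * (t * t)) = s * (t * t) →
        sig φ (xG 21 (-(s * (t * t))) * (xG 17 (s * (t * t)) * xG 20 (-(s * (t * t))))) =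
          xG 21 (-(s * (t * t))) * (xG 17 (s * (t * t)) * xG 20 (-(s * (t * t)))) := by
      intro φ h
      rw [map_mul, map_mul, sig_21, sig_17, sig_20, map_neg, h, neg_neg]
      have c1 : Commute (xG 21 (-(s * (t * t))) : GL chevD4.Idx K) (xG 17 (s * (t * t))) :=
        xG_commute (by decide +kernel) _ _
      have c2 : Commute (xG 21 (-(s * (t * t))) : GL chevD4.Idx K) (xG 20 (-(s * (t * t)))) :=
        xG_commute (by decide +kernel) _ _
      rw [← mul_assoc, ← (c1.mul_right c2).eq]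
    refine ⟨xG 18 t * (xG 13 t * xG 12 t), inf_mem (mul_mem (mem_RS (by simp) t) (mul_mem (mem_RS (by simp) t)
      (mem_RS (by simp) t))) (mem_FS.2 fun φ hφ => hmem φ (hft φ hφ)), hmem _ rfl,
      xG 19 (s * t) * (xG 16 (-(s * t)) * xG 15 (-(s * t))), inf_mem (mul_mem (mem_RS (by simp) _)
        (mul_mem (mem_RS (by simp) _) (mem_RS (by simp) _))) (mem_FS.2 fun φ hφ => i19 φ (by
          rw [map_mul, hfs φ hφ, hft φ hφ])),
      xG 21 (-(s * (t * t))) * (xG 17 (s * (t * t)) * xG 20 (-(s * (t * t)))), inf_mem (mul_mem (mem_RS (by simp) _)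
        (mul_mem (mem_RS (by simp) _) (mem_RS (by simp) _))) (mem_FS.2 fun φ hφ => i21 φ (by
          rw [map_mul, map_mul, hfs φ hφ, hft φ hφ])),
      xG 23 ((s * s) * (t * (t * t))), inf_mem (mem_RS (by simp) _) (mem_FS.2 fun φ hφ => by
        rw [sig_23, map_mul, map_mul, map_mul, map_mul, hfs φ hφ, hft φ hφ]), ?_⟩
    rw [hlhs, hw]
    simp only [mul_assoc]
  F6 := by
    refine ⟨nb K, hnb, sig_nb _, fun b hb => ?_, fun r hr => ?_⟩
    · exact inf_mem (nb_inv_RS K (by decide +kernel) hb.1) (mul_mem (mul_mem (inv_mem (nb_FS S)) hb.2) (nb_FS S))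
    · exact inf_mem (nb_inv_RS K (by decide +kernel) hr.1) (mul_mem (mul_mem (inv_mem (nb_FS S)) hr.2) (nb_FS S))
  F6' := by
    refine ⟨na K, hna, sig_na _, fun b hb => ?_⟩
    exact inf_mem (na_inv_RS K (by decide +kernel) hb.1) (mul_mem (mul_mem (inv_mem (na_FS S)) hb.2) (na_FS S))
  F7 c hc hc1 r hr := by
    obtain ⟨d, rfl⟩ := exists_RS1 (by decide +kernel) hc.1
    obtain ⟨e, rfl⟩ := exists_RS1 (by decide +kernel) hr.1
    have hd : d ≠ 0 := by
      rintro rfl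
      exact hc1 (xG_zero _)
    have hfd : ∀ φ ∈ S, φ d = d := by
      intro φ hφ
      have h3 := mem_FS.1 hc.2 φ hφ
      rw [sig_22] at h3
      have h4 := lprod_inj [22] (by decide +kernel) (t := fun _ => φ d) (t' := fun _ => d) (by
        rw [lprod_one, lprod_one]; exact h3)
      exact h4 22 (by simp)
    have hfe : ∀ φ ∈ S, φ e = e := by
      intro φ hφ
      have h3 := mem_FS.1 hr.2 φ hφ
      rw [sig_23] at h3
      have h4 := lprod_inj [23] (by decide +kernel) (t := fun _ => φ e) (t' := fun _ => e) (by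
        rw [lprod_one, lprod_one]; exact h3)
      exact h4 23 (by simp)
    refine ⟨xG 14 (-(e / d)), inf_mem (mem_RS (by simp) _) (mem_FS.2 fun φ hφ => by
      rw [sig_14, map_neg, map_div₀, hfd φ hφ, hfe φ hφ]), ?_⟩
    have h3 : ⁅(xG 14 (e / d) : GL chevD4.Idx K), xG 22 d⁆ = xG 23 e := by
      rw [xG_comm (by norm_num) (by norm_num) (by norm_num) (by norm_num) (by norm_num)]
      have h4 : D4CommTab.cm 14 22 = some (23, 1) := by decide +kernel
      unfold cval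
      rw [h4]
      show xG 23 (((1 : ℤ) : K) * (e / d * d)) = xG 23 e
      rw [Int.cast_one, one_mul, div_mul_cancel₀ _ hd]
    rw [commutatorElement_def] at h3
    have h5 : xG 23 e * xG 22 d = (xG 22 d * xG 23 e : GL chevD4.Idx K) := by
      have c1 : Commute (xG 22 d : GL chevD4.Idx K) (xG 23 e) := xG_commute (by decide +kernel) _ _
      exact c1.eq.symm
    rw [xG_neg, inv_inv, ← h5, ← h3]
    group

end

end Cfsg.Agent.CpAutTri.TriD

end

-- merged: Cfsg.Agent.CpAutTri.Nor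
section

/-!
# The fixed points of triality: the normal subgroup generated by the root groups (S1814, triality in characteristic 3)

`DS S` : generated by the `FS S`-parts of the root groups of the orbits; `normal_DS`, `solvable_quot` :
`DS S ⊲ D₄(K) ∩ FS S` with solvable quotient.
-/

set_option autoImplicit false

namespace Cfsg.Agent.CpAutTri.Nor

open Cfsg.Lie Cfsg.Agent.ChevalleyStructure
open Cfsg.Agent.ChevalleyStructure.TwistedU Cfsg.Agent.ChevalleyStructure.TwistedFix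
open Cfsg.Agent.ChevalleyStructure.D4Comm Cfsg.Agent.ChevalleyStructure.WordCheck
open Cfsg.Agent.ChevalleyStructure.D4Pos (mem_ordA_iff ordA ordB lprod_inj good_of_goodB goodB uniqB)
open Cfsg.Agent.ChevalleyStructure.D4NConj (torG torG_mul)
open Cfsg.Agent.ChevalleyStructure.D4RGD
open Cfsg.Agent.ChevalleyStructure.D4U
open Cfsg.Agent.ChevalleyStructure.GraphSymm
open Cfsg.Agent.ChevalleyStructure.D4Fixed (sig fix coe_sig mem_fix)
open Cfsg.Agent.CpAutTri.Bru Cfsg.Agent.CpAutTri.Fam Cfsg.Agent.CpAutTri.Inst Cfsg.Agent.CpAutTri.TriD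
open scoped commutatorElement

/-! ### `N` is solvable -/

theorem solvable_W : Group.IsSolvable (⟨4, coxeterD4⟩ : Σ n : ℕ, CoxeterMatrix (Fin n)).2.Group := by
  have h := Cfsg.Agent.S1092.result (⟨4, coxeterD4⟩, 192) (by simp)
  have hf : Finite (⟨4, coxeterD4⟩ : Σ n : ℕ, CoxeterMatrix (Fin n)).2.Group := by
    apply Nat.finite_of_card_ne_zero
    rw [h]
    norm_num
  exact Cfsg.Agent.S0144.result 2 3 6 1 Nat.prime_two Nat.prime_three (by rw [h]; norm_num)

section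
variable {K : Type*} [Field K]

theorem diag_comm {a b : GL chevD4.Idx K} (ha : a ∈ chevD4.diagonalSubgroup K) (hb : b ∈ chevD4.diagonalSubgroup K) :
    a * b = b * a := by
  obtain ⟨c, rfl⟩ := diagonal_le_torus K ha
  obtain ⟨d, rfl⟩ := diagonal_le_torus K hb
  rw [torG_mul, torG_mul, mul_comm]

theorem solvable_N : Group.IsSolvable ↥(chevD4.monomialSubgroup K) := by
  obtain ⟨f, -, hker, -⟩ := Cfsg.Agent.S1039.result (F := K) (chevD4, ⟨4, coxeterD4⟩) (by simp)
  have h1 : Group.IsSolvable ↥(f.ker) := by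
    apply Group.isSolvable_of_comm
    rintro ⟨a, ha⟩ ⟨b, hb⟩
    rw [hker, Subgroup.mem_subgroupOf] at ha hb
    apply Subtype.ext
    apply Subtype.ext
    exact diag_comm ha hb
  have h2 := solvable_W
  exact Group.isSolvable_of_ker_le_range f.ker.subtype f (by rw [Subgroup.range_subtype])

/-! ### the normal subgroup -/

/-- the orbit of a root -/
def O (r : Fin 24) : List ℕ := [r.val, (rho r).val, (rho (rho r)).val]

/-- the group generated by the `FS S`-parts of the root groups of the orbits -/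
noncomputable def DS (S : Set (K →+* K)) : Subgroup (GL chevD4.Idx K) := ⨆ r : Fin 24, (RS K (O r) ⊓ FS S)

theorem part_le (S : Set (K →+* K)) (r : Fin 24) : RS K (O r) ⊓ FS S ≤ DS S :=
  le_iSup (fun r : Fin 24 => RS K (O r) ⊓ FS S) r

theorem DS_le_FS (S : Set (K →+* K)) : DS S ≤ FS S := iSup_le fun _ => inf_le_right

theorem RS_le_G (l : List ℕ) : RS K l ≤ chevD4.group K := rspan_le xG fun _ _ _ => xG_mem_group _ _

theorem DS_le_G (S : Set (K →+* K)) : DS S ≤ chevD4.group K := iSup_le fun _ => inf_le_left.trans (RS_le_G _)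

theorem RS_O_le {o : List ℕ} {r : Fin 24} (h : ∀ k ∈ o, k ∈ O r) (S : Set (K →+* K)) : RS K o ⊓ FS S ≤ DS S :=
  (inf_le_inf_right _ (RS_mono h)).trans (part_le S r)

theorem U_le_DS (S : Set (K →+* K)) : chevD4.posUnipotent K ⊓ FS S ≤ DS S := by
  rintro u ⟨hu, hf⟩
  obtain ⟨t, rfl⟩ := exists_crd hu
  have h : ∀ o ∈ LB, ∀ r : Fin 24, (∀ k ∈ o, k ∈ O r) → lprod xG o t ∈ DS S := by
    intro o ho r hr
    exact RS_O_le hr S ⟨lprod_mem_rspan xG (fun _ h => h) t, orbit_FS hf ho⟩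
  have e : (lprod xG LB.flatten t : GL chevD4.Idx K) = lprod xG [18, 13, 12] t * (lprod xG [14] t *
      (lprod xG [19, 16, 15] t * (lprod xG [21, 17, 20] t * (lprod xG [22] t * lprod xG [23] t)))) := by
    rw [← lprod_append, ← lprod_append, ← lprod_append, ← lprod_append, ← lprod_append]
    rfl
  rw [e]
  refine mul_mem (h _ (by decide) 18 (by decide +kernel)) (mul_mem (h _ (by decide) 14 (by decide +kernel))
    (mul_mem (h _ (by decide) 19 (by decide +kernel)) (mul_mem (h _ (by decide) 21 (by decide +kernel))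
      (mul_mem (h _ (by decide) 22 (by decide +kernel)) (h _ (by decide) 23 (by decide +kernel))))))

theorem conj_DS {S : Set (K →+* K)} (hS : S.Nonempty) {n : GL chevD4.Idx K} (hn : n ∈ chevD4.monomialSubgroup K)
    (hf : n ∈ FS S) {g : GL chevD4.Idx K} (hg : g ∈ DS S) : n * g * n⁻¹ ∈ DS S := by
  obtain ⟨φ, hφ⟩ := hS
  obtain ⟨w, hw⟩ := exists_act hn
  have hc := act_comm hn hw (mem_FS.1 hf φ hφ)
  have key : DS S ≤ (DS S).comap (MulAut.conj n).toMonoidHom := by
    refine iSup_le fun r => ?_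
    have h1 : RS K (O r) ≤ (RS K (O (w r))).comap (MulAut.conj n).toMonoidHom := by
      refine rspan_le xG ?_
      intro k hk t
      have h2 : ∃ s : Fin 24, k = s.val ∧ (w s).val ∈ O (w r) := by
        have hk' : k = r.val ∨ k = (rho r).val ∨ k = (rho (rho r)).val := by simpa [O] using hk
        rcases hk' with rfl | rfl | rfl
        · exact ⟨r, rfl, by simp [O]⟩
        · exact ⟨rho r, rfl, by rw [hc]; simp [O]⟩
        · exact ⟨rho (rho r), rfl, by rw [hc, hc]; simp [O]⟩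
      obtain ⟨s, rfl, hs⟩ := h2
      obtain ⟨u, e⟩ := hw.x s t
      show n * xG s.val t * n⁻¹ ∈ RS K (O (w r))
      rw [e]
      exact mem_RS hs u
    rintro x ⟨hx, hxf⟩
    exact part_le S (w r) ⟨h1 hx, Subgroup.mul_mem _ (Subgroup.mul_mem _ hf hxf) (Subgroup.inv_mem _ hf)⟩
  exact key hg

/-- normal form of the fixed elements -/
theorem fix_form {S : Set (K →+* K)} {g : GL chevD4.Idx K} (hg : g ∈ chevD4.group K) (hf : g ∈ FS S) :
    ∃ u ∈ chevD4.posUnipotent K ⊓ FS S, ∃ n ∈ chevD4.monomialSubgroup K ⊓ FS S,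
      ∃ v ∈ chevD4.posUnipotent K ⊓ FS S, g = u * n * v := by
  obtain ⟨u, hu, n, hn, w, hw, v, hv, rfl⟩ := exists_bru hg
  rw [mem_FS] at hf
  refine ⟨u, ⟨hu, mem_FS.2 fun φ hφ => (bru_fix hu hn hw hv (hf φ hφ)).1⟩, n,
    ⟨hn, mem_FS.2 fun φ hφ => (bru_fix hu hn hw hv (hf φ hφ)).2.1⟩, v,
    ⟨UM_le w hv, mem_FS.2 fun φ hφ => (bru_fix hu hn hw hv (hf φ hφ)).2.2⟩, rfl⟩

/-- the fixed points in `D₄(K)` -/
noncomputable def CS (S : Set (K →+* K)) : Subgroup (GL chevD4.Idx K) := chevD4.group K ⊓ FS S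

theorem DS_le_CS (S : Set (K →+* K)) : DS S ≤ CS S := le_inf (DS_le_G S) (DS_le_FS S)

theorem CS_le_normalizer {S : Set (K →+* K)} (hS : S.Nonempty) {g : GL chevD4.Idx K} (hg : g ∈ CS S)
    {d : GL chevD4.Idx K} (hd : d ∈ DS S) : g * d * g⁻¹ ∈ DS S := by
  obtain ⟨u, hu, n, hn, v, hv, rfl⟩ := fix_form hg.1 hg.2
  have hu' := U_le_DS S hu
  have hv' := U_le_DS S hv
  have h1 : v * d * v⁻¹ ∈ DS S := mul_mem (mul_mem hv' hd) (inv_mem hv')
  have h2 := conj_DS hS hn.1 hn.2 h1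
  have h3 := mul_mem (mul_mem hu' h2) (inv_mem hu')
  have e : u * n * v * d * (u * n * v)⁻¹ = u * (n * (v * d * v⁻¹) * n⁻¹) * u⁻¹ := by group
  rw [e]
  exact h3

theorem normal_DS {S : Set (K →+* K)} (hS : S.Nonempty) : ((DS S).subgroupOf (CS S)).Normal := by
  refine ⟨fun d hd g => ?_⟩
  rw [Subgroup.mem_subgroupOf] at hd ⊢
  exact CS_le_normalizer hS g.2 hd

/-- **The quotient is solvable.** -/
theorem solvable_quot {S : Set (K →+* K)} (hS : S.Nonempty) :
    haveI := normal_DS (K := K) hS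
    Group.IsSolvable (↥(CS S) ⧸ (DS S).subgroupOf (CS S)) := by
  have hn := normal_DS (K := K) hS
  have hN : Group.IsSolvable ↥(chevD4.monomialSubgroup K ⊓ FS S : Subgroup (GL chevD4.Idx K)) := by
    have := solvable_N (K := K)
    exact Group.isSolvable_of_isSolvable_injective (f := Subgroup.inclusion (inf_le_left :
      chevD4.monomialSubgroup K ⊓ FS S ≤ chevD4.monomialSubgroup K)) (Subgroup.inclusion_injective _)
  have hle : chevD4.monomialSubgroup K ⊓ FS S ≤ CS S := inf_le_inf_right _ (by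
    intro n hn
    exact Elts.monomial_le_group hD K hn)
  refine Group.isSolvable_of_surjective (f := (QuotientGroup.mk' ((DS S).subgroupOf (CS S))).comp
    (Subgroup.inclusion hle)) ?_
  intro x
  obtain ⟨⟨g, hg⟩, rfl⟩ := QuotientGroup.mk'_surjective _ x
  obtain ⟨u, hu, n, hn', v, hv, rfl⟩ := fix_form hg.1 hg.2
  refine ⟨⟨n, hn'⟩, ?_⟩
  show QuotientGroup.mk' _ (⟨n, hle hn'⟩ : ↥(CS S)) = QuotientGroup.mk' _ ⟨u * n * v, hg⟩
  have hu' := U_le_DS S hu
  have hv' := U_le_DS S hv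
  rw [QuotientGroup.mk'_apply, QuotientGroup.mk'_apply, QuotientGroup.eq, Subgroup.mem_subgroupOf]
  show n⁻¹ * (u * n * v) ∈ DS S
  have h1 := conj_DS hS (Subgroup.inv_mem _ hn'.1) (Subgroup.inv_mem _ hn'.2) hu'
  have e : n⁻¹ * (u * n * v) = n⁻¹ * u * (n⁻¹)⁻¹ * v := by group
  rw [e]
  exact mul_mem h1 hv'

end

end Cfsg.Agent.CpAutTri.Nor

end

-- merged: Cfsg.Agent.CpAutTri.Gen
section

/-!
# Generators of the fixed points of triality (S1814, triality in characteristic 3)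

`DS_le` : `DS S` is generated by `x₁₄(t)`, `x₉(t)`, `X(t)`, `Y(t)`, `t ∈ kF S`.
-/

set_option autoImplicit false

namespace Cfsg.Agent.CpAutTri.Gen

open Cfsg.Lie Cfsg.Agent.ChevalleyStructure
open Cfsg.Agent.ChevalleyStructure.TwistedU Cfsg.Agent.ChevalleyStructure.TwistedFix
open Cfsg.Agent.ChevalleyStructure.D4Comm Cfsg.Agent.ChevalleyStructure.WordCheck
open Cfsg.Agent.ChevalleyStructure.D4Pos (mem_ordA_iff ordA ordB lprod_inj good_of_goodB goodB uniqB)
open Cfsg.Agent.ChevalleyStructure.D4NConj (torG torG_mul nR nR_def nG nG_def)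
open Cfsg.Agent.ChevalleyStructure.D4RGD
open Cfsg.Agent.ChevalleyStructure.D4U
open Cfsg.Agent.ChevalleyStructure.GraphSymm
open Cfsg.Agent.ChevalleyStructure.D4Fixed (sig fix coe_sig mem_fix)
open Cfsg.Agent.CpAutTri.Bru Cfsg.Agent.CpAutTri.Fam Cfsg.Agent.CpAutTri.Inst Cfsg.Agent.CpAutTri.TriD
open Cfsg.Agent.CpAutTri.Nor

universe u

section
variable {K : Type u} [Field K]

/-- the field fixed by `S` -/
def kF (S : Set (K →+* K)) : Subfield K := ⨅ φ ∈ S, RingHom.eqLocusField φ (RingHom.id K)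

theorem mem_kF {S : Set (K →+* K)} {t : K} : t ∈ kF S ↔ ∀ φ ∈ S, φ t = t := by
  unfold kF
  simp only [Subfield.mem_iInf]
  exact Iff.rfl

/-- `x₁₈(t) x₁₃(t) x₁₂(t)` -/
noncomputable def X (t : K) : GL chevD4.Idx K := xG 18 t * xG 13 t * xG 12 t

/-- `x₅(t) x₁₀(t) x₁₁(t)` -/
noncomputable def Y (t : K) : GL chevD4.Idx K := xG 5 t * xG 10 t * xG 11 t

theorem X_eq (t : K) : X t = D4Fixed.X (RingHom.id K) t := by
  unfold X D4Fixed.X
  rw [xU_eq, xU_eq, xU_eq]
  rfl

theorem Y_eq (t : K) : Y t = D4Fixed.Y (RingHom.id K) t := by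
  unfold Y D4Fixed.Y
  rw [xU_eq, xU_eq, xU_eq]
  rfl

theorem sig_X {φ : K →+* K} {t : K} (h : φ t = t) : sig φ (X t) = X t := by
  have e : X t = D4Fixed.X φ t := by
    unfold X D4Fixed.X
    rw [xU_eq, xU_eq, xU_eq, h, h]
  rw [e]
  exact D4Fixed.fix_X φ (by rw [h, h, h])

theorem sig_Y {φ : K →+* K} {t : K} (h : φ t = t) : sig φ (Y t) = Y t := by
  have e : Y t = D4Fixed.Y φ t := by
    unfold Y D4Fixed.Y
    rw [xU_eq, xU_eq, xU_eq, h, h]
  rw [e]
  exact D4Fixed.fix_Y φ (by rw [h, h, h])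

theorem X_mem {S : Set (K →+* K)} {t : K} (h : t ∈ kF S) : X t ∈ DS S := by
  refine RS_O_le (o := [18, 13, 12]) (r := 18) (by decide +kernel) S ⟨?_, ?_⟩
  · exact mul_mem (mul_mem (mem_RS (by simp) _) (mem_RS (by simp) _)) (mem_RS (by simp) _)
  · exact mem_FS.2 fun φ hφ => sig_X (mem_kF.1 h φ hφ)

theorem Y_mem {S : Set (K →+* K)} {t : K} (h : t ∈ kF S) : Y t ∈ DS S := by
  refine RS_O_le (o := [5, 10, 11]) (r := 5) (by decide +kernel) S ⟨?_, ?_⟩
  · exact mul_mem (mul_mem (mem_RS (by simp) _) (mem_RS (by simp) _)) (mem_RS (by simp) _)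
  · exact mem_FS.2 fun φ hφ => sig_Y (mem_kF.1 h φ hφ)

theorem x14_mem {S : Set (K →+* K)} {t : K} (h : t ∈ kF S) : xG 14 t ∈ DS S := by
  refine RS_O_le (o := [14]) (r := 14) (by decide +kernel) S ⟨mem_RS (by simp) _, ?_⟩
  exact mem_FS.2 fun φ hφ => by rw [sig_14, mem_kF.1 h φ hφ]

theorem x9_mem {S : Set (K →+* K)} {t : K} (h : t ∈ kF S) : xG 9 t ∈ DS S := by
  refine RS_O_le (o := [9]) (r := 9) (by decide +kernel) S ⟨mem_RS (by simp) _, ?_⟩
  exact mem_FS.2 fun φ hφ => by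
    have h1 := D4Fixed.sig_9 φ t
    rw [xU_eq, xU_eq] at h1
    rw [h1, mem_kF.1 h φ hφ]

theorem RS14_fix {S : Set (K →+* K)} {g : GL chevD4.Idx K} (hg : g ∈ RS K [14]) (hf : g ∈ FS S) :
    ∃ t ∈ kF S, g = xG 14 t := by
  obtain ⟨t, rfl⟩ := exists_RS (by decide) (by decide +kernel) hg
  rw [lprod_cons, lprod_nil, mul_one] at hf ⊢
  refine ⟨t 14, mem_kF.2 fun φ hφ => ?_, rfl⟩
  have h1 := mem_FS.1 hf φ hφ
  rw [sig_14] at h1
  exact Elts.xG_injective hD (r := 14) (by decide) (Units.ext (congrArg Units.val h1))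

theorem RSA_fix {S : Set (K →+* K)} (hid : RingHom.id K ∈ S) {g : GL chevD4.Idx K} (hg : g ∈ RS K [18, 13, 12])
    (hf : g ∈ FS S) : ∃ t ∈ kF S, g = X t := by
  obtain ⟨a, b, c, rfl⟩ := (orbA (RingHom.id K)).ex g hg
  have h0 := mem_FS.1 hf _ hid
  rw [(orbA (RingHom.id K)).sigma] at h0
  obtain ⟨h1, h2, -⟩ := (orbA (RingHom.id K)).eq_of h0
  rw [Int.cast_one, one_mul, RingHom.id_apply] at h1 h2
  subst h1
  subst h2
  refine ⟨c, mem_kF.2 fun φ hφ => ?_, rfl⟩
  have h3 := mem_FS.1 hf _ hφ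
  rw [(orbA φ).sigma] at h3
  obtain ⟨h4, -, -⟩ := (orbA φ).eq_of h3
  rwa [Int.cast_one, one_mul] at h4

/-- all orbits -/
def orbs : List (List ℕ) := [[14], [9], [18, 13, 12], [5, 10, 11], [19, 16, 15], [21, 17, 20], [22], [23], [4, 7, 8],
  [2, 6, 3], [1], [0]]

theorem orbs_check : ∀ r : Fin 24, ∃ o ∈ orbs, ∀ k ∈ O r, k ∈ o := by decide +kernel

theorem part_step {S : Set (K →+* K)} {H : Subgroup (GL chevD4.Idx K)} {n : GL chevD4.Idx K} {l l' : List ℕ}
    (hn : n ∈ H) (hf : n ∈ FS S) (hc : ∀ g ∈ RS K l, n * g * n⁻¹ ∈ RS K l') (h : RS K l' ⊓ FS S ≤ H) :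
    RS K l ⊓ FS S ≤ H := by
  rintro g ⟨hg, hgf⟩
  exact mem_of_conj hn (h ⟨hc g hg, Subgroup.mul_mem _ (Subgroup.mul_mem _ hf hgf) (Subgroup.inv_mem _ hf)⟩)

/-- **Generators of `DS S`.** -/
theorem DS_le {S : Set (K →+* K)} (hid : RingHom.id K ∈ S) {H : Subgroup (GL chevD4.Idx K)}
    (h14 : ∀ t ∈ kF S, xG 14 t ∈ H) (h9 : ∀ t ∈ kF S, xG 9 t ∈ H) (hX : ∀ t ∈ kF S, X t ∈ H)
    (hY : ∀ t ∈ kF S, Y t ∈ H) : DS S ≤ H := by
  have h1 : (1 : K) ∈ kF S := one_mem _
  have h1' : (-1 : K) ∈ kF S := neg_mem h1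
  have hna : na K ∈ H := by
    have e : na K = xG 14 1 * (xG 9 (-(1 : K)⁻¹) * xG 14 1) := rfl
    rw [e, inv_one]
    exact mul_mem (h14 _ h1) (mul_mem (h9 _ h1') (h14 _ h1))
  have hnb : nb K ∈ H := by
    have e1 := D4Twisted.nb_eq (RingHom.id K)
    have e2 := D4Twisted.Y_rank_one (RingHom.id K) (-1 : K)
    have e3 : (-((-1 : K)⁻¹)) = 1 := by rw [inv_neg, inv_one, neg_neg]
    rw [e3, ← e1, ← X_eq, ← Y_eq] at e2
    have e4 : nb K = (X (-1 : K)⁻¹)⁻¹ * Y (-1 : K) * (X (-1 : K)⁻¹)⁻¹ := by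
      rw [e2]
      group
    have e5 : (-1 : K)⁻¹ = -1 := by rw [inv_neg, inv_one]
    rw [e4, e5]
    exact mul_mem (mul_mem (inv_mem (hX _ h1')) (hY _ h1')) (inv_mem (hX _ h1'))
  have fa : na K ∈ FS S := na_FS S
  have fb : nb K ∈ FS S := nb_FS S
  have o14 : RS K [14] ⊓ FS S ≤ H := by
    rintro g ⟨hg, hf⟩
    obtain ⟨t, ht, rfl⟩ := RS14_fix hg hf
    exact h14 t ht
  have oA : RS K [18, 13, 12] ⊓ FS S ≤ H := by
    rintro g ⟨hg, hf⟩
    obtain ⟨t, ht, rfl⟩ := RSA_fix hid hg hf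
    exact hX t ht
  have o9 : RS K [9] ⊓ FS S ≤ H := part_step hna fa (fun g hg => na_RS K (l' := [14]) (by decide +kernel) hg) o14
  have o5 : RS K [5, 10, 11] ⊓ FS S ≤ H :=
    part_step hnb fb (fun g hg => nb_RS K (l' := [18, 13, 12]) (by decide +kernel) hg) oA
  have o19 : RS K [19, 16, 15] ⊓ FS S ≤ H :=
    part_step hna fa (fun g hg => na_RS K (l' := [18, 13, 12]) (by decide +kernel) hg) oA
  have o21 : RS K [21, 17, 20] ⊓ FS S ≤ H :=
    part_step hnb fb (fun g hg => nb_RS K (l' := [19, 16, 15]) (by decide +kernel) hg) o19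
  have o22 : RS K [22] ⊓ FS S ≤ H := part_step hnb fb (fun g hg => nb_RS K (l' := [14]) (by decide +kernel) hg) o14
  have o23 : RS K [23] ⊓ FS S ≤ H := part_step hna fa (fun g hg => na_RS K (l' := [22]) (by decide +kernel) hg) o22
  have o4 : RS K [4, 7, 8] ⊓ FS S ≤ H :=
    part_step hna fa (fun g hg => na_RS K (l' := [5, 10, 11]) (by decide +kernel) hg) o5
  have o2 : RS K [2, 6, 3] ⊓ FS S ≤ H :=
    part_step hnb fb (fun g hg => nb_RS K (l' := [4, 7, 8]) (by decide +kernel) hg) o4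
  have o1 : RS K [1] ⊓ FS S ≤ H := part_step hnb fb (fun g hg => nb_RS K (l' := [9]) (by decide +kernel) hg) o9
  have o0 : RS K [0] ⊓ FS S ≤ H := part_step hna fa (fun g hg => na_RS K (l' := [1]) (by decide +kernel) hg) o1
  refine iSup_le fun r => ?_
  obtain ⟨o, ho, hr⟩ := orbs_check r
  refine (inf_le_inf_right _ (RS_mono hr)).trans ?_
  simp only [orbs, List.mem_cons, List.not_mem_nil, or_false] at ho
  rcases ho with rfl | rfl | rfl | rfl | rfl | rfl | rfl | rfl | rfl | rfl | rfl | rfl <;> assumption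

end

end Cfsg.Agent.CpAutTri.Gen

end

-- merged: Cfsg.Agent.CpAutTri.Hom
section

/-!
# The fixed points of triality and `G₂` (S1814, triality in characteristic 3)

`rho3` : the action of the centraliser of `P` on the fixed space of `P`; `ker_rho3` : its kernel has exponent 3;
`equivG2` : if it is injective on `DS S` then `DS S ≃ G₂(kF S)`.
-/

set_option autoImplicit false

namespace Cfsg.Agent.CpAutTri.Hom

open Cfsg.Lie Cfsg.Agent.ChevalleyStructure
open Cfsg.Agent.ChevalleyStructure.D4Comm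
open Cfsg.Agent.ChevalleyStructure.D4RGD
open Cfsg.Agent.ChevalleyStructure.GraphSymm
open Cfsg.Agent.ChevalleyStructure.D4Fixed (sig fix coe_sig mem_fix)
open Cfsg.Agent.CpAutTri.Bru Cfsg.Agent.CpAutTri.Fam Cfsg.Agent.CpAutTri.Inst Cfsg.Agent.CpAutTri.TriD
open Cfsg.Agent.CpAutTri.Nor Cfsg.Agent.CpAutTri.Gen Cfsg.Agent.CpAutTri.Iota
open Cfsg.Agent.CpAut.RgdSub
open scoped Matrix

universe u

section
variable {K : Type u} [Field K]

theorem comm_P {g : GL chevD4.Idx K} (hg : g ∈ fix (RingHom.id K)) : (g : Matrix chevD4.Idx chevD4.Idx K) * symmD4a.mat K =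
    symmD4a.mat K * g := by
  have h1 : sig (RingHom.id K) g = g := hg
  rw [coe_sig_id, mul_inv_eq_iff_eq_mul] at h1
  exact (congrArg Units.val h1).symm

theorem fix_I {g : GL chevD4.Idx K} (hg : g ∈ fix (RingHom.id K)) :
    I K * (J K * ((g : Matrix chevD4.Idx chevD4.Idx K) * I K)) = (g : Matrix chevD4.Idx chevD4.Idx K) * I K := by
  apply I_J_of_fix
  rw [← Matrix.mul_assoc, ← comm_P hg, Matrix.mul_assoc, P_mul_I]

/-- the action on the fixed space -/
noncomputable def rho0 (K : Type u) [Field K] : ↥(fix (RingHom.id K)) →* Matrix chevG2.Idx chevG2.Idx K where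
  toFun g := J K * (((g : GL chevD4.Idx K) : Matrix chevD4.Idx chevD4.Idx K) * I K)
  map_one' := by
    show J K * ((1 : Matrix chevD4.Idx chevD4.Idx K) * I K) = 1
    rw [Matrix.one_mul, J_mul_I]
  map_mul' g h := by
    have e := fix_I h.2
    calc J K * ((((g : GL chevD4.Idx K) : Matrix chevD4.Idx chevD4.Idx K) *
          ((h : GL chevD4.Idx K) : Matrix chevD4.Idx chevD4.Idx K)) * I K) =
        J K * (((g : GL chevD4.Idx K) : Matrix chevD4.Idx chevD4.Idx K) *
          (((h : GL chevD4.Idx K) : Matrix chevD4.Idx chevD4.Idx K) * I K)) := by rw [Matrix.mul_assoc]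
      _ = J K * (((g : GL chevD4.Idx K) : Matrix chevD4.Idx chevD4.Idx K) * (I K * (J K *
          (((h : GL chevD4.Idx K) : Matrix chevD4.Idx chevD4.Idx K) * I K)))) := by rw [e]
      _ = _ := by simp only [Matrix.mul_assoc]

/-- the action on the fixed space -/
noncomputable def rho3 (K : Type u) [Field K] : ↥(fix (RingHom.id K)) →* GL chevG2.Idx K := (rho0 K).toHomUnits

theorem coe_rho3 (g : ↥(fix (RingHom.id K))) : ((rho3 K g : GL chevG2.Idx K) : Matrix chevG2.Idx chevG2.Idx K) =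
    J K * (((g : GL chevD4.Idx K) : Matrix chevD4.Idx chevD4.Idx K) * I K) := rfl

theorem hG2 : Elts.InList chevG2 := by simp [Elts.InList]

theorem rho3_gen {r : ℕ} {o : List ℕ} (h : (r, o) ∈ gens) {t : K} {g : GL chevD4.Idx K}
    (hg : g ∈ fix (RingHom.id K)) (e : (g : Matrix chevD4.Idx chevD4.Idx K) = chevD4.wordMat K (o.map fun s => (s, t))) :
    rho3 K ⟨g, hg⟩ = Elts.xG hG2 r t := by
  apply Units.ext
  rw [coe_rho3, Elts.coe_xG, e, int_gens h t, ← Matrix.mul_assoc, J_mul_I, Matrix.one_mul]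

theorem coe_x14 (t : K) : ((xG 14 t : GL chevD4.Idx K) : Matrix chevD4.Idx chevD4.Idx K) =
    chevD4.wordMat K ([14].map fun s => (s, t)) := by
  simp [ChevalleyDatum.wordMat, coe_xG]

theorem coe_x9 (t : K) : ((xG 9 t : GL chevD4.Idx K) : Matrix chevD4.Idx chevD4.Idx K) =
    chevD4.wordMat K ([9].map fun s => (s, t)) := by
  simp [ChevalleyDatum.wordMat, coe_xG]

theorem coe_X (t : K) : ((X t : GL chevD4.Idx K) : Matrix chevD4.Idx chevD4.Idx K) =
    chevD4.wordMat K ([18, 13, 12].map fun s => (s, t)) := by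
  simp [ChevalleyDatum.wordMat, coe_xG, X, Units.val_mul, mul_assoc]

theorem coe_Y (t : K) : ((Y t : GL chevD4.Idx K) : Matrix chevD4.Idx chevD4.Idx K) =
    chevD4.wordMat K ([5, 10, 11].map fun s => (s, t)) := by
  simp [ChevalleyDatum.wordMat, coe_xG, Y, Units.val_mul, mul_assoc]

theorem DS_le_fix {S : Set (K →+* K)} (hid : RingHom.id K ∈ S) : DS S ≤ fix (RingHom.id K) := by
  intro g hg
  exact mem_FS.1 (DS_le_FS S hg) _ hid

/-- the image of `G₂(k)` in `GL₁₄(K)` -/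
noncomputable def MG (S : Set (K →+* K)) : Subgroup (GL chevG2.Idx K) := (chevG2.group ↥(kF S)).map (glm chevG2 (kF S))

theorem xG_mem_MG {S : Set (K →+* K)} (r : ℕ) {t : K} (ht : t ∈ kF S) : Elts.xG hG2 r t ∈ MG S := by
  have h1 := glm_xG hG2 (kF S) r ⟨t, ht⟩
  exact ⟨_, Elts.xG_mem_group hG2 r _, h1⟩

theorem map_le {S : Set (K →+* K)} (hid : RingHom.id K ∈ S) {g : ↥(fix (RingHom.id K))}
    (hg : (g : GL chevD4.Idx K) ∈ DS S) : rho3 K g ∈ MG S := by
  have key : DS S ≤ ((MG S).comap (rho3 K)).map (fix (RingHom.id K)).subtype := by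
    apply DS_le hid
    · intro t ht
      have hm : xG 14 t ∈ fix (RingHom.id K) := DS_le_fix hid (x14_mem ht)
      refine ⟨⟨_, hm⟩, ?_, rfl⟩
      show rho3 K _ ∈ MG S
      rw [rho3_gen (r := 6) (o := [14]) (by simp [gens]) hm (coe_x14 t)]
      exact xG_mem_MG _ ht
    · intro t ht
      have hm : xG 9 t ∈ fix (RingHom.id K) := DS_le_fix hid (x9_mem ht)
      refine ⟨⟨_, hm⟩, ?_, rfl⟩
      show rho3 K _ ∈ MG S
      rw [rho3_gen (r := 5) (o := [9]) (by simp [gens]) hm (coe_x9 t)]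
      exact xG_mem_MG _ ht
    · intro t ht
      have hm : X t ∈ fix (RingHom.id K) := DS_le_fix hid (X_mem ht)
      refine ⟨⟨_, hm⟩, ?_, rfl⟩
      show rho3 K _ ∈ MG S
      rw [rho3_gen (r := 7) (o := [18, 13, 12]) (by simp [gens]) hm (coe_X t)]
      exact xG_mem_MG _ ht
    · intro t ht
      have hm : Y t ∈ fix (RingHom.id K) := DS_le_fix hid (Y_mem ht)
      refine ⟨⟨_, hm⟩, ?_, rfl⟩
      show rho3 K _ ∈ MG S
      rw [rho3_gen (r := 4) (o := [5, 10, 11]) (by simp [gens]) hm (coe_Y t)]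
      exact xG_mem_MG _ ht
  obtain ⟨g', hg', e⟩ := key hg
  have : g' = g := Subtype.ext e
  rw [← this]
  exact hg'

theorem simple_list : chevG2.simple 0 = 7 ∧ chevG2.simple 1 = 6 := by decide +kernel

theorem neg_list : chevG2.neg 7 = 4 ∧ chevG2.neg 6 = 5 := by decide +kernel

theorem le_map {S : Set (K →+* K)} (hid : RingHom.id K ∈ S) :
    MG S ≤ ((DS S).subgroupOf (fix (RingHom.id K))).map (rho3 K) := by
  have h14 : ∀ t ∈ kF S, Elts.xG hG2 6 t ∈ ((DS S).subgroupOf (fix (RingHom.id K))).map (rho3 K) := by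
    intro t ht
    have hm : xG 14 t ∈ fix (RingHom.id K) := DS_le_fix hid (x14_mem ht)
    exact ⟨⟨_, hm⟩, x14_mem ht, rho3_gen (r := 6) (o := [14]) (by simp [gens]) hm (coe_x14 t)⟩
  have h9 : ∀ t ∈ kF S, Elts.xG hG2 5 t ∈ ((DS S).subgroupOf (fix (RingHom.id K))).map (rho3 K) := by
    intro t ht
    have hm : xG 9 t ∈ fix (RingHom.id K) := DS_le_fix hid (x9_mem ht)
    exact ⟨⟨_, hm⟩, x9_mem ht, rho3_gen (r := 5) (o := [9]) (by simp [gens]) hm (coe_x9 t)⟩
  have hX : ∀ t ∈ kF S, Elts.xG hG2 7 t ∈ ((DS S).subgroupOf (fix (RingHom.id K))).map (rho3 K) := by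
    intro t ht
    have hm : X t ∈ fix (RingHom.id K) := DS_le_fix hid (X_mem ht)
    exact ⟨⟨_, hm⟩, X_mem ht, rho3_gen (r := 7) (o := [18, 13, 12]) (by simp [gens]) hm (coe_X t)⟩
  have hY : ∀ t ∈ kF S, Elts.xG hG2 4 t ∈ ((DS S).subgroupOf (fix (RingHom.id K))).map (rho3 K) := by
    intro t ht
    have hm : Y t ∈ fix (RingHom.id K) := DS_le_fix hid (Y_mem ht)
    exact ⟨⟨_, hm⟩, Y_mem ht, rho3_gen (r := 4) (o := [5, 10, 11]) (by simp [gens]) hm (coe_Y t)⟩
  unfold MG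
  rw [Subgroup.map_le_iff_le_comap]
  apply TitsThree.KExcBase.group_le_of_simple hG2
  · intro i hi t
    rw [Subgroup.mem_comap, glm_xG]
    have hi' : i < 2 := hi
    interval_cases i
    · rw [simple_list.1]; exact hX _ t.2
    · rw [simple_list.2]; exact h14 _ t.2
  · intro i hi t
    rw [Subgroup.mem_comap, glm_xG]
    have hi' : i < 2 := hi
    interval_cases i
    · rw [simple_list.1, neg_list.1]; exact hY _ t.2
    · rw [simple_list.2, neg_list.2]; exact h9 _ t.2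

theorem map_eq {S : Set (K →+* K)} (hid : RingHom.id K ∈ S) :
    ((DS S).subgroupOf (fix (RingHom.id K))).map (rho3 K) = MG S := by
  apply le_antisymm _ (le_map hid)
  rintro _ ⟨g, hg, rfl⟩
  exact map_le hid hg

/-- **If the action on the fixed space is faithful then `DS S ≃ G₂(kF S)`.** -/
theorem equivG2 {S : Set (K →+* K)} (hid : RingHom.id K ∈ S)
    (hinj : ∀ g ∈ DS S, (g : Matrix chevD4.Idx chevD4.Idx K) * I K = I K → g = 1) :
    Nonempty (↥(DS S) ≃* ↥(chevG2.group ↥(kF S))) := by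
  have e1 : ↥(DS S) ≃* ↥((DS S).subgroupOf (fix (RingHom.id K))) := (Subgroup.subgroupOfEquivOfLe (DS_le_fix hid)).symm
  have hin : Function.Injective ((rho3 K).comp ((DS S).subgroupOf (fix (RingHom.id K))).subtype) := by
    rw [injective_iff_map_eq_one]
    intro g hg
    have h1 : J K * ((((g : ↥(fix (RingHom.id K))) : GL chevD4.Idx K) : Matrix chevD4.Idx chevD4.Idx K) * I K) = 1 := by
      rw [← coe_rho3]
      exact congrArg Units.val hg
    have h2 := fix_I (g : ↥(fix (RingHom.id K))).2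
    rw [h1, Matrix.mul_one] at h2
    have h3 := hinj _ g.2 h2.symm
    exact Subtype.ext (Subtype.ext h3)
  have e2 := MonoidHom.ofInjective hin
  have e3 : ((rho3 K).comp ((DS S).subgroupOf (fix (RingHom.id K))).subtype).range = MG S := by
    rw [MonoidHom.range_comp, Subgroup.range_subtype, map_eq hid]
  have e4 := (chevG2.group ↥(kF S)).equivMapOfInjective (glm chevG2 (kF S)) (glm_injective _)
  exact ⟨e1.trans (e2.trans ((MulEquiv.subgroupCongr e3).trans e4.symm))⟩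

end

end Cfsg.Agent.CpAutTri.Hom

end

-- merged: Cfsg.Agent.CpAutTri.Btw
section

/-!
# The fixed points of triality: the dichotomy (S1814)

`Dic p C L` : `C_C(O_p(C)) ≤ O_p(C)`, or `C` has a normal subgroup isomorphic to `L` with solvable quotient;
`dic_between` : the fixed points of an automorphism of order 3 between `DS S` and `CS S`, `id ∈ S`; `L = G₂(kF S)`.
-/

set_option autoImplicit false

namespace Cfsg.Agent.CpAutTri.Btw

open Subgroup Cfsg Cfsg.Lie Cfsg.Agent.ChevalleyStructure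
open Cfsg.Agent.ChevalleyStructure.D4Fixed (sig fix coe_sig mem_fix)
open Cfsg.Agent.LThree (Comps)
open Cfsg.Agent.CpAutTri.Fam Cfsg.Agent.CpAutTri.Nor Cfsg.Agent.CpAutTri.Gen Cfsg.Agent.CpAutTri.Hom
open Cfsg.Agent.CpAutTri.Iota

universe u v

/-- the structure of the fixed points -/
def Dic (p : ℕ) (C : Type u) [Group C] (L : Type v) [Group L] : Prop :=
  centralizer (pCore p C : Set C) ≤ pCore p C ∨
    ∃ (N : Subgroup C) (_ : N.Normal), Nonempty (↥N ≃* L) ∧ Group.IsSolvable (C ⧸ N)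

theorem Dic.comps {p : ℕ} [Fact p.Prime] {C : Type u} [Group C] [Finite C] {L : Type v} [Group L] (h : Dic p C L)
    (hL : InC p L) : Comps p C := by
  rcases h with h | ⟨N, hN, ⟨e⟩, hs⟩
  · exact CpAut.RgdNoComp.comps_of_charP h
  · exact Comps.of_normal Fact.out N ((CpQuot.Congr.inC_iff e p).2 hL) hs

theorem Dic.congr {p : ℕ} {C : Type u} {C' : Type v} [Group C] [Group C'] {L : Type*} [Group L] (e : C ≃* C')
    (h : Dic p C L) : Dic p C' L := by
  rcases h with h | ⟨N, hN, ⟨f⟩, hs⟩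
  · left
    intro y hy
    have h1 : (pCore p C).map e.toMonoidHom = pCore p C' := Lib.Cores.map_equiv_pCore e p
    have h2 : e.symm y ∈ centralizer (pCore p C : Set C) := by
      rw [mem_centralizer_iff]
      intro c hc
      have h3 : e c ∈ pCore p C' := by rw [← h1]; exact ⟨c, hc, rfl⟩
      have h4 := (mem_centralizer_iff.1 hy) _ h3
      apply e.injective
      rw [map_mul, map_mul, MulEquiv.apply_symm_apply]
      exact h4
    rw [← h1]
    exact ⟨_, h h2, e.apply_symm_apply y⟩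
  · right
    have hN' : (N.map e.toMonoidHom).Normal := hN.map _ e.surjective
    refine ⟨N.map e.toMonoidHom, hN', ⟨(N.equivMapOfInjective e.toMonoidHom e.injective).symm.trans f⟩, ?_⟩
    exact Group.isSolvable_of_surjective (f := (QuotientGroup.congr N (N.map e.toMonoidHom) e rfl).toMonoidHom)
      (QuotientGroup.congr N (N.map e.toMonoidHom) e rfl).surjective

section
variable {Y : Type u} [Group Y] {K : Type v} [Field K] {ι : Y →* GL chevD4.Idx K} {S : Set (K →+* K)}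
  {C : Subgroup Y}

/-- the subgroup `DS S` of `C` -/
theorem normal_of_between (hS : S.Nonempty) (h1 : ∀ y ∈ C, ι y ∈ CS S) : (((DS S).comap ι).subgroupOf C).Normal := by
  refine ⟨fun d hd g => ?_⟩
  rw [mem_subgroupOf, mem_comap] at hd ⊢
  rw [Subgroup.coe_mul, Subgroup.coe_mul, map_mul, map_mul, Subgroup.coe_inv, map_inv]
  exact CS_le_normalizer hS (h1 g g.2) hd

theorem solvable_of_between (hS : S.Nonempty) (h1 : ∀ y ∈ C, ι y ∈ CS S) :
    haveI := normal_of_between (ι := ι) hS h1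
    Group.IsSolvable (↥C ⧸ ((DS S).comap ι).subgroupOf C) := by
  have hn := normal_of_between (ι := ι) hS h1
  have hn' := normal_DS (K := K) hS
  have hs := solvable_quot (K := K) hS
  let f : ↥C →* ↥(CS S) := (ι.comp C.subtype).codRestrict (CS S) fun y => h1 y y.2
  let F : ↥C ⧸ ((DS S).comap ι).subgroupOf C →* ↥(CS S) ⧸ (DS S).subgroupOf (CS S) :=
    QuotientGroup.map _ _ f (fun y hy => hy)
  refine Group.isSolvable_of_isSolvable_injective (f := F) ?_
  rw [injective_iff_map_eq_one]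
  intro a ha
  obtain ⟨y, rfl⟩ := QuotientGroup.mk_surjective a
  have h2 : (f y : ↥(CS S)) ∈ (DS S).subgroupOf (CS S) := (QuotientGroup.eq_one_iff _).1 ha
  exact (QuotientGroup.eq_one_iff _).2 h2

theorem equiv_of_between (hι : Function.Injective ι) (h2 : ∀ g ∈ DS S, ∃ y ∈ C, ι y = g) :
    Nonempty (↥(((DS S).comap ι).subgroupOf C) ≃* ↥(DS S)) := by
  let f : ↥(((DS S).comap ι).subgroupOf C) →* ↥(DS S) :=
    (ι.comp (C.subtype.comp (((DS S).comap ι).subgroupOf C).subtype)).codRestrict (DS S) fun y => y.2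
  refine ⟨MulEquiv.ofBijective f ⟨?_, ?_⟩⟩
  · intro a b hab
    have h3 : ι ((a : ↥C) : Y) = ι ((b : ↥C) : Y) := congrArg Subtype.val hab
    exact Subtype.ext (Subtype.ext (hι h3))
  · rintro ⟨g, hg⟩
    obtain ⟨y, hy, rfl⟩ := h2 g hg
    exact ⟨⟨⟨y, hy⟩, hg⟩, rfl⟩

end

section
variable {Y : Type u} [Group Y] [Finite Y] [IsSimpleGroup Y] {K : Type v} [Field K] [CharP K 3]

/-- **The dichotomy.** -/
theorem dic_between {ι : Y →* GL chevD4.Idx K} (hι : Function.Injective ι) (hG : KFacts.RgdFilt.HasFilt 3 Y)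
    (hc : ∃ a b : Y, a * b ≠ b * a) {x : MulAut Y} (hx : orderOf x = 3) {S : Set (K →+* K)}
    (hid : RingHom.id K ∈ S) (h1 : ∀ y ∈ fixedSubgroup x, ι y ∈ CS S)
    (h2 : ∀ g ∈ DS S, ∃ y ∈ fixedSubgroup x, ι y = g) :
    Dic 3 ↥(fixedSubgroup x) ↥(chevG2.group ↥(kF S)) := by
  have : Fact (Nat.Prime 3) := ⟨Nat.prime_three⟩
  have hfix : ∀ y ∈ fixedSubgroup x, ι y ∈ fix (RingHom.id K) := fun y hy => mem_FS.1 (h1 y hy).2 _ hid
  by_cases hk : ∃ y ∈ fixedSubgroup x, y ≠ 1 ∧ (ι y : Matrix chevD4.Idx chevD4.Idx K) * I K = I K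
  · left
    let N : Subgroup Y :=
      { carrier := {y | y ∈ fixedSubgroup x ∧ (ι y : Matrix chevD4.Idx chevD4.Idx K) * I K = I K}
        mul_mem' := fun {a b} ha hb => ⟨mul_mem ha.1 hb.1, by
          rw [map_mul, Units.val_mul, Matrix.mul_assoc, hb.2, ha.2]⟩
        one_mem' := ⟨one_mem _, by rw [map_one, Units.val_one, Matrix.one_mul]⟩
        inv_mem' := fun {a} ha => ⟨inv_mem ha.1, by
          conv_lhs => rw [← ha.2]
          rw [← Matrix.mul_assoc, map_inv, Units.inv_mul, Matrix.one_mul]⟩ }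
    have hN : N ≤ fixedSubgroup x := fun y hy => hy.1
    have hN3 : ∀ y ∈ N, y ^ 3 = 1 := by
      intro y hy
      apply hι
      rw [map_pow, map_one]
      apply Units.ext
      rw [Units.val_pow_eq_pow_val]
      exact unip (comm_P (hfix y hy.1)) hy.2
    refine Dich.charP_fixed hG hc hx (N := N) hN ?_ ?_ ?_
    · rintro ⟨y, hy⟩
      exact ⟨1, Subtype.ext (by rw [pow_one]; exact hN3 y hy)⟩
    · intro hbot
      obtain ⟨y, hy, hy1, hyI⟩ := hk
      have h3 : y ∈ N := ⟨hy, hyI⟩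
      rw [hbot, mem_bot] at h3
      exact hy1 h3
    · intro g hg n hn
      refine ⟨mul_mem (mul_mem hg hn.1) (inv_mem hg), ?_⟩
      have h3 := fix_I (hfix g⁻¹ (inv_mem hg))
      rw [map_mul, map_mul, Units.val_mul, Units.val_mul, Matrix.mul_assoc, ← h3, Matrix.mul_assoc,
        ← Matrix.mul_assoc _ (I K), hn.2, h3, ← Matrix.mul_assoc, map_inv, Units.mul_inv, Matrix.one_mul]
  · right
    push Not at hk
    obtain ⟨e⟩ := equivG2 hid (by
      intro g hg hgI
      obtain ⟨y, hy, rfl⟩ := h2 g hg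
      by_contra hne
      exact hk y hy (fun h => hne (by rw [h, map_one])) hgI)
    obtain ⟨f⟩ := equiv_of_between (C := fixedSubgroup x) hι h2
    exact ⟨_, normal_of_between ⟨_, hid⟩ h1, ⟨f.trans e⟩, solvable_of_between ⟨_, hid⟩ h1⟩

end

end Cfsg.Agent.CpAutTri.Btw

end

-- merged: Cfsg.Agent.CpAutTri.Cen
section

/-!
# The centraliser of `conj z ∘ σ`, `z ∈ X_ρ`, centralises `z` (S1814, triality in characteristic 3)

`cen` : `g ∈ D₄(K)`, `z (sig id g) z⁻¹ = g`, `z = x_ρ(c)` imply `g z = z g`.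
-/

set_option autoImplicit false

namespace Cfsg.Agent.CpAutTri.Cen

open Cfsg.Lie Cfsg.Agent.ChevalleyStructure
open Cfsg.Agent.ChevalleyStructure.TwistedU Cfsg.Agent.ChevalleyStructure.TwistedFix
open Cfsg.Agent.ChevalleyStructure.D4Comm Cfsg.Agent.ChevalleyStructure.WordCheck
open Cfsg.Agent.ChevalleyStructure.D4Pos (mem_ordA_iff ordA ordB lprod_inj good_of_goodB goodB uniqB)
open Cfsg.Agent.ChevalleyStructure.D4RGD
open Cfsg.Agent.ChevalleyStructure.D4U
open Cfsg.Agent.ChevalleyStructure.GraphSymm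
open Cfsg.Agent.ChevalleyStructure.D4Fixed (sig fix coe_sig mem_fix)
open Cfsg.Agent.CpAutTri.Bru Cfsg.Agent.CpAutTri.Fam Cfsg.Agent.CpAutTri.Inst Cfsg.Agent.CpAutTri.TriD
open scoped commutatorElement

theorem fixed_roots : ∀ r : Fin 24, 12 ≤ r.val → rho r = r → r = 14 ∨ r = 22 ∨ r = 23 := by decide +kernel

theorem rho23 : rho 23 = 23 := by decide +kernel

section
variable {K : Type*} [Field K]

/-- the coordinates of `σ u` (order `14` first) -/
theorem sigA (t : ℕ → K) : sig (RingHom.id K) (lprod xG ordA t) = lprod xG ordA (tw (RingHom.id K) t) :=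
  sig_lprod (RingHom.id K) t

theorem exists_A {u : GL chevD4.Idx K} (hu : u ∈ chevD4.posUnipotent K) : ∃ t, u = lprod xG ordA t :=
  D4Pos.exists_lprod_of_mem ordA mem_ordA_iff (by decide) D4Pos.goodB_ordA hu

/-- `u⁻¹ σ(u)` has no component in `X₁₄`, `X₂₂`, `X₂₃` -/
theorem no_comp {u : GL chevD4.Idx K} (hu : u ∈ chevD4.posUnipotent K) {r : Fin 24} (hr : r = 14 ∨ r = 22 ∨ r = 23)
    {a b : K} (h : sig (RingHom.id K) u = u * (xG r.val a * xG 23 b)) : xG r.val a * xG 23 b = 1 := by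
  classical
  obtain ⟨t, rfl⟩ := exists_A hu
  rw [sigA] at h
  have hpre : ∀ c d : K, (lprod xG ordA t : GL chevD4.Idx K) * (xG 22 c * xG 23 d) =
      lprod xG ordA (Function.update (Function.update t 22 (t 22 + c)) 23 (t 23 + d)) := by
    intro c d
    have e1 : ∀ t : ℕ → K, (lprod xG ordA t : GL chevD4.Idx K) =
        lprod xG [14, 18, 13, 12, 19, 16, 15, 21, 17, 20] t * (xG 22 (t 22) * xG 23 (t 23)) := by
      intro t
      have : (ordA : List ℕ) = [14, 18, 13, 12, 19, 16, 15, 21, 17, 20] ++ [22, 23] := rfl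
      rw [this, lprod_append]
      congr 1
      rw [lprod_cons, lprod_cons, lprod_nil, mul_one]
    rw [e1 t, e1 (Function.update _ _ _)]
    have c1 : Commute (xG 22 c : GL chevD4.Idx K) (xG 23 (t 23)) := xG_commute (by decide +kernel) _ _
    have e2 : lprod xG [14, 18, 13, 12, 19, 16, 15, 21, 17, 20]
        (Function.update (Function.update t 22 (t 22 + c)) 23 (t 23 + d)) =
        (lprod xG [14, 18, 13, 12, 19, 16, 15, 21, 17, 20] t : GL chevD4.Idx K) := by
      refine lprod_congr xG fun s hs => ?_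
      have n1 : s ≠ 22 := by
        have h : ∀ s ∈ [14, 18, 13, 12, 19, 16, 15, 21, 17, 20], s ≠ 22 := by decide
        exact h s hs
      have n2 : s ≠ 23 := by
        have h : ∀ s ∈ [14, 18, 13, 12, 19, 16, 15, 21, 17, 20], s ≠ 23 := by decide
        exact h s hs
      rw [Function.update_of_ne n2, Function.update_of_ne n1]
    rw [e2, Function.update_self, Function.update_of_ne (by norm_num : (22 : ℕ) ≠ 23), Function.update_self, xG_add,
      xG_add]
    calc (lprod xG [14, 18, 13, 12, 19, 16, 15, 21, 17, 20] t : GL chevD4.Idx K) * (xG 22 (t 22) * xG 23 (t 23)) *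
        (xG 22 c * xG 23 d) = lprod xG [14, 18, 13, 12, 19, 16, 15, 21, 17, 20] t * (xG 22 (t 22) *
          (xG 23 (t 23) * xG 22 c) * xG 23 d) := by simp only [mul_assoc]
      _ = _ := by rw [← c1.eq]; simp only [mul_assoc]
  rcases hr with rfl | rfl | rfl
  · -- `14`
    have h14 : ∀ v ∈ RS K ordA.tail, ∀ c : K, xG 14 (-c) * v * xG 14 c ∈ RS K ordA.tail := by
      intro v hv c
      have h1 := conj_mem ((good_cons xG).1 (good_of_goodB ordA D4Pos.goodB_ordA)).1 (-c) hv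
      have e : (xG 14 (-c) * v * (xG 14 (-c))⁻¹ : GL chevD4.Idx K) = xG 14 (-c) * v * xG 14 c := by
        rw [xG_neg, inv_inv]
      rw [← e]
      exact h1
    have ht : (lprod xG ordA t : GL chevD4.Idx K) = xG 14 (t 14) * lprod xG ordA.tail t := by
      have : (ordA : List ℕ) = 14 :: ordA.tail := rfl
      conv_lhs => rw [this, lprod_cons]
    have hmem : xG 14 (-a) * lprod xG ordA.tail t * xG 14 a * xG 23 b ∈ RS K ordA.tail :=
      mul_mem (h14 _ (lprod_mem_rspan xG (fun _ h => h) t) a) (mem_RS (by decide) b)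
    obtain ⟨t', ht'⟩ := exists_RS (by decide) (by decide +kernel) hmem
    have e1 : (lprod xG ordA t : GL chevD4.Idx K) * (xG (14 : Fin 24).val a * xG 23 b) =
        lprod xG ordA (Function.update t' 14 (t 14 + a)) := by
      have e2 : (lprod xG ordA (Function.update t' 14 (t 14 + a)) : GL chevD4.Idx K) =
          xG 14 (t 14 + a) * lprod xG ordA.tail t' := by
        have : (ordA : List ℕ) = 14 :: ordA.tail := rfl
        conv_lhs => rw [this, lprod_cons, Function.update_self]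
        refine congrArg (fun y => xG 14 (t 14 + a) * y) (lprod_congr xG fun s hs => ?_)
        have n1 : s ≠ 14 := by
          have h : ∀ s ∈ ordA.tail, s ≠ 14 := by decide
          exact h s hs
        rw [Function.update_of_ne n1]
      rw [e2, ← ht', ht, xG_add, xG_neg]
      show xG 14 (t 14) * lprod xG ordA.tail t * (xG 14 a * xG 23 b) = _
      group
    rw [e1] at h
    have h2 := lprod_inj ordA D4Pos.uniqB_ordA h 14 (by decide)
    rw [Function.update_self] at h2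
    have h3 : tw (RingHom.id K) t 14 = t 14 := rfl
    rw [h3] at h2
    have ha : a = 0 := (left_eq_add.1 h2)
    subst ha
    -- now `b`
    have e3 : (lprod xG ordA t : GL chevD4.Idx K) * (xG 22 0 * xG 23 b) =
        lprod xG ordA (tw (RingHom.id K) t) := by
      rw [h, ← e1, xG_zero]
      congr 1
      rw [xG_zero]
    rw [hpre] at e3
    have h4 := lprod_inj ordA D4Pos.uniqB_ordA e3 23 (by decide)
    rw [Function.update_self] at h4
    have h5 : tw (RingHom.id K) t 23 = t 23 := rfl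
    rw [h5] at h4
    have hb : b = 0 := add_eq_left.1 h4
    rw [hb, xG_zero, xG_zero, one_mul]
  · have h' : lprod xG ordA (tw (RingHom.id K) t) = (lprod xG ordA t : GL chevD4.Idx K) * (xG 22 a * xG 23 b) := h
    rw [hpre] at h'
    have h1 := lprod_inj ordA D4Pos.uniqB_ordA h' 22 (by decide)
    have h2 := lprod_inj ordA D4Pos.uniqB_ordA h' 23 (by decide)
    rw [Function.update_self] at h2
    rw [Function.update_of_ne (by norm_num : (22 : ℕ) ≠ 23), Function.update_self] at h1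
    have h3 : tw (RingHom.id K) t 22 = t 22 := rfl
    have h5 : tw (RingHom.id K) t 23 = t 23 := rfl
    rw [h3] at h1
    rw [h5] at h2
    have ha : a = 0 := left_eq_add.1 h1
    have hb : b = 0 := left_eq_add.1 h2
    rw [ha, hb, xG_zero, xG_zero, one_mul]
  · have h' : lprod xG ordA (tw (RingHom.id K) t) = (lprod xG ordA t : GL chevD4.Idx K) *
        (xG 22 0 * xG 23 (a + b)) := by
      rw [h, xG_zero, one_mul, xG_add]
      rfl
    rw [hpre] at h'
    have h2 := lprod_inj ordA D4Pos.uniqB_ordA h' 23 (by decide)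
    rw [Function.update_self] at h2
    have h5 : tw (RingHom.id K) t 23 = t 23 := rfl
    rw [h5] at h2
    have hb : a + b = 0 := left_eq_add.1 h2
    show xG 23 a * xG 23 b = 1
    rw [← xG_add, hb, xG_zero]

/-- **`C(conj z ∘ σ)` centralises `z`.** -/
theorem cen {g : GL chevD4.Idx K} (hg : g ∈ chevD4.group K) {c : K} (hc : c ≠ 0)
    (h : xG 23 c * sig (RingHom.id K) g * (xG 23 c)⁻¹ = g) : g * xG 23 c = xG 23 c * g := by
  obtain ⟨u, hu, n, hn, w, hw, v, hv, rfl⟩ := exists_bru hg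
  obtain ⟨z, hz⟩ : ∃ z : GL chevD4.Idx K, z = xG 23 c := ⟨_, rfl⟩
  rw [← hz] at h ⊢
  have hzR : z ∈ RS K [23] := by rw [hz]; exact mem_RS (by simp) c
  have hzU : z ∈ chevD4.posUnipotent K := by rw [hz]; exact x_mem_U (r := 23) (by decide) c
  have hvU : v ∈ chevD4.posUnipotent K := UM_le w hv
  have hsz : sig (RingHom.id K) z = z := by rw [hz, sig_23]; rfl
  have hz1 : z ≠ 1 := by rw [hz]; exact x_ne_one (r := 23) hc
  have h1 : sig (RingHom.id K) (u * n * v) = z⁻¹ * (u * n * v) * z := by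
    rw [← h]
    conv_lhs => rw [h]
    group
  rw [map_mul, map_mul] at h1
  have hsu := sig_U (RingHom.id K) hu
  have hsn := sig_N (RingHom.id K) hn
  have hsw := sig_act (RingHom.id K) hn hw
  have hsv := sig_UM (RingHom.id K) hv
  by_cases hneg : (w 23).val < 12
  · -- `z ∈ U_w⁻`
    exfalso
    have hzw : z ∈ UM K w := by
      rw [hz]
      exact mem_rspan xG (S := {k | ∃ h : k < 24, 12 ≤ k ∧ (w ⟨k, h⟩).val < 12}) ⟨by norm_num, by norm_num, hneg⟩ c
    have h2 : sig (RingHom.id K) u * sig (RingHom.id K) n * sig (RingHom.id K) v = (z⁻¹ * u) * n * (v * z) := by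
      rw [h1]; simp only [mul_assoc]
    obtain ⟨-, -, h3⟩ := bru_unique hsu hsn hsw hsv (Subgroup.mul_mem _ (Subgroup.inv_mem _ hzU) hu) hn hw
      (Subgroup.mul_mem _ hv hzw) h2
    have h4 : sig (RingHom.id K) v = v * (xG (23 : Fin 24).val c * xG 23 0) := by
      rw [h3, hz, xG_zero, mul_one]
      rfl
    have h5 := no_comp hvU (r := 23) (Or.inr (Or.inr rfl)) h4
    rw [xG_zero, mul_one] at h5
    exact x_ne_one (r := 23) hc h5
  · rw [not_lt] at hneg
    obtain ⟨c', hc', e⟩ := hw.x_ne 23 hc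
    have e' : n * z * n⁻¹ = xG (w 23).val c' := by rw [hz]; exact e
    have hzn : n * z * n⁻¹ ∈ chevD4.posUnipotent K := by rw [e']; exact x_mem_U hneg c'
    have h2 : sig (RingHom.id K) u * sig (RingHom.id K) n * sig (RingHom.id K) v =
        (z⁻¹ * u * (n * z * n⁻¹)) * n * v := by
      rw [h1]
      have h3 : v * z = z * v := central hvU hzR
      calc z⁻¹ * (u * n * v) * z = z⁻¹ * u * n * (v * z) := by simp only [mul_assoc]
        _ = z⁻¹ * u * n * (z * v) := by rw [h3]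
        _ = _ := by group
    obtain ⟨h3, h4, h5⟩ := bru_unique hsu hsn hsw hsv
      (Subgroup.mul_mem _ (Subgroup.mul_mem _ (Subgroup.inv_mem _ hzU) hu) hzn) hn hw hv h2
    have hρ : rho (w 23) = w 23 := by
      have h6 := act_comm hn hw h4 23
      rw [rho23] at h6
      exact h6.symm
    have hr := fixed_roots (w 23) hneg hρ
    have hzu : z⁻¹ * u = u * z⁻¹ := by
      have := central hu hzR
      rw [inv_mul_eq_iff_eq_mul, ← mul_assoc, ← this, mul_inv_cancel_right]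
    have h6 : sig (RingHom.id K) u = u * (xG (w 23).val c' * xG 23 (-c)) := by
      have h7 : n * z * n⁻¹ * z⁻¹ = z⁻¹ * (n * z * n⁻¹) := by
        have := central hzn hzR
        rw [eq_inv_mul_iff_mul_eq, ← mul_assoc, ← this, mul_inv_cancel_right]
      rw [h3, hzu, mul_assoc, ← h7, e', hz, xG_neg]
    have h7 := no_comp hu hr h6
    have h8 : n * z * n⁻¹ = z := by
      rw [e', hz]
      rw [xG_neg, mul_inv_eq_one] at h7
      exact h7
    have h9 : n * z = z * n := by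
      rw [mul_inv_eq_iff_eq_mul] at h8
      exact h8
    have h10 : v * z = z * v := central hvU hzR
    have h11 : u * z = z * u := central hu hzR
    calc u * n * v * z = u * n * (v * z) := mul_assoc _ _ _
      _ = u * (n * z) * v := by rw [h10]; simp only [mul_assoc]
      _ = u * z * n * v := by rw [h9]; simp only [mul_assoc]
      _ = z * (u * n * v) := by rw [h11]; simp only [mul_assoc]

end

end Cfsg.Agent.CpAutTri.Cen

end

-- merged: Cfsg.Agent.CpAutTri.Abs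
section

/-!
# The automorphisms `conj u * s`, `s` the linear triality (S1814, triality in characteristic 3)

`dic_std` : the dichotomy for the fixed points of `conj u * s`, `u ∈ U`.
-/

set_option autoImplicit false
set_option linter.unusedSectionVars false

namespace Cfsg.Agent.CpAutTri.Abs

open Subgroup Cfsg Cfsg.Lie Cfsg.Agent.ChevalleyStructure
open Cfsg.Agent.ChevalleyStructure.D4Comm
open Cfsg.Agent.ChevalleyStructure.D4RGD
open Cfsg.Agent.ChevalleyStructure.D4U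
open Cfsg.Agent.ChevalleyStructure.D4Fixed (sig fix coe_sig mem_fix)
open Cfsg.Agent.LThree (Comps)
open Cfsg.Agent.CpAutTri.Bru
open Cfsg.Agent.CpAutTri.Fam Cfsg.Agent.CpAutTri.Nor Cfsg.Agent.CpAutTri.Gen Cfsg.Agent.CpAutTri.Hom
open Cfsg.Agent.CpAutTri.Inst Cfsg.Agent.CpAutTri.TriD Cfsg.Agent.CpAutTri.Cen
open Cfsg.Agent.CpAutTri.Iota Cfsg.Agent.CpAutTri.Btw Cfsg.Agent.CpAutTri.Coc
open Cfsg.Agent.CpAut.RgdCoh (conj_mul_eq)

universe u v

section
variable {Y : Type u} [Group Y]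

theorem cube_conj (s : MulAut Y) (u : Y) :
    (MulAut.conj u * s) ^ 3 = MulAut.conj (u * s u * s (s u)) * s ^ 3 := by
  rw [pow_succ, pow_succ, pow_one]
  calc MulAut.conj u * s * (MulAut.conj u * s) * (MulAut.conj u * s) =
      MulAut.conj u * (s * MulAut.conj u) * (s * MulAut.conj u) * s := by group
    _ = MulAut.conj u * (MulAut.conj (s u) * s) * (MulAut.conj (s u) * s) * s := by rw [conj_mul_eq]
    _ = MulAut.conj u * MulAut.conj (s u) * (s * MulAut.conj (s u)) * s * s := by group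
    _ = MulAut.conj u * MulAut.conj (s u) * (MulAut.conj (s (s u)) * s) * s * s := by rw [conj_mul_eq s (s u)]
    _ = _ := by rw [map_mul, map_mul, pow_succ, pow_succ, pow_one]; group

theorem eq_one_of_conj (hZ : center Y = ⊥) {w : Y} (h : MulAut.conj w = 1) : w = 1 := by
  have h1 : w ∈ center Y := by
    rw [mem_center_iff]
    intro g
    have h2 := DFunLike.congr_fun h g
    rw [MulAut.conj_apply, MulAut.one_apply, mul_inv_eq_iff_eq_mul] at h2
    exact h2.symm
  rwa [hZ, mem_bot] at h1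

theorem norm_eq_one (hZ : center Y = ⊥) {s : MulAut Y} (hs : s ^ 3 = 1) {u : Y}
    (hu : (MulAut.conj u * s) ^ 3 = 1) : u * s u * s (s u) = 1 := by
  rw [cube_conj, hs, mul_one] at hu
  exact eq_one_of_conj hZ hu

theorem fix_equiv {e x y : MulAut Y} (h : y = e * x * e⁻¹) : Nonempty (↥(fixedSubgroup x) ≃* ↥(fixedSubgroup y)) := by
  have h3 : MulAut.congr e x = y := by
    rw [h]
    ext g
    rfl
  rw [← h3]
  exact ⟨CpAut.fixEquiv e x⟩

theorem orderOf_conj_eq (e x : MulAut Y) : orderOf (e * x * e⁻¹) = orderOf x := by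
  have h : orderOf (MulAut.conj e x) = orderOf x := MulEquiv.orderOf_eq (MulAut.conj e) x
  exact h

theorem fix_inv (x : MulAut Y) : fixedSubgroup x⁻¹ = fixedSubgroup x := by
  ext g
  show x⁻¹ g = g ↔ x g = g
  constructor
  · intro h
    conv_lhs => rw [← h]
    exact MulAut.apply_inv_self _ x g
  · intro h
    conv_lhs => rw [← h]
    exact MulAut.inv_apply_self _ x g

end

section
variable {Y : Type u} [Group Y] [Finite Y] [IsSimpleGroup Y] {K : Type v} [Field K] [CharP K 3]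

/-- **The dichotomy for `conj u * s`, `s` the linear triality.** -/
theorem dic_std {ι : Y →* GL chevD4.Idx K} (hι : Function.Injective ι) (hG : KFacts.RgdFilt.HasFilt 3 Y)
    (hc : ∃ a b : Y, a * b ≠ b * a) {s : MulAut Y} (hs3 : s ^ 3 = 1)
    (hs : ∀ y, ι (s y) = sig (RingHom.id K) (ι y)) {S' S : Set (K →+* K)} (hid : RingHom.id K ∈ S)
    (hgr : ∀ y, ι y ∈ chevD4.group K)
    (h1 : ∀ y ∈ fixedSubgroup s, ι y ∈ CS S) (h2 : ∀ g ∈ DS S, ∃ y ∈ fixedSubgroup s, ι y = g)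
    (hT : ∀ u ∈ chevD4.posUnipotent K ⊓ FS S', u * sig (RingHom.id K) u *
      sig (RingHom.id K) (sig (RingHom.id K) u) = 1 → ∃ z ∈ RS K [23] ⊓ FS S', Eqv (sig (RingHom.id K)) ι.range u z)
    {u : Y} (hu : ι u ∈ chevD4.posUnipotent K ⊓ FS S') (hy : orderOf (MulAut.conj u * s) = 3) :
    Dic 3 ↥(fixedSubgroup (MulAut.conj u * s)) ↥(chevG2.group ↥(kF S)) := by
  have : Fact (Nat.Prime 3) := ⟨Nat.prime_three⟩
  have hZ : center Y = ⊥ := KFacts.RgdLieCharP.center_eq_bot hc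
  have hy3 : (MulAut.conj u * s) ^ 3 = 1 := by rw [← hy, pow_orderOf_eq_one]
  have hN := norm_eq_one hZ hs3 hy3
  have hN' : ι u * sig (RingHom.id K) (ι u) * sig (RingHom.id K) (sig (RingHom.id K) (ι u)) = 1 := by
    rw [← hs, ← hs, ← map_mul, ← map_mul, hN, map_one]
  obtain ⟨z, ⟨hz, hzF⟩, g, ⟨g', rfl⟩, hgz⟩ := hT (ι u) hu hN'
  obtain ⟨c, rfl⟩ := exists_RS1 (by decide +kernel) hz
  obtain ⟨z', hz'⟩ : ∃ z' : Y, z' = g'⁻¹ * u * s g' := ⟨_, rfl⟩
  have hιz : ι z' = xG 23 c := by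
    rw [← hgz, hz', map_mul, map_mul, map_inv, hs]
  have e1 : MulAut.conj u * s = MulAut.conj g' * (MulAut.conj z' * s) * (MulAut.conj g')⁻¹ := by
    rw [hz', map_mul, map_mul, map_inv]
    have h3 := conj_mul_eq s g'
    calc MulAut.conj u * s = MulAut.conj g' * (((MulAut.conj g')⁻¹ * MulAut.conj u * s) * MulAut.conj g') *
          (MulAut.conj g')⁻¹ := by group
      _ = MulAut.conj g' * ((MulAut.conj g')⁻¹ * MulAut.conj u * (s * MulAut.conj g')) * (MulAut.conj g')⁻¹ := by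
        group
      _ = _ := by rw [h3]; group
  have hord : orderOf (MulAut.conj z' * s) = 3 := by
    rw [← orderOf_conj_eq (MulAut.conj g'), ← e1, hy]
  obtain ⟨f⟩ := fix_equiv e1
  refine Dic.congr f ?_
  by_cases hc0 : c = 0
  · have hz1 : z' = 1 := by
      apply hι
      rw [hιz, hc0, xG_zero, map_one]
    rw [hz1, map_one, one_mul] at hord ⊢
    exact dic_between hι hG hc hord hid h1 h2
  · left
    have hz1 : z' ≠ 1 := by
      rintro h3
      rw [h3, map_one] at hιz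
      exact x_ne_one (r := 23) hc0 hιz.symm
    have hsz : s z' = z' := by
      apply hι
      rw [hs, hιz, sig_23]
      rfl
    have hzC : z' ∈ fixedSubgroup (MulAut.conj z' * s) := by
      show z' * s z' * z'⁻¹ = z'
      rw [hsz, mul_inv_cancel_right]
    have hz3 : z' ^ 3 = 1 := by
      apply hι
      rw [map_pow, map_one, hιz, pow_succ, pow_succ, pow_one, ← xG_add, ← xG_add]
      have h3 : c + c + c = 0 := by
        have h4 : (3 : K) = 0 := by exact_mod_cast CharP.cast_eq_zero K 3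
        linear_combination c * h4
      rw [h3, xG_zero]
    have hcz : ∀ g ∈ fixedSubgroup (MulAut.conj z' * s), Commute g z' := by
      intro g hg
      have h3 : z' * s g * z'⁻¹ = g := hg
      have h4 := congrArg ι h3
      rw [map_mul, map_mul, map_inv, hs, hιz] at h4
      have h5 := cen (hgr g) hc0 h4
      apply hι
      rw [map_mul, map_mul, hιz]
      exact h5
    refine Dich.charP_fixed hG hc hord (N := zpowers z') ?_ ?_ ?_ ?_
    · rw [zpowers_le]
      exact hzC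
    · rw [IsPGroup.iff_card]
      refine ⟨1, ?_⟩
      rw [Nat.card_zpowers, pow_one]
      exact orderOf_eq_prime hz3 hz1
    · rw [Ne, zpowers_eq_bot]
      exact hz1
    · intro g hg n hn
      obtain ⟨k, rfl⟩ := mem_zpowers_iff.1 hn
      have h3 : Commute g (z' ^ k) := (hcz g hg).zpow_right k
      rw [h3.eq, mul_inv_cancel_right]
      exact hn

end

/-! ### the result -/

/-- `L` is `G₂(F)` or `³D₄(q)`, in characteristic 3 -/
def IsL (L : Type) [Group L] : Prop :=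
  (∃ (F : Type) (_ : Field F) (_ : Fintype F) (_ : CharP F 3), Nonempty (L ≃* ↥(chevG2.group F))) ∨
    ∃ (F : Type) (_ : Field F) (_ : Fintype F) (_ : CharP F 3) (q : ℕ), IsPrimePow q ∧ Fintype.card F = q ^ 3 ∧
      Nonempty (L ≃* ↥(twistedD4 F q))

/-- **The structure of the fixed points of triality in characteristic 3.** -/
def Res (C : Type) [Group C] : Prop :=
  centralizer (pCore 3 C : Set C) ≤ pCore 3 C ∨
    ∃ (N : Subgroup C) (_ : N.Normal), IsL ↥N ∧ Group.IsSolvable (C ⧸ N)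

theorem res_of_dic {C : Type} [Group C] {F : Type} [Field F] [Finite F] [CharP F 3]
    (h : Dic 3 C ↥(chevG2.group F)) : Res C := by
  have := Fintype.ofFinite F
  rcases h with h | ⟨N, hN, e, hs⟩
  · exact Or.inl h
  · exact Or.inr ⟨N, hN, Or.inl ⟨F, inferInstance, inferInstance, inferInstance, e⟩, hs⟩

theorem Res.congr {C C' : Type} [Group C] [Group C'] (e : C ≃* C') (h : Res C) : Res C' := by
  rcases h with h | ⟨N, hN, hL, hs⟩
  · rcases (Dic.congr (L := Unit) e (Or.inl h) : Dic 3 C' Unit) with h1 | h1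
    · exact Or.inl h1
    · left
      intro y hy
      have h1 : (pCore 3 C).map e.toMonoidHom = pCore 3 C' := Lib.Cores.map_equiv_pCore e 3
      have h2 : e.symm y ∈ centralizer (pCore 3 C : Set C) := by
        rw [mem_centralizer_iff]
        intro c hc
        have h3 : e c ∈ pCore 3 C' := by rw [← h1]; exact ⟨c, hc, rfl⟩
        have h4 := (mem_centralizer_iff.1 hy) _ h3
        apply e.injective
        rw [map_mul, map_mul, MulEquiv.apply_symm_apply]
        exact h4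
      rw [← h1]
      exact ⟨_, h h2, e.apply_symm_apply y⟩
  · have hd : Dic 3 C ↥N := Or.inr ⟨N, hN, ⟨MulEquiv.refl _⟩, hs⟩
    rcases hd.congr e with h1 | ⟨N', hN', ⟨f⟩, hs'⟩
    · exact Or.inl h1
    · right
      refine ⟨N', hN', ?_, hs'⟩
      rcases hL with ⟨F, i1, i2, i3, ⟨g⟩⟩ | ⟨F, i1, i2, i3, q, hq, hK, ⟨g⟩⟩
      · exact Or.inl ⟨F, i1, i2, i3, ⟨f.trans g⟩⟩
      · exact Or.inr ⟨F, i1, i2, i3, q, hq, hK, ⟨f.trans g⟩⟩

theorem IsL.inC {L : Type} [Group L] (h : IsL L) : InC 3 L := by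
  rcases h with ⟨F, _, _, _, ⟨e⟩⟩ | ⟨F, _, _, _, q, hq, hK, ⟨e⟩⟩
  · have h3 : 3 ≤ Fintype.card F := by
      obtain ⟨n, hn, hc⟩ := FiniteField.card F 3
      rw [hc]
      calc 3 = 3 ^ 1 := (pow_one 3).symm
        _ ≤ 3 ^ (n : ℕ) := Nat.pow_le_pow_right (by norm_num) n.pos
    have hne : ∃ a : F, a ≠ 0 ∧ a ≠ 1 := by
      refine ⟨-1, neg_ne_zero.2 one_ne_zero, fun h1 => ?_⟩
      have h2 : (2 : F) = 0 := by
        have : (2 : F) = 1 - (-1) := by norm_num
        rw [this, h1, sub_self]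
      have h3 : ((2 : ℕ) : F) = 0 := by exact_mod_cast h2
      rw [CharP.cast_eq_zero_iff F 3] at h3
      norm_num at h3
    obtain ⟨hs', hna'⟩ := Cfsg.Agent.S1055.result (F := F) hne
    have h4 : InC 3 ↥(chevG2.group F) := by
      refine CpAut.RgdSub.inC_of_simple hs' hna' (by norm_num) ?_
      have h5 : IsExceptionalChevChar 3 ↥(chevG2.group F) :=
        ⟨F, inferInstance, inferInstance, inferInstance, Or.inl ⟨h3, ⟨MulEquiv.refl _⟩⟩⟩
      unfold IsLieTypeChar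
      tauto
    exact (CpQuot.Congr.inC_iff e 3).2 h4
  · obtain ⟨hs, hna⟩ := Cfsg.Agent.S1071.result hq hK
    have h4 : InC 3 ↥(twistedD4 F q) := by
      refine CpAut.RgdSub.inC_of_simple hs hna (by norm_num) ?_
      have h5 : IsTwistedE6D4Char 3 ↥(twistedD4 F q) :=
        ⟨F, inferInstance, inferInstance, inferInstance, q, hq, Or.inr ⟨hK, ⟨MulEquiv.refl _⟩⟩⟩
      unfold IsLieTypeChar
      tauto
    exact (CpQuot.Congr.inC_iff e 3).2 h4

theorem Res.comps {C : Type} [Group C] [Finite C] (h : Res C) : Comps 3 C := by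
  have : Fact (Nat.Prime 3) := ⟨Nat.prime_three⟩
  rcases h with h | ⟨N, hN, hL, hs⟩
  · exact CpAut.RgdNoComp.comps_of_charP h
  · exact Comps.of_normal Nat.prime_three N hL.inC hs

end Cfsg.Agent.CpAutTri.Abs

end

-- merged: Cfsg.Agent.CpAutTri.Red
section

/-!
# Reduction to the standard automorphisms (S1814, triality in characteristic 3)

`exists_conj_of_tau` : frame automorphisms of order `p` with the same diagram symmetry and field automorphism are
conjugate; `red` : an automorphism (or its inverse) of order `p` with a nontrivial diagram symmetry is conjugate to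
`conj u * φ`, `φ` standard, `u ∈ U`.
-/

set_option autoImplicit false
set_option linter.unusedSectionVars false

namespace Cfsg.Agent.CpAutTri.Red

open CoxeterSystem Cfsg.Agent.ChevalleyStructure.CoxeterGeom Cfsg.Agent.Tits.Roots Cfsg.Agent.Tits.Core
  Cfsg.Agent.Nodes.Reps Cfsg.Agent.Nodes.BNOf
  Cfsg.Agent.Nodes.OppDec
  Cfsg.Agent.KFacts.RgdAut Cfsg.Agent.KFacts.RgdDiag Cfsg.Agent.KFacts.RgdRigid
  Cfsg.Agent.KFacts.RgdField Cfsg.Agent.KFacts.RgdTau
  Cfsg.Agent.CpAut.RgdFix Cfsg.Agent.CpAut.RgdCoh Cfsg.Agent.CpAut.RgdConj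
open Cfsg.Agent.CpAut.RgdD4 (Tw)

variable {I W Y : Type*} [Fintype I] [DecidableEq I] [Group W] [Group Y] {M : CoxeterMatrix I}
  {cs : CoxeterSystem M W} {A : I → I → ℤ} {h : IsCartan M A} {p : ℕ} {T : Subgroup Y} {n : I → Y}
  {X : (I → ℤ) → Subgroup Y} {F : Type*} [Field F] {x : (I → ℤ) → F → Y} {χ : (I → ℤ) → Y → F} {hh : I → F → Y}

section

variable (R : RGD cs h p T n X)

include R

/-- **Conjugacy of the frame automorphisms of order `p` with the same diagram symmetry and field automorphism.** -/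
theorem exists_conj_of_tau [Finite W] [Finite Y] [CharP F p] [Fact p.Prime]
    (hG1 : RGD.Sup X {x | IsRoot cs h x} = ⊤) (C : Coords cs h T n X x χ) {β φ : MulAut Y} {σ : Equiv.Perm I}
    {τ : F ≃+* F}
    (S : Tau T X χ A β σ τ) (S' : Tau T X χ A φ σ τ) (hβ : β ^ p = 1) (hφ : φ ^ p = 1) :
    ∃ e : MulAut Y, Tau T X χ A e 1 1 ∧ β = e * φ * e⁻¹ := by
  classical
  have hfin : Finite ↥(NN' T X χ A) := inferInstance
  have := Fintype.ofFinite ↥(NN' T X χ A)
  have key : ∀ a : MulAut Y, a ∈ NN' T X χ A → β * a * φ⁻¹ ∈ NN' T X χ A := by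
    intro a ha
    have ha' : Tau T X χ A a 1 1 := ha
    have h1 := (S.mul ha').mul S'.inv
    rw [mul_one, mul_one, mul_inv_cancel, mul_inv_cancel] at h1
    exact h1
  have key' : ∀ a : MulAut Y, a ∈ NN' T X χ A → β⁻¹ * a * φ ∈ NN' T X χ A := by
    intro a ha
    have ha' : Tau T X χ A a 1 1 := ha
    have h1 := (S.inv.mul ha').mul S'
    rw [mul_one, mul_one, inv_mul_cancel, inv_mul_cancel] at h1
    exact h1
  let f : Equiv.Perm ↥(NN' T X χ A) :=
    { toFun := fun a => ⟨β * a.1 * φ⁻¹, key a.1 a.2⟩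
      invFun := fun a => ⟨β⁻¹ * a.1 * φ, key' a.1 a.2⟩
      left_inv := fun a => Subtype.ext (by show β⁻¹ * (β * a.1 * φ⁻¹) * φ = a.1; group)
      right_inv := fun a => Subtype.ext (by show β * (β⁻¹ * a.1 * φ) * φ⁻¹ = a.1; group) }
  have hfm : ∀ (m : ℕ) (a : ↥(NN' T X χ A)), (((f ^ m) a : ↥(NN' T X χ A)) : MulAut Y) = β ^ m * a.1 * (φ ^ m)⁻¹ := by
    intro m
    induction m with
    | zero => intro a; rw [pow_zero, pow_zero, pow_zero, inv_one, mul_one, one_mul]; rfl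
    | succ m ih =>
      intro a
      rw [pow_succ', Equiv.Perm.mul_apply]
      show β * ((f ^ m) a).1 * φ⁻¹ = _
      rw [ih, pow_succ', pow_succ']
      group
  have hf1 : f ^ p ^ 1 = 1 := by
    rw [pow_one]
    ext a
    rw [hfm, hβ, hφ, inv_one, mul_one, one_mul]
    rfl
  have hnd : ¬ p ∣ Fintype.card ↥(NN' T X χ A) := by
    rw [← Nat.card_eq_fintype_card]
    exact not_dvd_NN' R hG1 C
  obtain ⟨a, ha⟩ := Equiv.Perm.exists_fixed_point_of_prime hnd hf1
  refine ⟨a.1, a.2, ?_⟩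
  have h1 : β * a.1 * φ⁻¹ = a.1 := congrArg Subtype.val ha
  rw [mul_inv_eq_iff_eq_mul] at h1
  rw [← h1]; group

/-- **The reduction.** -/
theorem red [Finite W] [Finite Y] [Nonempty I] [CharP F p] [Fact p.Prime]
    (hG1 : RGD.Sup X {x | IsRoot cs h x} = ⊤) (C : Coords cs h T n X x χ) (H : Coroots A T X χ hh)
    (hconn : ∀ J : Set I, J.Nonempty → J ≠ Set.univ → ∃ a ∈ J, ∃ b, b ∉ J ∧ M a b ≠ 2)
    {σ₀ : Equiv.Perm I}
    (hσ₀ : ∀ σ : Equiv.Perm I, (∀ i j, M (σ i) (σ j) = M i j) → σ ^ p = 1 → σ ≠ 1 → σ = σ₀ ∨ σ = σ₀⁻¹)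
    (hA : ∀ i j, A (σ₀ i) (σ₀ j) = A i j) {Φ : (F ≃+* F) → MulAut Y}
    (hΦ : ∀ τ : F ≃+* F, τ ^ p = 1 → Φ τ ^ p = 1 ∧ Tau T X χ A (Φ τ) σ₀ τ ∧
      Fix (Φ τ) (RGD.Sup X (RGD.Pos cs h)))
    {α : MulAut Y} (hT : Tw cs h p T X α) :
    ∃ τ : F ≃+* F, τ ^ p = 1 ∧ ∃ (e : MulAut Y) (u : Y), u ∈ RGD.Sup X (RGD.Pos cs h) ∧
      (α = e * (MulAut.conj u * Φ τ) * e⁻¹ ∨ α⁻¹ = e * (MulAut.conj u * Φ τ) * e⁻¹) := by
  obtain ⟨g, u, σ, hu, -, hpow, D, hσ1⟩ := hT
  obtain ⟨α', hα'⟩ : ∃ α', α' = (MulAut.conj g)⁻¹ * α * MulAut.conj g := ⟨_, rfl⟩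
  rw [← hα'] at hpow D
  obtain ⟨β, hβ⟩ : ∃ β, β = MulAut.conj u * α' := ⟨_, rfl⟩
  rw [← hβ] at hpow D
  have hαα' : α = MulAut.conj g * α' * (MulAut.conj g)⁻¹ := by rw [hα']; group
  have hα'β : α' = MulAut.conj u⁻¹ * β := by rw [hβ, map_inv]; group
  have hσp := perm_pow_eq_one R D hpow
  have hA' : ∀ i j, A (σ₀⁻¹ i) (σ₀⁻¹ j) = A i j := by
    intro i j
    have h1 : ∀ k, σ₀ (σ₀⁻¹ k) = k := fun k => σ₀.apply_symm_apply k
    rw [← hA, h1, h1]
  have hfU : ∀ e : MulAut Y, Tau T X χ A e 1 1 → Fix e (RGD.Sup X (RGD.Pos cs h)) := by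
    intro e he
    exact fix_Sup fun r hr => fix_X R he.diag hr.1
  rcases hσ₀ σ (D.matrix R) hσp hσ1 with h1 | h1
  · subst h1
    obtain ⟨τ, hτ⟩ := exists_tau R C H hconn D hA
    have hτp : τ ^ p = 1 := by
      have h2 := hτ.pow p
      rw [hpow] at h2
      exact (Tau.unique R C h2 Tau.one).2
    obtain ⟨hΦp, hΦT, hΦU⟩ := hΦ τ hτp
    obtain ⟨e, heT, he⟩ := exists_conj_of_tau R hG1 C hτ hΦT hpow hΦp
    refine ⟨τ, hτp, MulAut.conj g * e, e⁻¹ u⁻¹, ?_, Or.inl ?_⟩
    · exact ((hfU e heT).inv _).2 (inv_mem hu)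
    · have h3 : e * MulAut.conj (e⁻¹ u⁻¹) = MulAut.conj u⁻¹ * e := by
        have h4 := conj_mul_eq e (e⁻¹ u⁻¹)
        rw [MulAut.apply_inv_self] at h4
        exact h4
      rw [hαα', hα'β, he]
      calc MulAut.conj g * (MulAut.conj u⁻¹ * (e * Φ τ * e⁻¹)) * (MulAut.conj g)⁻¹ =
          MulAut.conj g * (MulAut.conj u⁻¹ * e) * Φ τ * e⁻¹ * (MulAut.conj g)⁻¹ := by group
        _ = _ := by rw [← h3]; group
  · have h1' : σ⁻¹ = σ₀ := by rw [h1, inv_inv]
    have D' := D.inv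
    rw [h1'] at D'
    have hpow' : β⁻¹ ^ p = 1 := by rw [inv_pow, hpow, inv_one]
    obtain ⟨τ, hτ⟩ := exists_tau R C H hconn D' hA
    have hτp : τ ^ p = 1 := by
      have h2 := hτ.pow p
      rw [hpow'] at h2
      exact (Tau.unique R C h2 Tau.one).2
    obtain ⟨hΦp, hΦT, hΦU⟩ := hΦ τ hτp
    obtain ⟨e, heT, he⟩ := exists_conj_of_tau R hG1 C hτ hΦT hpow' hΦp
    refine ⟨τ, hτp, MulAut.conj g * e, Φ τ (e⁻¹ u), ?_, Or.inr ?_⟩
    · exact (hΦU _).2 (((hfU e heT).inv _).2 hu)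
    · have h3 : e * MulAut.conj (e⁻¹ u) = MulAut.conj u * e := by
        have h4 := conj_mul_eq e (e⁻¹ u)
        rw [MulAut.apply_inv_self] at h4
        exact h4
      have h5 := conj_mul_eq (Φ τ) (e⁻¹ u)
      rw [← h5]
      have h6 : α⁻¹ = MulAut.conj g * (β⁻¹ * MulAut.conj u) * (MulAut.conj g)⁻¹ := by
        rw [hαα', hα'β, map_inv]
        group
      rw [h6, he]
      calc MulAut.conj g * (e * Φ τ * e⁻¹ * MulAut.conj u) * (MulAut.conj g)⁻¹ =
          MulAut.conj g * (e * Φ τ * e⁻¹ * (MulAut.conj u * e)) * e⁻¹ * (MulAut.conj g)⁻¹ := by group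
        _ = _ := by rw [← h3]; group

end

end Cfsg.Agent.CpAutTri.Red

end

-- merged: Cfsg.Agent.CpAutTri.StdD
section

/-!
# The standard triality automorphisms of `D₄(K)` (S1814, triality in characteristic 3)

`st φ` : the restriction of `sig φ`; `tau_st` : its diagram symmetry and field automorphism; `red_D4` : the reduction.
-/

set_option autoImplicit false
set_option linter.unusedSectionVars false

namespace Cfsg.Agent.CpAutTri.StdD

open CoxeterSystem Cfsg.Agent.ChevalleyStructure.CoxeterGeom Cfsg.Agent.Tits.Roots Cfsg.Agent.Tits.Core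
  Cfsg.Agent.Nodes.Reps Cfsg.Agent.Nodes.BNOf
  Cfsg.Agent.Nodes.OppDec Cfsg.Agent.Nodes.RGDChev
  Cfsg.Agent.KFacts.RgdAut Cfsg.Agent.KFacts.RgdDiag Cfsg.Agent.KFacts.RgdRigid
  Cfsg.Agent.KFacts.RgdField Cfsg.Agent.KFacts.RgdTau Cfsg.Agent.KFacts.RgdChevCoord
  Cfsg.Agent.CpAut.RgdFix Cfsg.Agent.CpAut.RgdCoh Cfsg.Agent.CpAut.RgdConj
  Cfsg.Agent.CpAut.RgdUntw
open Cfsg.Lie Cfsg.Agent.ChevalleyStructure
  Cfsg.Agent.ChevalleyStructure.CoxeterGeomTypes
open Cfsg.Agent.CpAut.RgdD4 (Tw hp)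
open Cfsg.Agent.ChevalleyStructure.D4Fixed (sig fix coe_sig mem_fix)
open Cfsg.Agent.ChevalleyStructure.D4Comm (xG coe_xG)
open Cfsg.Agent.CpAutTri.Bru Cfsg.Agent.CpAutTri.Fam

universe u

variable {K : Type u} [Field K]

/-! ### the automorphism -/

theorem sig_group (φ : K →+* K) {g : GL chevD4.Idx K} (hg : g ∈ chevD4.group K) : sig φ g ∈ chevD4.group K := by
  have key : chevD4.group K ≤ (chevD4.group K).comap (sig φ) := by
    rw [Elts.group_le_iff hD]
    intro r hr t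
    have e : (Elts.xG hD r t : GL chevD4.Idx K) = xG r t := Units.ext rfl
    rw [e]
    show sig φ (xG (⟨r, hr⟩ : Fin 24).val t) ∈ chevD4.group K
    rw [sig_x]
    exact Elts.xG_mem_group hD _ _
  exact key hg

/-- the restriction of `sig φ` -/
noncomputable def sr' (φ : K →+* K) : ↥(chevD4.group K) →* ↥(chevD4.group K) :=
  ((sig φ).comp (chevD4.group K).subtype).codRestrict (chevD4.group K) fun g => sig_group φ g.2

theorem sr'_cube {φ : K →+* K} (hφ : ∀ t, φ (φ (φ t)) = t) (g : ↥(chevD4.group K)) :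
    sr' φ (sr' φ (sr' φ g)) = g := Subtype.ext (sig_cube' hφ _)

open Classical in
/-- the standard triality automorphism (for `τ ^ 3 = 1`) -/
noncomputable def st (τ : K ≃+* K) : MulAut ↥(chevD4.group K) :=
  if h : ∀ t, τ (τ (τ t)) = t then
    { toFun := sr' (τ : K →+* K)
      invFun := fun g => sr' (τ : K →+* K) (sr' (τ : K →+* K) g)
      left_inv := fun g => sr'_cube h g
      right_inv := fun g => sr'_cube h g
      map_mul' := fun a b => map_mul _ a b }
  else 1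

theorem cube_of_pow {τ : K ≃+* K} (h : τ ^ 3 = 1) (t : K) : τ (τ (τ t)) = t := by
  have h1 := DFunLike.congr_fun h t
  exact h1

theorem coe_st {τ : K ≃+* K} (h : τ ^ 3 = 1) (g : ↥(chevD4.group K)) :
    ((st τ g : ↥(chevD4.group K)) : GL chevD4.Idx K) = sig (τ : K →+* K) g := by
  have h1 : ∀ t, τ (τ (τ t)) = t := cube_of_pow h
  unfold st
  rw [dif_pos h1]
  rfl

theorem st_pow {τ : K ≃+* K} (h : τ ^ 3 = 1) : st τ ^ 3 = 1 := by
  apply MulEquiv.ext
  intro g
  apply Subtype.ext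
  have e : (st τ ^ 3) g = st τ (st τ (st τ g)) := rfl
  rw [e, coe_st h, coe_st h, coe_st h]
  exact sig_cube' (cube_of_pow h) _

/-- `st` on the root elements -/
theorem st_xc {τ : K ≃+* K} (h : τ ^ 3 = 1) (s : Fin 24) (a : K) :
    st τ (xc hp (vec chevD4 4 s.val) a) = xc hp (vec chevD4 4 (rho s).val) ((eps s : K) * τ a) := by
  apply Subtype.ext
  have e : ∀ (r : Fin 24) (t : K), ((xc hp (vec chevD4 4 r.val) t : ↥(chevD4.group K)) : GL chevD4.Idx K) =
      xG r.val t := by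
    intro r t
    rw [coe_xc hp r.2]
    exact Units.ext rfl
  rw [coe_st h, e, e, sig_x]
  rfl

/-! ### the invariant sets of roots -/

theorem isRoot_s {W : Type*} [Group W] (cs : CoxeterSystem coxeterD4 W) (s : Fin 24) :
    IsRoot cs hp.isCartan (vec chevD4 4 s.val) := (isRoot_iff hp cs _).2 ⟨s.val, s.2, rfl⟩

theorem exists_s {W : Type*} [Group W] (cs : CoxeterSystem coxeterD4 W) {x : Fin 4 → ℤ}
    (hx : IsRoot cs hp.isCartan x) : ∃ s : Fin 24, vec chevD4 4 s.val = x := by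
  obtain ⟨s, hs, rfl⟩ := (isRoot_iff hp cs _).1 hx
  exact ⟨⟨s, hs⟩, rfl⟩

theorem vec_pos : ∀ s : Fin 24, (∀ i, 0 ≤ vec chevD4 4 s.val i) ↔ 12 ≤ s.val := by decide +kernel

theorem vec_npos : ∀ s : Fin 24, (∀ i, vec chevD4 4 s.val i ≤ 0) ↔ s.val < 12 := by decide +kernel

/-- the diagram symmetry -/
def s0 : Equiv.Perm (Fin 4) := ⟨![2, 1, 3, 0], ![3, 1, 0, 2], by decide, by decide⟩

theorem simple_lt' : ∀ i : Fin 4, chevD4.simple i < 24 := by decide +kernel

/-- the simple roots -/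
def spF (i : Fin 4) : Fin 24 := ![18, 14, 13, 12] i

theorem spF_eq : ∀ i : Fin 4, (spF i).val = chevD4.simple i := by decide +kernel

theorem rho_spF : ∀ i : Fin 4, rho (spF i) = spF (s0 i) := by decide +kernel

set_option backward.isDefEq.respectTransparency false in
theorem sym_cases : ∀ σ : Equiv.Perm (Fin 4), (∀ i j, coxeterD4 (σ i) (σ j) = coxeterD4 i j) → σ ^ 3 = 1 → σ ≠ 1 →
    σ = s0 ∨ σ = s0⁻¹ := by
  decide +kernel

theorem cartan_s0 : ∀ i j : Fin 4, cartanOf chevD4 4 (s0 i) (s0 j) = cartanOf chevD4 4 i j := by decide +kernel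

theorem vec_spF (i : Fin 4) : vec chevD4 4 (spF i).val = sr i := by
  rw [spF_eq]
  exact vec_simple hp i

section Fin
variable [Finite K] [CharP K 3]

theorem fix_of_maps {γ : MulAut ↥(chevD4.group K)} (hγ : γ ^ 3 = 1) {H : Subgroup ↥(chevD4.group K)}
    (h : ∀ y ∈ H, γ y ∈ H) : Fix γ H := by
  intro y
  refine ⟨fun hy => ?_, h y⟩
  have h1 : γ (γ (γ y)) ∈ H := h _ (h _ hy)
  have e : γ (γ (γ y)) = y := DFunLike.congr_fun hγ y
  rwa [e] at h1

/-- a set of roots stable under triality -/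
theorem st_maps {τ : K ≃+* K} (h : τ ^ 3 = 1) {S : Set (Fin 4 → ℤ)}
    (hS : ∀ x ∈ S, ∃ s : Fin 24, x = vec chevD4 4 s.val ∧ vec chevD4 4 (rho s).val ∈ S) {y : ↥(chevD4.group K)}
    (hy : y ∈ RGD.Sup (XX chevD4 4 K) S) : st τ y ∈ RGD.Sup (XX chevD4 4 K) S := by
  have : Fact (Nat.Prime 3) := ⟨Nat.prime_three⟩
  have C := coords (K := K) hp coxeterD4.toCoxeterSystem 3
  have key : RGD.Sup (XX chevD4 4 K) S ≤ (RGD.Sup (XX chevD4 4 K) S).comap (st τ).toMonoidHom := by
    refine RGD.Sup_le fun x hx z hz => ?_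
    obtain ⟨s, rfl, hs⟩ := hS x hx
    obtain ⟨a, rfl⟩ := ((C.coord _ (isRoot_s _ s)).mem z).1 hz
    show st τ (xc hp (vec chevD4 4 s.val) a) ∈ RGD.Sup (XX chevD4 4 K) S
    rw [st_xc h]
    exact RGD.le_Sup hs (((C.coord _ (isRoot_s _ _)).mem _).2 ⟨_, rfl⟩)
  exact key hy

theorem st_fix_U {τ : K ≃+* K} (h : τ ^ 3 = 1) :
    Fix (st τ) (RGD.Sup (XX chevD4 4 K) (RGD.Pos coxeterD4.toCoxeterSystem hp.isCartan)) := by
  refine fix_of_maps (st_pow h) fun y hy => st_maps h ?_ hy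
  rintro x ⟨hx, hx0⟩
  obtain ⟨s, rfl⟩ := exists_s _ hx
  refine ⟨s, rfl, isRoot_s _ _, ?_⟩
  exact (vec_pos _).2 ((rho_pos s).2 ((vec_pos s).1 hx0))

theorem st_fix_UN {τ : K ≃+* K} (h : τ ^ 3 = 1) :
    Fix (st τ) (UN coxeterD4.toCoxeterSystem hp.isCartan (XX chevD4 4 K)) := by
  refine fix_of_maps (st_pow h) fun y hy => st_maps h ?_ hy
  rintro x ⟨hx, hx0⟩
  obtain ⟨s, rfl⟩ := exists_s _ hx
  refine ⟨s, rfl, isRoot_s _ _, ?_⟩
  have h1 := (vec_npos s).1 hx0
  have h2 := rho_pos s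
  exact (vec_npos _).2 (by omega)

/-- **The diagram symmetry and the field automorphism of `st τ`.** -/
theorem tau_st {τ : K ≃+* K} (h : τ ^ 3 = 1) :
    haveI : Fact (Nat.Prime 3) := ⟨Nat.prime_three⟩
    Tau (TT chevD4 K) (XX chevD4 4 K) (ch hp) (cartanOf chevD4 4) (st τ) s0 τ := by
  have : Fact (Nat.Prime 3) := ⟨Nat.prime_three⟩
  have R := rgd (K := K) hp coxeterD4.toCoxeterSystem 3
  have hW := finite_W hp (coxeterD4.toCoxeterSystem)
  have hG1 : RGD.Sup (XX chevD4 4 K) {x | IsRoot coxeterD4.toCoxeterSystem hp.isCartan x} = ⊤ :=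
    G1_eq_top hp coxeterD4.toCoxeterSystem
  have C := coords (K := K) hp coxeterD4.toCoxeterSystem 3
  have H := coroots (K := K) hp coxeterD4.toCoxeterSystem 3
  obtain ⟨hs, hc⟩ := Cfsg.Agent.CpAut.RgdD4.simple_D4 (F := K)
  have hconn := KFacts.RgdLieCharP.conn_of_simple R hG1 (KFacts.RgdLieCharP.center_eq_bot hc)
  obtain ⟨σ, D⟩ := exists_diag R (GG_eq_top (T := TT chevD4 K) hG1) (st_fix_U h) (st_fix_UN h)
  have hσ : σ = s0 := by
    ext i
    congr 1
    by_contra hne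
    have hi := isRoot_sr coxeterD4.toCoxeterSystem hp.isCartan i
    have hx : xc hp (sr i) (1 : K) ∈ XX chevD4 4 K (sr i) := ((C.coord _ hi).mem _).2 ⟨1, rfl⟩
    have hx1 := (C.coord _ hi).ne_one (one_ne_zero (α := K))
    have h2 := (D.pos i _).2 hx
    have h3 : st τ (xc hp (sr i) (1 : K)) ∈ XX chevD4 4 K (sr (s0 i)) := by
      rw [← vec_spF i, st_xc h, rho_spF, vec_spF]
      exact ((C.coord _ (isRoot_sr coxeterD4.toCoxeterSystem hp.isCartan (s0 i))).mem _).2 ⟨_, rfl⟩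
    have h4 : sr (σ i) ≠ (sr (s0 i) : Fin 4 → ℤ) := by
      intro h5
      have h6 := congrFun h5 (σ i)
      rw [sr_self, sr_ne hne] at h6
      exact one_ne_zero h6
    have h5 := X_inf_X R (isRoot_sr coxeterD4.toCoxeterSystem hp.isCartan (σ i))
      (isRoot_sr coxeterD4.toCoxeterSystem hp.isCartan (s0 i)) h4
    rw [Subgroup.eq_bot_iff_forall] at h5
    exact hx1 ((st τ).injective (by rw [h5 _ ⟨h2, h3⟩, map_one]))
  subst hσ
  obtain ⟨τ', hτ'⟩ := exists_tau R C H hconn D cartan_s0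
  have h1 := isRoot_sr coxeterD4.toCoxeterSystem hp.isCartan (1 : Fin 4)
  obtain ⟨c, hc0, e⟩ := Tau.root R C hτ' h1
  have e' : ∀ a, c * τ' a = τ a := by
    intro a
    have h2 := e a
    rw [sr_comp] at h2
    have e1 : s0 1 = 1 := by decide
    have e2 : rho (spF 1) = spF 1 := by decide +kernel
    have e3 : eps (spF 1) = 1 := by decide +kernel
    rw [e1, ← vec_spF 1, st_xc h, e2, e3, Int.cast_one, one_mul] at h2
    exact ((C.coord _ (isRoot_s _ _)).inj h2).symm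
  have hc1 : c = 1 := by
    have := e' 1
    rwa [map_one, map_one, mul_one] at this
  have hττ' : τ' = τ := by
    ext a
    have := e' a
    rwa [hc1, one_mul] at this
  rw [hττ'] at hτ'
  exact hτ'

/-- **The reduction for `D₄(K)`.** -/
theorem red_D4 {α : MulAut ↥(chevD4.group K)}
    (hT : Tw coxeterD4.toCoxeterSystem hp.isCartan 3 (TT chevD4 K) (XX chevD4 4 K) α) :
    ∃ τ : K ≃+* K, τ ^ 3 = 1 ∧ ∃ (e : MulAut ↥(chevD4.group K)) (u : ↥(chevD4.group K)),
      (u : GL chevD4.Idx K) ∈ chevD4.posUnipotent K ∧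
      (α = e * (MulAut.conj u * st τ) * e⁻¹ ∨ α⁻¹ = e * (MulAut.conj u * st τ) * e⁻¹) := by
  have : Fact (Nat.Prime 3) := ⟨Nat.prime_three⟩
  have R := rgd (K := K) hp coxeterD4.toCoxeterSystem 3
  have hW := finite_W hp (coxeterD4.toCoxeterSystem)
  have hG1 : RGD.Sup (XX chevD4 4 K) {x | IsRoot coxeterD4.toCoxeterSystem hp.isCartan x} = ⊤ :=
    G1_eq_top hp coxeterD4.toCoxeterSystem
  have C := coords (K := K) hp coxeterD4.toCoxeterSystem 3
  have H := coroots (K := K) hp coxeterD4.toCoxeterSystem 3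
  obtain ⟨hs, hc⟩ := Cfsg.Agent.CpAut.RgdD4.simple_D4 (F := K)
  have hconn := KFacts.RgdLieCharP.conn_of_simple R hG1 (KFacts.RgdLieCharP.center_eq_bot hc)
  obtain ⟨τ, hτ, e, u, hu, h⟩ := Red.red R hG1 C H hconn sym_cases cartan_s0 (Φ := st)
    (fun τ hτ => ⟨st_pow hτ, tau_st hτ, st_fix_U hτ⟩) hT
  refine ⟨τ, hτ, e, u, ?_, h⟩
  have key : RGD.Sup (XX chevD4 4 K) (RGD.Pos coxeterD4.toCoxeterSystem hp.isCartan) ≤
      (chevD4.posUnipotent K).subgroupOf (chevD4.group K) := by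
    refine RGD.Sup_le ?_
    rintro x ⟨hx, hx0⟩ z hz
    obtain ⟨s, rfl⟩ := exists_s _ hx
    obtain ⟨a, rfl⟩ := ((C.coord _ hx).mem z).1 hz
    rw [Subgroup.mem_subgroupOf, coe_xc hp s.2]
    exact Elts.xG_mem_posUnipotent _ ((D4Pos.isPosRoot_iff _).2 ⟨(vec_pos s).1 hx0, s.2⟩) a
  exact key hu

end Fin

end Cfsg.Agent.CpAutTri.StdD

end

-- merged: Cfsg.Agent.CpAutTri.Sem
section

/-!
# Cocycles of semilinear triality in `U` (S1814, triality in characteristic 3)

`h1_U` : `H¹(⟨sig φ⟩, U) = 1` for `φ` of order 3.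
-/

set_option autoImplicit false

namespace Cfsg.Agent.CpAutTri.Sem

open Cfsg.Lie Cfsg.Agent.ChevalleyStructure
open Cfsg.Agent.ChevalleyStructure.TwistedU Cfsg.Agent.ChevalleyStructure.TwistedFix
open Cfsg.Agent.ChevalleyStructure.D4Comm Cfsg.Agent.ChevalleyStructure.WordCheck
open Cfsg.Agent.ChevalleyStructure.D4Pos (mem_ordA_iff ordA ordB lprod_inj good_of_goodB goodB uniqB)
open Cfsg.Agent.ChevalleyStructure.D4RGD
open Cfsg.Agent.ChevalleyStructure.D4U
open Cfsg.Agent.ChevalleyStructure.GraphSymm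
open Cfsg.Agent.ChevalleyStructure.D4Fixed (sig fix coe_sig mem_fix)
open Cfsg.Agent.CpAutTri.Bru Cfsg.Agent.CpAutTri.Fam Cfsg.Agent.CpAutTri.Inst Cfsg.Agent.CpAutTri.TriD
open Cfsg.Agent.CpAutTri.Coc

/-- `H¹` of an extension -/
theorem h1_ext {Γ : Type*} [Group Γ] {σ : Γ →* Γ} {U A Q : Subgroup Γ} (cube : ∀ g, σ (σ (σ g)) = g)
    (AU : A ≤ U) (QU : Q ≤ U) (sA : ∀ a ∈ A, σ a ∈ A) (sQ : ∀ q ∈ Q, σ q ∈ Q)
    (dec : ∀ u ∈ U, ∃ a ∈ A, ∃ q ∈ Q, u = a * q) (norm : ∀ a ∈ A, ∀ q ∈ Q, a⁻¹ * q * a ∈ Q)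
    (inf : ∀ a ∈ A, a ∈ Q → a = 1) (hA : H1 σ A) (hQ : H1 σ Q) : H1 σ U := by
  intro u hu hN
  obtain ⟨a, ha, q, hq, rfl⟩ := dec u hu
  have hn : ∀ a ∈ A, ∀ q ∈ Q, ∃ q' ∈ Q, q * a = a * q' := fun a ha q hq =>
    ⟨a⁻¹ * q * a, norm a ha q hq, by group⟩
  have hsa := sA a ha
  have hssa := sA _ hsa
  have h1 : a * σ a * σ (σ a) = 1 := by
    apply inf _ (mul_mem (mul_mem ha hsa) hssa)
    obtain ⟨q1, hq1, e1⟩ := hn _ hsa q hq
    obtain ⟨q2, hq2, e2⟩ := hn _ hssa (q1 * σ q) (mul_mem hq1 (sQ q hq))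
    have e3 : a * q * σ (a * q) * σ (σ (a * q)) = a * σ a * σ (σ a) * (q2 * σ (σ q)) := by
      calc a * q * σ (a * q) * σ (σ (a * q)) = a * (q * σ a) * σ q * σ (σ a) * σ (σ q) := by
            simp only [map_mul, mul_assoc]
        _ = a * σ a * ((q1 * σ q) * σ (σ a)) * σ (σ q) := by rw [e1]; simp only [mul_assoc]
        _ = _ := by rw [e2]; simp only [mul_assoc]
    rw [e3] at hN
    rw [eq_inv_of_mul_eq_one_left hN]
    exact inv_mem (mul_mem hq2 (sQ _ (sQ q hq)))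
  obtain ⟨v, hv, e⟩ := hA a ha h1
  obtain ⟨q', hq'⟩ : ∃ q', q' = (σ v)⁻¹ * q * σ v := ⟨_, rfl⟩
  have hq'Q : q' ∈ Q := by rw [hq']; exact norm _ (sA v hv) q hq
  have e1 : v⁻¹ * (a * q) * σ v = q' := by rw [e, hq']; group
  have hN' : q' * σ q' * σ (σ q') = 1 := by
    rw [← e1]
    simp only [map_mul, map_inv] at hN ⊢
    rw [cube v]
    calc v⁻¹ * (a * q) * σ v * ((σ v)⁻¹ * (σ a * σ q) * σ (σ v)) * ((σ (σ v))⁻¹ * (σ (σ a) * σ (σ q)) * v) =
        v⁻¹ * (a * q * (σ a * σ q) * (σ (σ a) * σ (σ q))) * v := by group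
      _ = 1 := by rw [hN]; group
  obtain ⟨w, hw, e2⟩ := hQ q' hq'Q hN'
  refine ⟨v * w, mul_mem (AU hv) (QU hw), ?_⟩
  have e3 : a * q = v * q' * (σ v)⁻¹ := by rw [← e1]; group
  rw [e3, e2, map_mul, mul_inv_rev]
  group

section
variable {K : Type*} [Field K]

theorem norm_RS {o l : List ℕ} (hn : (o.all fun r => goodB (r :: l)) = true) {a q : GL chevD4.Idx K}
    (ha : a ∈ RS K o) (hq : q ∈ RS K l) : a⁻¹ * q * a ∈ RS K l := by
  have key : RS K o ≤ Subgroup.normalizer (RS K l : Set (GL chevD4.Idx K)) := by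
    refine rspan_le xG ?_
    intro r hr t
    have hg : goodB (r :: l) = true := List.all_eq_true.1 hn r hr
    have h1 : ∀ (t : K) {q : GL chevD4.Idx K}, q ∈ RS K l → xG r t * q * (xG r t)⁻¹ ∈ RS K l := fun t q hq =>
      conj_mem ((good_cons xG).1 (good_of_goodB (r :: l) hg)).1 t hq
    rw [Subgroup.mem_normalizer_iff]
    intro g
    constructor
    · exact fun h => h1 t h
    · intro h
      have h2 := h1 (-t) h
      rw [xG_neg] at h2
      have e : (xG r t)⁻¹ * (xG r t * g * (xG r t)⁻¹) * ((xG r t)⁻¹)⁻¹ = g := by group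
      rwa [e] at h2
  have h1 := key (inv_mem ha)
  rw [Subgroup.mem_normalizer_iff] at h1
  have h2 := (h1 q).1 hq
  rwa [inv_inv] at h2

theorem h1_append {φ : K →+* K} (hφ : ∀ t, φ (φ (φ t)) = t) {o l : List ℕ}
    (hc : (decide (o ++ l).Nodup && goodB (o ++ l) && decide o.Nodup && goodB o && decide l.Nodup && goodB l &&
      uniqB (o ++ l) && (o.all fun r => goodB (r :: l)) && (o.all fun r => decide (r < 24) && o.contains (rhoN r)) &&
      (l.all fun r => decide (r < 24) && l.contains (rhoN r)) && decide (∀ r ∈ l, r ∉ o)) = true)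
    (ho : H1 (sig φ) (RS K o)) (hl : H1 (sig φ) (RS K l)) : H1 (sig φ) (RS K (o ++ l)) := by
  simp only [Bool.and_eq_true, decide_eq_true_eq] at hc
  obtain ⟨⟨⟨⟨⟨⟨⟨⟨⟨⟨h1, h2⟩, h3⟩, h4⟩, h5⟩, h6⟩, h7⟩, h8⟩, h9⟩, h10⟩, h11⟩ := hc
  refine h1_ext (sig_cube' hφ) (RS_mono fun r hr => List.mem_append_left l hr)
    (RS_mono fun r hr => List.mem_append_right o hr) (fun a ha => sig_RS φ h9 ha) (fun a ha => sig_RS φ h10 ha)
    ?_ (fun a ha q hq => norm_RS h8 ha hq) ?_ ho hl
  · intro u hu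
    obtain ⟨t, rfl⟩ := exists_RS h1 h2 hu
    exact ⟨_, lprod_mem_rspan xG (fun _ h => h) t, _, lprod_mem_rspan xG (fun _ h => h) t, lprod_append _ _ _ _⟩
  · intro a ha hq
    obtain ⟨t, rfl⟩ := exists_RS h3 h4 ha
    obtain ⟨t', ht'⟩ := exists_RS h5 h6 hq
    exact indep h7 h11 ht'

theorem h1_single {φ : K →+* K} {r : ℕ} (hg : goodB [r] = true) (hu : uniqB [r] = true)
    (hs : ∀ t, sig φ (xG r t) = xG r (φ t))
    (h90 : ∀ a, a + φ a + φ (φ a) = 0 → ∃ s, a = s - φ s) : H1 (sig φ) (RS K [r]) := by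
  intro g hg' hN
  obtain ⟨t, rfl⟩ := exists_RS1 hg hg'
  rw [hs, hs, ← xG_add, ← xG_add] at hN
  have h1 : t + φ t + φ (φ t) = 0 := by
    have h2 := lprod_inj [r] hu (t := fun _ => t + φ t + φ (φ t)) (t' := fun _ => 0) (by
      rw [lprod_one, lprod_one, xG_zero]
      exact hN)
    exact h2 r (by simp)
  obtain ⟨s, hs'⟩ := h90 t h1
  refine ⟨xG r s, mem_RS (by simp) s, ?_⟩
  rw [hs, ← xG_neg, ← xG_add, hs', sub_eq_add_neg]

/-- **`H¹(⟨sig φ⟩, U) = 1`.** -/
theorem h1_U {φ : K →+* K} (hφ : ∀ t, φ (φ (φ t)) = t)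
    (h90 : ∀ a, a + φ a + φ (φ a) = 0 → ∃ s, a = s - φ s) : H1 (sig φ) (chevD4.posUnipotent K) := by
  have h23 : H1 (sig φ) (RS K [23]) := h1_single (by decide +kernel) (by decide +kernel) (sig_23 φ) h90
  have h22 : H1 (sig φ) (RS K [22]) := h1_single (by decide +kernel) (by decide +kernel) (sig_22 φ) h90
  have h14 : H1 (sig φ) (RS K [14]) := h1_single (by decide +kernel) (by decide +kernel) (sig_14 φ) h90
  have h1 := h1_append hφ (by decide +kernel) h22 h23
  have h2 := h1_append hφ (by decide +kernel) (orb2 φ).h1_free h1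
  have h3 := h1_append hφ (by decide +kernel) (orb1 φ).h1_free h2
  have h4 := h1_append hφ (by decide +kernel) h14 h3
  have h5 := h1_append hφ (by decide +kernel) (orbA φ).h1_free h4
  rw [U_eq]
  exact h5

end

end Cfsg.Agent.CpAutTri.Sem

end

-- merged: Cfsg.Agent.CpAutTri.TwD
section

/-!
# The fixed points of semilinear triality are `³D₄` (S1814, triality in characteristic 3)

`DS_eq_tw` : `DS {φ} = ³D₄`, `φ x = x ^ m`, `φ³ = 1`; `inC_sem` : it is a `C₃`-group.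
-/

set_option autoImplicit false
set_option linter.unusedSectionVars false

namespace Cfsg.Agent.CpAutTri.TwD

open Cfsg.Lie Cfsg.Agent.ChevalleyStructure
open Cfsg.Agent.ChevalleyStructure.D4Comm
open Cfsg.Agent.ChevalleyStructure.D4RGD
open Cfsg.Agent.ChevalleyStructure.D4U
open Cfsg.Agent.ChevalleyStructure.D4Fixed (sig fix coe_sig mem_fix)
open Cfsg.Agent.CpAutTri.Bru Cfsg.Agent.CpAutTri.Fam Cfsg.Agent.CpAutTri.Inst
open Cfsg.Agent.CpAutTri.Nor Cfsg.Agent.CpAutTri.Gen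
open Cfsg.Agent.CpAut.RgdSub Cfsg.Agent.CpAut.RgdTwD4

universe u

section
variable {K : Type u} [Field K]

/-- generation by the two basic orbits -/
theorem DS_le_of {S : Set (K →+* K)} {H : Subgroup (GL chevD4.Idx K)} (hna : na K ∈ H) (hnb : nb K ∈ H)
    (o14 : RS K [14] ⊓ FS S ≤ H) (oA : RS K [18, 13, 12] ⊓ FS S ≤ H) : DS S ≤ H := by
  have fa : na K ∈ FS S := na_FS S
  have fb : nb K ∈ FS S := nb_FS S
  have o9 : RS K [9] ⊓ FS S ≤ H := part_step hna fa (fun g hg => na_RS K (l' := [14]) (by decide +kernel) hg) o14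
  have o5 : RS K [5, 10, 11] ⊓ FS S ≤ H :=
    part_step hnb fb (fun g hg => nb_RS K (l' := [18, 13, 12]) (by decide +kernel) hg) oA
  have o19 : RS K [19, 16, 15] ⊓ FS S ≤ H :=
    part_step hna fa (fun g hg => na_RS K (l' := [18, 13, 12]) (by decide +kernel) hg) oA
  have o21 : RS K [21, 17, 20] ⊓ FS S ≤ H :=
    part_step hnb fb (fun g hg => nb_RS K (l' := [19, 16, 15]) (by decide +kernel) hg) o19
  have o22 : RS K [22] ⊓ FS S ≤ H := part_step hnb fb (fun g hg => nb_RS K (l' := [14]) (by decide +kernel) hg) o14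
  have o23 : RS K [23] ⊓ FS S ≤ H := part_step hna fa (fun g hg => na_RS K (l' := [22]) (by decide +kernel) hg) o22
  have o4 : RS K [4, 7, 8] ⊓ FS S ≤ H :=
    part_step hna fa (fun g hg => na_RS K (l' := [5, 10, 11]) (by decide +kernel) hg) o5
  have o2 : RS K [2, 6, 3] ⊓ FS S ≤ H :=
    part_step hnb fb (fun g hg => nb_RS K (l' := [4, 7, 8]) (by decide +kernel) hg) o4
  have o1 : RS K [1] ⊓ FS S ≤ H := part_step hnb fb (fun g hg => nb_RS K (l' := [9]) (by decide +kernel) hg) o9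
  have o0 : RS K [0] ⊓ FS S ≤ H := part_step hna fa (fun g hg => na_RS K (l' := [1]) (by decide +kernel) hg) o1
  refine iSup_le fun r => ?_
  obtain ⟨o, ho, hr⟩ := orbs_check r
  refine (inf_le_inf_right _ (RS_mono hr)).trans ?_
  simp only [orbs, List.mem_cons, List.not_mem_nil, or_false] at ho
  rcases ho with rfl | rfl | rfl | rfl | rfl | rfl | rfl | rfl | rfl | rfl | rfl | rfl <;> assumption

/-- `DS S` for `S ∋ φ` is contained in `³D₄` -/
theorem DS_le_tw {φ : K →+* K} {m : ℕ} (hφ : ∀ x, φ x = x ^ m) {S : Set (K →+* K)} (hS : φ ∈ S) :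
    DS S ≤ twistedD4 K m := by
  apply DS_le_of (na_mem hφ) (nb_mem hφ)
  · rintro g ⟨hg, hf⟩
    exact RS_14_le hφ hg (mem_FS.1 hf φ hS)
  · rintro g ⟨hg, hf⟩
    exact RS_outer_le hφ hg (mem_FS.1 hf φ hS)

theorem tw_le_DS {φ : K →+* K} {m : ℕ} (hφ : ∀ x, φ x = x ^ m) (h3 : ∀ t, φ (φ (φ t)) = t) :
    twistedD4 K m ≤ DS {φ} := by
  have hF : ∀ g : GL chevD4.Idx K, g ∈ fix φ → g ∈ FS {φ} := by
    intro g hg
    rw [FS_singleton]
    exact hg
  apply D4Fixed.twisted_induction hφ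
  · intro t ht
    rw [xU_eq]
    refine RS_O_le (o := [14]) (r := 14) (by decide +kernel) _ ⟨mem_RS (by simp) _, hF _ ?_⟩
    rw [← xU_eq]
    exact D4Fixed.fix_14 φ ht
  · intro t ht
    rw [xU_eq]
    refine RS_O_le (o := [9]) (r := 9) (by decide +kernel) _ ⟨mem_RS (by simp) _, hF _ ?_⟩
    rw [← xU_eq]
    exact D4Fixed.fix_9 φ ht
  · intro t
    refine RS_O_le (o := [18, 13, 12]) (r := 18) (by decide +kernel) _ ⟨?_, hF _ (D4Fixed.fix_X φ (h3 t))⟩
    unfold D4Fixed.X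
    rw [xU_eq, xU_eq, xU_eq]
    exact mul_mem (mul_mem (mem_RS (by simp) _) (mem_RS (by simp) _)) (mem_RS (by simp) _)
  · intro t
    refine RS_O_le (o := [5, 10, 11]) (r := 5) (by decide +kernel) _ ⟨?_, hF _ (D4Fixed.fix_Y φ (h3 t))⟩
    unfold D4Fixed.Y
    rw [xU_eq, xU_eq, xU_eq]
    exact mul_mem (mul_mem (mem_RS (by simp) _) (mem_RS (by simp) _)) (mem_RS (by simp) _)

theorem DS_eq_tw {φ : K →+* K} {m : ℕ} (hφ : ∀ x, φ x = x ^ m) (h3 : ∀ t, φ (φ (φ t)) = t) :
    DS {φ} = twistedD4 K m :=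
  le_antisymm (DS_le_tw hφ rfl) (tw_le_DS hφ h3)

end

/-! ### finite fields -/

section
variable {K : Type u} [Field K] [Fintype K]

/-- the automorphisms of order 3 are powers of the Frobenius automorphism over the fixed field -/
theorem exists_pow {τ : K ≃+* K} (hτ : τ ^ 3 = 1) (hτ1 : τ ≠ 1) : ∃ q : ℕ, IsPrimePow q ∧ Fintype.card K = q ^ 3 ∧
    ((∀ t, τ t = t ^ q) ∨ ∀ t, τ t = t ^ (q ^ 2)) := by
  have hf : Fintype ↥(fixF τ) := Fintype.ofFinite _
  have hcard := card_fixF Nat.prime_three hτ hτ1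
  rw [Nat.card_eq_fintype_card, Nat.card_eq_fintype_card] at hcard
  refine ⟨Fintype.card ↥(fixF τ), FiniteField.isPrimePow_card _, hcard, ?_⟩
  let τ' : Gal(K/↥(fixF τ)) := { τ with commutes' := fun r => r.2 }
  have hb := FiniteField.bijective_frobeniusAlgEquivOfAlgebraic_pow ↥(fixF τ) K
  obtain ⟨⟨n, hn⟩, hn'⟩ := hb.2 τ'
  have hrank : Module.finrank ↥(fixF τ) K = 3 := by
    have h3 := Module.card_eq_pow_finrank (K := ↥(fixF τ)) (V := K)
    rw [hcard] at h3
    exact (Nat.pow_right_injective Fintype.one_lt_card h3).symm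
  rw [hrank] at hn
  have hval : ∀ t, τ t = t ^ (Fintype.card ↥(fixF τ) ^ n) := by
    intro t
    have h1 := DFunLike.congr_fun hn' t
    have h2 : ((FiniteField.frobeniusAlgEquivOfAlgebraic ↥(fixF τ) K ^ n : Gal(K/↥(fixF τ))) : K → K) t =
        t ^ (Fintype.card ↥(fixF τ) ^ n) := by
      rw [AlgEquiv.coe_pow, FiniteField.coe_frobeniusAlgEquivOfAlgebraic_iterate]
    rw [← h2]
    exact h1.symm
  interval_cases n
  · exfalso
    apply hτ1
    ext t
    rw [hval, pow_zero, pow_one]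
    rfl
  · left
    intro t
    rw [hval, pow_one]
  · right
    exact hval

end

section
variable {K : Type} [Field K] [Fintype K] [CharP K 3]

/-- **The group generated by the fixed points of the root groups is a `C₃`-group, isomorphic to `³D₄(q₀)`.** -/
theorem equiv_sem {τ : K ≃+* K} (hτ : τ ^ 3 = 1) (hτ1 : τ ≠ 1) : ∃ q : ℕ, IsPrimePow q ∧
    Fintype.card K = q ^ 3 ∧ Nonempty (↥(DS ({(τ : K →+* K)} : Set (K →+* K))) ≃* ↥(twistedD4 K q)) := by
  have h3 : ∀ t, (τ : K →+* K) ((τ : K →+* K) ((τ : K →+* K) t)) = t := by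
    intro t
    exact DFunLike.congr_fun hτ t
  obtain ⟨q, hq, hK, h | h⟩ := exists_pow hτ hτ1
  · refine ⟨q, hq, hK, ?_⟩
    rw [DS_eq_tw (φ := (τ : K →+* K)) (m := q) h h3]
    exact ⟨MulEquiv.refl _⟩
  · refine ⟨q, hq, hK, ?_⟩
    rw [DS_eq_tw (φ := (τ : K →+* K)) (m := q ^ 2) h h3]
    have h4 : ∀ t : K, t ^ (q ^ 3) = t := by
      intro t
      rw [← hK]
      exact FiniteField.pow_card t
    refine swap_equiv ?_ ?_
    · intro t
      rw [← pow_mul]
      have e : q ^ 2 * q ^ 2 = q ^ 3 * q := by ring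
      rw [e, pow_mul, h4]
    · intro t
      rw [← pow_mul, ← pow_two]

end

end Cfsg.Agent.CpAutTri.TwD

end

-- merged: Cfsg.Agent.CpAutTri.FinD
section

/-!
# Triality of `D₄(q)` in characteristic 3 (S1814)

`res_D4` : the structure of the fixed points; `triD4 : TriD4`.
-/

set_option autoImplicit false
set_option linter.unusedSectionVars false

namespace Cfsg.Agent.CpAutTri.FinD

open Subgroup Cfsg Cfsg.Lie Cfsg.Agent.ChevalleyStructure
open Cfsg.Agent.ChevalleyStructure.D4Comm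
open Cfsg.Agent.ChevalleyStructure.D4RGD
open Cfsg.Agent.ChevalleyStructure.D4U
open Cfsg.Agent.ChevalleyStructure.D4Fixed (sig fix coe_sig mem_fix)
open Cfsg.Agent.LThree (Comps)
open Cfsg.Agent.CpAutTri.Bru
open Cfsg.Agent.CpAutTri.Fam Cfsg.Agent.CpAutTri.Nor Cfsg.Agent.CpAutTri.Gen
open Cfsg.Agent.CpAutTri.Inst Cfsg.Agent.CpAutTri.TriD
open Cfsg.Agent.CpAutTri.Btw Cfsg.Agent.CpAutTri.Coc Cfsg.Agent.CpAutTri.Abs Cfsg.Agent.CpAutTri.StdD
open Cfsg.Agent.CpAut.RgdD4 (Tw hp TriD4)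
open Cfsg.Agent.KFacts.RgdChevCoord (TT XX)
open Cfsg.Agent.CpAut.RgdCoh (conj_mul_eq additive90)

theorem exists_cube {K : Type*} [Field K] [Finite K] [CharP K 3] (c : K) : ∃ t, t ^ 3 = c := by
  have : Fact (Nat.Prime 3) := ⟨Nat.prime_three⟩
  have : ExpChar K 3 := ExpChar.prime Nat.prime_three
  have h1 : Function.Injective (fun t : K => t ^ 3) := by
    intro a b hab
    have h2 : (a - b) ^ 3 = 0 := by
      rw [sub_pow_expChar, sub_eq_zero]
      exact hab
    exact sub_eq_zero.1 (pow_eq_zero_iff (by norm_num) |>.1 h2)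
  exact (Finite.injective_iff_surjective.1 h1) c

theorem na_group (K : Type*) [Field K] : na K ∈ chevD4.group K := by
  have e : na K = xG 14 1 * (xG 9 (-(1 : K)⁻¹) * xG 14 1) := rfl
  rw [e]
  exact mul_mem (Elts.xG_mem_group hD _ _) (mul_mem (Elts.xG_mem_group hD _ _) (Elts.xG_mem_group hD _ _))

theorem nb_group (K : Type*) [Field K] : nb K ∈ chevD4.group K := by
  have h : ∀ (r : ℕ) (t : K), D4NConj.nR r t ∈ chevD4.group K := by
    intro r t
    rw [D4NConj.nR_def]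
    exact mul_mem (Elts.xG_mem_group hD _ _) (mul_mem (Elts.xG_mem_group hD _ _) (Elts.xG_mem_group hD _ _))
  exact mul_mem (mul_mem (h _ _) (h _ _)) (h _ _)

variable {K : Type} [Field K] [Fintype K] [CharP K 3]

theorem hasFilt : KFacts.RgdFilt.HasFilt 3 ↥(chevD4.group K) := by
  have : Fact (Nat.Prime 3) := ⟨Nat.prime_three⟩
  exact KFacts.RgdFiltChev.hasFilt_group hp K 3

/-- linear triality -/
theorem res_one {u : ↥(chevD4.group K)} (hu : (u : GL chevD4.Idx K) ∈ chevD4.posUnipotent K)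
    (hy : orderOf (MulAut.conj u * st (1 : K ≃+* K)) = 3) : Res ↥(fixedSubgroup (MulAut.conj u * st (1 : K ≃+* K))) := by
  obtain ⟨hsim, hc⟩ := Cfsg.Agent.CpAut.RgdD4.simple_D4 (F := K)
  have h13 : (1 : K ≃+* K) ^ 3 = 1 := one_pow 3
  have hid : ((1 : K ≃+* K) : K →+* K) = RingHom.id K := rfl
  have hs : ∀ y : ↥(chevD4.group K), (chevD4.group K).subtype (st (1 : K ≃+* K) y) =
      sig (RingHom.id K) ((chevD4.group K).subtype y) := by
    intro y
    show ((st (1 : K ≃+* K) y : ↥(chevD4.group K)) : GL chevD4.Idx K) = _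
    rw [coe_st h13, hid]
    rfl
  have hF : ∀ l : List ℕ, RS K l ⊓ FS (∅ : Set (K →+* K)) = RS K l := fun l => by rw [FS_empty, inf_top_eq]
  have T := tri (K := K) exists_cube ∅ (G := chevD4.group K) (inf_le_left.trans (Elts.posUnipotent_le_group hD K))
    (na_group K) (nb_group K) (by rw [hF]; exact (orbA _).h1_free) (by rw [hF]; exact (orb1 _).h1_free)
    (by rw [hF]; exact (orb2 _).h1_free)
  have hfix : ∀ y : ↥(chevD4.group K), y ∈ fixedSubgroup (st (1 : K ≃+* K)) ↔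
      (y : GL chevD4.Idx K) ∈ FS ({RingHom.id K} : Set (K →+* K)) := by
    intro y
    rw [FS_singleton]
    constructor
    · intro h
      have h1 : st (1 : K ≃+* K) y = y := h
      have h2 := hs y
      rw [h1] at h2
      exact h2.symm
    · intro h
      apply Subtype.ext
      have h2 := hs y
      exact h2.trans h
  have h := dic_std (ι := (chevD4.group K).subtype) (chevD4.group K).subtype_injective hasFilt hc (st_pow h13) hs
    (S' := ∅) (S := {RingHom.id K}) rfl (fun y => y.2) (fun y hy => ⟨y.2, (hfix y).1 hy⟩)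
    (fun g hg => ⟨⟨g, DS_le_G _ hg⟩, (hfix _).2 (DS_le_FS _ hg), rfl⟩)
    (fun u hu hN => by
      rw [Subgroup.range_subtype]
      exact T.main hu hN) (u := u) ⟨hu, by rw [FS_empty]; trivial⟩ hy
  have : CharP ↥(kF ({RingHom.id K} : Set (K →+* K))) 3 :=
    (RingHom.charP_iff (kF _).subtype (kF _).subtype_injective 3).2 inferInstance
  exact res_of_dic h

/-- semilinear triality -/
theorem res_sem {τ : K ≃+* K} (hτ : τ ^ 3 = 1) (hτ1 : τ ≠ 1) {u : ↥(chevD4.group K)}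
    (hu : (u : GL chevD4.Idx K) ∈ chevD4.posUnipotent K)
    (hy : orderOf (MulAut.conj u * st τ) = 3) : Res ↥(fixedSubgroup (MulAut.conj u * st τ)) := by
  obtain ⟨hsim, hc⟩ := Cfsg.Agent.CpAut.RgdD4.simple_D4 (F := K)
  have hZ : center ↥(chevD4.group K) = ⊥ := KFacts.RgdLieCharP.center_eq_bot hc
  have hy3 : (MulAut.conj u * st τ) ^ 3 = 1 := by rw [← hy, pow_orderOf_eq_one]
  have hN := norm_eq_one hZ (st_pow hτ) hy3
  have hcube : ∀ t, (τ : K →+* K) ((τ : K →+* K) ((τ : K →+* K) t)) = t := cube_of_pow hτ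
  have h90 : ∀ a : K, a + (τ : K →+* K) a + (τ : K →+* K) ((τ : K →+* K) a) = 0 → ∃ s, a = s - (τ : K →+* K) s := by
    intro a ha
    obtain ⟨b, hb⟩ := additive90 Nat.prime_three hτ hτ1 (a := a) (by
      rw [Finset.sum_range_succ, Finset.sum_range_succ, Finset.sum_range_one]
      exact ha)
    refine ⟨-b, ?_⟩
    rw [map_neg, hb, sub_neg_eq_add, neg_add_eq_sub]
    rfl
  have hN' : (u : GL chevD4.Idx K) * sig (τ : K →+* K) u * sig (τ : K →+* K) (sig (τ : K →+* K) u) = 1 := by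
    rw [← coe_st hτ, ← coe_st hτ, ← Subgroup.coe_mul, ← Subgroup.coe_mul, hN, Subgroup.coe_one]
  obtain ⟨v, hv, e⟩ := Sem.h1_U hcube h90 u hu hN'
  have hvG : v ∈ chevD4.group K := Elts.posUnipotent_le_group hD K hv
  obtain ⟨v', hv'⟩ : ∃ v' : ↥(chevD4.group K), v' = ⟨v, hvG⟩ := ⟨_, rfl⟩
  have e1 : u = v' * (st τ v')⁻¹ := by
    apply Subtype.ext
    rw [Subgroup.coe_mul, Subgroup.coe_inv, coe_st hτ, hv']
    exact e
  have e2 : MulAut.conj u * st τ = MulAut.conj v' * st τ * (MulAut.conj v')⁻¹ := by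
    have h3 := conj_mul_eq (st τ) v'⁻¹
    rw [map_inv, map_inv (st τ), map_inv] at h3
    rw [e1, map_mul, map_inv, mul_assoc, ← h3]
    group
  obtain ⟨f⟩ := fix_equiv e2
  refine Res.congr f ?_
  -- the fixed points of `st τ`
  have hfix : ∀ y : ↥(chevD4.group K), y ∈ fixedSubgroup (st τ) ↔
      (y : GL chevD4.Idx K) ∈ FS ({(τ : K →+* K)} : Set (K →+* K)) := by
    intro y
    rw [FS_singleton]
    constructor
    · intro h
      have h1 : st τ y = y := h
      have h2 := coe_st hτ y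
      rw [h1] at h2
      exact h2.symm
    · intro h
      apply Subtype.ext
      rw [coe_st hτ]
      exact h
  have hS : ({(τ : K →+* K)} : Set (K →+* K)).Nonempty := Set.singleton_nonempty _
  have h1 : ∀ y ∈ fixedSubgroup (st τ), (chevD4.group K).subtype y ∈ CS ({(τ : K →+* K)} : Set (K →+* K)) :=
    fun y hy => ⟨y.2, (hfix y).1 hy⟩
  have h2 : ∀ g ∈ DS ({(τ : K →+* K)} : Set (K →+* K)), ∃ y ∈ fixedSubgroup (st τ),
      (chevD4.group K).subtype y = g := fun g hg => ⟨⟨g, DS_le_G _ hg⟩, (hfix _).2 (DS_le_FS _ hg), rfl⟩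
  obtain ⟨q, hq, hK, ⟨g⟩⟩ := TwD.equiv_sem hτ hτ1
  obtain ⟨k⟩ := equiv_of_between (chevD4.group K).subtype_injective h2
  exact Or.inr ⟨_, normal_of_between hS h1, Or.inr ⟨K, inferInstance, inferInstance, inferInstance, q, hq, hK,
    ⟨k.trans g⟩⟩, solvable_of_between hS h1⟩

/-- **The fixed points of triality of `D₄(K)` in characteristic 3.** -/
theorem res_D4 {x : MulAut ↥(chevD4.group K)} (hx : orderOf x = 3)
    (hT : Tw coxeterD4.toCoxeterSystem hp.isCartan 3 (TT chevD4 K) (XX chevD4 4 K) x) : Res ↥(fixedSubgroup x) := by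
  obtain ⟨τ, hτ, e, u, hu, h⟩ := red_D4 hT
  have key : ∀ y : MulAut ↥(chevD4.group K), orderOf y = 3 → y = e * (MulAut.conj u * st τ) * e⁻¹ →
      Res ↥(fixedSubgroup y) := by
    intro y hy hye
    have hord : orderOf (MulAut.conj u * st τ) = 3 := by
      rw [← orderOf_conj_eq e, ← hye, hy]
    obtain ⟨f⟩ := fix_equiv hye
    refine Res.congr f ?_
    by_cases hτ1 : τ = 1
    · subst hτ1
      exact res_one hu hord
    · exact res_sem hτ hτ1 hu hord
  rcases h with h | h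
  · exact key x hx h
  · have h1 := key x⁻¹ (by rw [orderOf_inv, hx]) h
    rwa [fix_inv] at h1

/-- **`TriD4`.** -/
theorem triD4 : TriD4 := by
  intro K _ _ _ x hx hT
  exact (res_D4 hx hT).comps

end Cfsg.Agent.CpAutTri.FinD

end

private theorem dce_7ecb3b5fdab7 : _root_.True := by
  try have : _root_.True := by simp only [_root_.Cfsg.Agent.CpAutTri.Nor.O.eq_1]
  try have : _root_.True := by simp only [_root_.Cfsg.Agent.CpAutTri.Fam.rhoN.eq_1]
  try have : _root_.True := by simp only [_root_.Cfsg.Agent.CpAutTri.TriD.w1.eq_1]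
  try have : _root_.True := by simp only [_root_.Cfsg.Agent.CpAutTri.Gen.X.eq_1]
  try have : _root_.True := by simp only [_root_.Cfsg.Agent.CpAutTri.Iota.gens.eq_1]
  try have : _root_.True := by simp only [_root_.Cfsg.Agent.CpAutTri.TriD.w2.eq_1]
  try have : _root_.True := by simp only [_root_.Cfsg.Agent.CpAutTri.Gen.Y.eq_1]
  try have : _root_.True := by simp only [_root_.Cfsg.Agent.CpAutTri.Gen.orbs.eq_1]
  try have : _root_.True := by simp only [_root_.Cfsg.Agent.CpAutTri.Fam.epsN.eq_1]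
  exact _root_.True.intro
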